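import Cfsg.Agent.RankOneClass.Odd.Members

/-!
# Coherence of the family and the residual estimate
-/

set_option autoImplicit false
set_option linter.unusedSectionVars false

namespace Cfsg.Agent.RankOneClass.Odd

open Subgroup MulAction Cfsg.Agent.RankOne Cfsg.Agent.Zassenhaus
open scoped ComplexConjugate _root_.Classical

universe u v

variable {G : Type u} {Ω : Type v} [Group G] [Fintype G] [MulAction G Ω] {a : Ω} {t : G}
  {Q S O : Subgroup G}

/-- The principal character. -/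
noncomputable def oneChr (H : Type u) [Group H] : IrrCharacter H := ⟨_, Char.isIrrCharacter_one⟩

theorem cdeg_oneChr (H : Type u) [Group H] [Finite H] : cdeg (oneChr H) = 1 :=
  cdeg_eq (by simp [oneChr])

theorem actC_oneChr {D R : Subgroup G} (h : NormBy D R) (d : ↥D) :
    actC h d (oneChr ↥R) = oneChr ↥R := Subtype.ext (funext fun _ => rfl)

variable (hc : Cfg a t Q S O)
  {lam : IrrCharacter ↥O} (hlam : cdeg lam = 1) (hne : (lam : ↥O → ℂ) ≠ fun _ => 1)
  {M : ℕ} (hM : Nat.card S = M * qq G a)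
include hc hlam hne hM

theorem Cfg.weight_rows :
    (Nat.card (stabC hc.dec.normO lam) : ℤ) * (hc.fam hne).W =
      2 * ((∑ η ∈ regSet hc.dec (stabC hc.dec.normO lam), cdeg η * cdeg η : ℕ) : ℤ) := by
  have h := hc.sum_rows hlam hne (fun f => f * f)
  have h' := congrArg (Nat.cast : ℕ → ℤ) h
  push_cast at h' ⊢
  exact h'

theorem Cfg.reg_le : (qq G a - 2) * M ≤
    ∑ η ∈ regSet hc.dec (stabC hc.dec.normO lam), cdeg η * cdeg η :=
  reg_weight hc.ctx hc.dec hc.pair hM (hc.lone hne) (hc.stab_facts hne).2.2.2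

theorem Cfg.mult_shape : M = 1 ∨ M = qq G a ∨ qq G a * qq G a ≤ M := by
  obtain ⟨j, hj⟩ := exists_mult hc.ctx hc.dec hc.pair
  have hq := hc.ctx.four_le_qq
  obtain rfl : M = qq G a ^ j := Nat.eq_of_mul_eq_mul_right (by omega) (hM.symm.trans hj)
  rcases j with _ | _ | j
  · exact Or.inl (pow_zero _)
  · exact Or.inr (Or.inl (pow_one _))
  · exact Or.inr (Or.inr (by
      rw [← pow_two]; exact Nat.pow_le_pow_right (by omega) (by omega)))

theorem Cfg.exists_family_part : Nonempty (Part (hc.fam hne).rows Finset.univ) := by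
  obtain ⟨hsv, hodd, -, hLp⟩ := hc.stab_facts hne
  set L := stabC hc.dec.normO lam with hLdef
  set hT := hc.fam hne
  have hq := hc.ctx.four_le_qq
  obtain ⟨C, hC2, hC0, A, hA, hCle⟩ := exists_lin_bound hc.ctx hc.dec hc.pair hM (hc.lone hne) hLp
  set R1 := ((regSet hc.dec L).filter fun η => cdeg η = 1).card with hR1def
  have hR : M ≤ R1 + C := by
    refine hCle.trans (Nat.add_le_add_right (Finset.card_le_card fun η hη => ?_) _)
    exact Finset.mem_filter.2 ⟨(hA η hη).1, cdeg_eq_one_of_om hc.pair (hA η hη).2⟩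
  have hN : Nat.card L * (linJ hT.rows).card = 2 * R1 := by
    rw [linJ, Finset.card_filter, hR1def, Finset.card_filter]
    exact hc.sum_rows hlam hne (fun f => if f = 1 then 1 else 0)
  have ho : Nat.card L = 1 → C = 0 := fun e => hC0 (Subgroup.eq_bot_of_card_eq _ e)
  have hMs := hc.mult_shape hlam hne hM
  have hM1 : M = 1 → qq G a - 2 ≤ R1 := by
    intro e
    have h := hc.reg_le hlam hne hM
    rw [e, mul_one] at h
    refine h.trans (le_of_eq ?_)
    rw [hR1def, Finset.card_eq_sum_ones, Finset.sum_filter]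
    refine Finset.sum_congr rfl fun η _ => ?_
    have h1 := sq_cdeg_le hc.ctx hc.dec hc.pair hM η
    have h2 := (cdeg_spec η).1
    have h3 : cdeg η = 1 := by
      rw [e] at h1
      exact le_antisymm ((Nat.le_mul_self _).trans h1) h2
    rw [if_pos h3, h3]
  refine exists_part hT.rows ?_ fun i hi => ?_
  · refine three_rows hq hsv ?_ hC2 ho hR hM1 hN
    rcases hMs with h | h | h
    · exact Or.inl h
    · exact Or.inr h.ge
    · exact Or.inr (le_trans (Nat.le_mul_self _) h)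
  · obtain ⟨η, hη, d, b, e⟩ := (hc.mem_members hne).1 (rep_mem i)
    have hfi : hT.rows.f i = cdeg η := by rw [hT.rows_f, ← e, hc.cdeg_gen hlam]
    have hfM : hT.rows.f i * hT.rows.f i ≤ M := hfi ▸ sq_cdeg_le hc.ctx hc.dec hc.pair hM η
    have hMq : M = qq G a ∨ qq G a * qq G a ≤ M := by
      rcases hMs with h | h
      · exfalso; rw [h] at hfM; nlinarith
      · exact h
    have hqM : qq G a ≤ M := by
      rcases hMq with h | h
      · exact h.ge
      · exact le_trans (Nat.le_mul_self _) h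
    have hf2 : ∃ e, hT.rows.f i = 2 ^ e := by
      haveI : Fact (Nat.Prime 2) := ⟨Nat.prime_two⟩
      obtain ⟨n, hn⟩ := IsPGroup.iff_card.1 hc.dec.two
      obtain ⟨j, -, hj⟩ := (Nat.dvd_prime_pow Nat.prime_two).1 (hn ▸ cdeg_dvd η)
      exact ⟨j, hfi.trans hj⟩
    rcases grow_bound hq hsv hodd hMq hf2 hi hfM hC2 ho hR hN with h | ⟨h, hq8, ho3⟩
    · exact Or.inl h
    refine Or.inr ⟨h, mv (hc.dec.chr (oneChr ↥S) lam), 3, ?_⟩
    set θ := hc.dec.chr (oneChr ↥S) lam
    have hstab : Nat.card {d : ↥(twoPt G a t) // actC (frame hc.ctx).norm d θ = θ} = 3 := by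
      rw [← ho3]
      refine Nat.card_congr (Equiv.subtypeEquivRight fun d => ?_)
      rw [hLdef, mem_stabC, hc.dec.actC_chr, hc.dec.chr_inj, actC_oneChr, eq_self_iff_true, true_and]
    have hθT : θ ∉ members hc lam := fun hm => by
      have := hT.card_maps (θ' := θ) hm
      rw [hstab, if_pos ⟨1, actC_one _ _⟩] at this
      omega
    have hdeg : cdeg θ = 1 := by rw [hc.dec.cdeg_chr, cdeg_oneChr, hlam]
    refine ⟨fun j => ?_, ?_, ?_, by norm_num, ?_, ?_⟩
    · rw [hT.ip_rep θ hθT j, hdeg]; push_cast; ring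
    · rw [ip_mv, (frame hc.ctx).gram, hstab, hdeg]; simp [Fam.rows]
    · show ip (mv θ) (mv θ ∘ conjPerm) = _
      rw [← mv_conj', ip_mv, (frame hc.ctx).gram, cdeg_conjIrr, hdeg]
      haveI : IsEmpty {d : ↥(twoPt G a t) // actC (frame hc.ctx).norm d θ = Char.conjIrr θ} :=
        ⟨fun ⟨d, h⟩ => by
          rw [hc.dec.conjIrr_chr, hc.dec.actC_chr, hc.dec.chr_inj] at h
          exact hc.conj_ne hne _ h.2⟩
      rw [Nat.card_of_isEmpty]
      simp [Fam.rows]
    · have : 4 ≤ (linJ hT.rows).card := by omega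
      have : (4 : ℤ) ≤ (linJ hT.rows).card := by exact_mod_cast this
      linarith
    · have hcl := class_bound hc.ctx hc.dec hc.pair hM (hc.lone hne) hLp (η := η) (hfi ▸ hi)
      have hs := hc.sum_rows hlam hne (fun f => if f = hT.rows.f i then 1 else 0)
      rw [← Finset.card_filter, ← Finset.card_filter, hfi, ← hLdef, ho3] at hs
      rw [hq8, ← hLdef] at hcl
      rw [hfi]
      have : 3 < (Finset.univ.filter fun j => hT.rows.f j = cdeg η).card := by omega
      exact_mod_cast this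

variable (P : Part (hc.fam hne).rows Finset.univ)

omit hlam hM in
/-- The residual function. -/
noncomputable def Cfg.resid (z : G) (x : ↥Q) : ℂ :=
  (hc.fam hne).Rf P z - (P.ε : ℂ) * ∑ θ ∈ members hc lam, (cdeg θ : ℂ) * (θ : ↥Q → ℂ) x

theorem Cfg.exists_lin_row : ∃ i : Idx (members hc lam), (hc.fam hne).rows.f i = 1 := by
  obtain ⟨hsv, -, -, hLp⟩ := hc.stab_facts hne
  obtain ⟨C, hC2, hC0, A, hA, hCle⟩ := exists_lin_bound hc.ctx hc.dec hc.pair hM (hc.lone hne) hLp
  suffices h : ((regSet hc.dec (stabC hc.dec.normO lam)).filter fun η => cdeg η = 1).Nonempty by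
    obtain ⟨η, hη⟩ := h
    obtain ⟨hη, h1⟩ := Finset.mem_filter.1 hη
    have hm : genMem hc lam (η, 1, false) ∈ members hc lam :=
      (hc.mem_members hne).2 ⟨η, hη, 1, false, rfl⟩
    exact ⟨idx _ hm, by rw [(hc.fam hne).rows_f, (hc.fam hne).f_idx hm, hc.cdeg_gen hlam]; exact h1⟩
  rcases hc.mult_shape hlam hne hM with h1 | hMq
  · have h := hc.reg_le hlam hne hM
    rw [h1, mul_one] at h
    have hq := hc.ctx.four_le_qq
    obtain ⟨η, hη⟩ : (regSet hc.dec (stabC hc.dec.normO lam)).Nonempty := by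
      by_contra hempty
      rw [Finset.not_nonempty_iff_eq_empty] at hempty
      rw [hempty, Finset.sum_empty] at h
      omega
    refine ⟨η, Finset.mem_filter.2 ⟨hη, ?_⟩⟩
    have h2 := sq_cdeg_le hc.ctx hc.dec hc.pair hM η
    rw [h1] at h2
    exact le_antisymm ((Nat.le_mul_self _).trans h2) (cdeg_spec η).1
  · have hq := hc.ctx.four_le_qq
    have hM4 : 4 ≤ M := by
      rcases hMq with h | h
      · omega
      · exact le_trans (le_trans hq (Nat.le_mul_self _)) h
    have hCM : C < M := by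
      by_contra hlt
      have := Nat.mul_le_mul (not_lt.1 hlt) (not_lt.1 hlt)
      nlinarith
    obtain ⟨η, hη⟩ := Finset.card_pos.1 (show 0 < A.card by omega)
    exact ⟨η, Finset.mem_filter.2 ⟨(hA η hη).1, cdeg_eq_one_of_om hc.pair (hA η hη).2⟩⟩

theorem Cfg.coef_eq {μ : IrrCharacter ↥O} (hμ : (μ : ↥O → ℂ) ≠ fun _ => 1) :
    ∃ γ : ℤ, ∀ η : IrrCharacter ↥S, (hc.fam hne).coef P (hc.dec.chr η μ) -
      (if hc.dec.chr η μ ∈ members hc lam then P.ε * cdeg (hc.dec.chr η μ) else 0) = γ * cdeg η := by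
  have hq := hc.ctx.four_le_qq
  have hsv := (hc.stab_facts hne).1
  have hsv' := (hc.stab_facts hμ).1
  have hW := hc.weight_rows hlam hne hM
  have hR := hc.reg_le hlam hne hM
  set o := Nat.card (stabC hc.dec.normO lam)
  set RW := ∑ η ∈ regSet hc.dec (stabC hc.dec.normO lam), cdeg η * cdeg η
  have hstab : ∀ η : IrrCharacter ↥S,
      Nat.card {d : ↥(twoPt G a t) // actC (frame hc.ctx).norm d (hc.dec.chr η μ) = hc.dec.chr η μ} ≤
        Nat.card (stabC hc.dec.normO μ) := by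
    intro η
    refine Nat.card_le_card_of_injective (fun d => ⟨d.1, ?_⟩)
      fun d d' e => Subtype.ext (congrArg (fun x : ↥(stabC hc.dec.normO μ) => x.1) e)
    have h := d.2
    rw [hc.dec.actC_chr, hc.dec.chr_inj] at h
    exact h.2
  have hnr : ∀ η η' : IrrCharacter ↥S, ∀ d, actC (frame hc.ctx).norm d (hc.dec.chr η μ) ≠
      Char.conjIrr (hc.dec.chr η' μ) := fun η η' d e => by
    rw [hc.dec.conjIrr_chr, hc.dec.actC_chr, hc.dec.chr_inj] at e
    exact hc.conj_ne hμ _ e.2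
  by_cases horb : ∃ d b, actC hc.dec.normO d (selC lam b) = μ
  · obtain ⟨d, b, rfl⟩ := horb
    obtain ⟨i₀, h0⟩ := hc.exists_lin_row hlam hne hM
    have hdμ : cdeg (actC hc.dec.normO d (selC lam b)) = 1 := by
      rw [cdeg_actC]; cases b <;> simp [selC, cdeg_conjIrr, hlam]
    refine ⟨P.x * (hc.fam hne).W, fun η => ?_⟩
    have hdeg : cdeg (hc.dec.chr η (actC hc.dec.normO d (selC lam b))) = cdeg η := by
      rw [hc.dec.cdeg_chr, hdμ, mul_one]
    by_cases hmem : hc.dec.chr η (actC hc.dec.normO d (selC lam b)) ∈ members hc lam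
    · rw [if_pos hmem, (hc.fam hne).coef_mem P hmem, hdeg]; ring
    rw [if_neg hmem, sub_zero, (hc.fam hne).coef_own P hmem (hnr η η) h0, hdeg]
    · ring
    rw [hdeg]
    have hle : Nat.card {c : ↥(twoPt G a t) // actC (frame hc.ctx).norm c
        (hc.dec.chr η (actC hc.dec.normO d (selC lam b))) =
          hc.dec.chr η (actC hc.dec.normO d (selC lam b))} ≤ o := by
      refine (hstab η).trans (le_of_eq ?_)
      refine (Nat.card_congr ?_).trans (congrArg (fun L : Subgroup _ => Nat.card L)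
        (hc.sel_stab hne b))
      exact
        { toFun := fun x => ⟨d⁻¹ * x.1 * d, by
            rw [mem_stabC, actC_mul, actC_mul, (mem_stabC _).1 x.2, actC_inv_cancel]⟩
          invFun := fun x => ⟨d * x.1 * d⁻¹, by
            rw [mem_stabC, actC_mul, actC_mul, actC_inv_cancel, (mem_stabC _).1 x.2]⟩
          left_inv := fun x => Subtype.ext (by simp [mul_assoc])
          right_inv := fun x => Subtype.ext (by simp [mul_assoc]) }
    have hb := own_bound hq hsv (sq_cdeg_le hc.ctx hc.dec hc.pair hM η) (cdeg_spec η).1 hR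
    have h' := Nat.mul_le_mul_left o (Nat.add_le_add_right hle (4 * cdeg η))
    have hz : (o : ℤ) * ((Nat.card {c : ↥(twoPt G a t) // actC (frame hc.ctx).norm c
        (hc.dec.chr η (actC hc.dec.normO d (selC lam b))) =
          hc.dec.chr η (actC hc.dec.normO d (selC lam b))} : ℤ) + 4 * cdeg η) < (o : ℤ) * (2 * (hc.fam hne).W) := by
      rw [mul_left_comm (o : ℤ) 2, hW, ← mul_assoc]
      exact_mod_cast lt_of_le_of_lt h' hb
    exact lt_of_mul_lt_mul_left hz (Int.natCast_nonneg _)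
  · have hout : ∀ η, hc.dec.chr η μ ∉ members hc lam := fun η hm => horb (hc.orbit_of_mem hne hm)
    refine ⟨(hc.fam hne).coef P (hc.dec.chr (oneChr ↥S) μ), fun η => ?_⟩
    rw [if_neg (hout η), sub_zero]
    by_cases h1 : η = oneChr ↥S
    · rw [h1, cdeg_oneChr]; push_cast; ring
    rw [(hc.fam hne).coef_foreign P (hout η) (hout (oneChr ↥S)) (η := cdeg η) ?_ ?_ (hnr η η) (hnr _ _)
      (hnr η _) ?_, mul_comm]
    · rw [hc.dec.cdeg_chr, hc.dec.cdeg_chr, cdeg_oneChr, one_mul]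
    · intro d e
      rw [hc.dec.actC_chr, hc.dec.chr_inj] at e
      exact h1 (actC_injective hc.dec.normS d (e.1.trans (actC_oneChr _ d).symm))
    have hM1 : 1 ≤ M := le_trans (Nat.mul_pos (cdeg_spec η).1 (cdeg_spec η).1)
      (sq_cdeg_le hc.ctx hc.dec hc.pair hM η)
    have hb := foreign_bound hq hsv hsv' (sq_cdeg_le hc.ctx hc.dec hc.pair hM η) hM1 hR
    have h' := Nat.mul_le_mul_left o (Nat.add_le_add (hstab η)
      (Nat.mul_le_mul_left (cdeg η * cdeg η) (hstab (oneChr ↥S))))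
    have hz : (o : ℤ) * ((Nat.card {d : ↥(twoPt G a t) // actC (frame hc.ctx).norm d
        (hc.dec.chr η μ) = hc.dec.chr η μ} : ℤ) + (cdeg η : ℤ) * cdeg η *
          Nat.card {d : ↥(twoPt G a t) // actC (frame hc.ctx).norm d
            (hc.dec.chr (oneChr ↥S) μ) = hc.dec.chr (oneChr ↥S) μ}) < (o : ℤ) * (2 * (hc.fam hne).W) := by
      rw [mul_left_comm (o : ℤ) 2, hW, ← mul_assoc]
      exact_mod_cast lt_of_le_of_lt h' hb
    exact lt_of_mul_lt_mul_left hz (Int.natCast_nonneg _)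

theorem Cfg.resid_indep (z : ↥S) (hz : z ≠ 1) (y : ↥O) :
    hc.resid hne P ((z : G) * y) ⟨(z : G) * y, mul_mem (hc.dec.S_le z.2) (hc.dec.O_le y.2)⟩ =
      hc.resid hne P (z : G) ⟨z, hc.dec.S_le z.2⟩ := by
  let c : IrrCharacter ↥Q → ℂ := fun θ =>
    (((hc.fam hne).coef P θ - if θ ∈ members hc lam then P.ε * cdeg θ else 0 : ℤ) : ℂ)
  have hexp : ∀ x : ↥Q, hc.resid hne P x x = ∑ θ : IrrCharacter ↥Q, c θ * (θ : ↥Q → ℂ) x := by
    intro x
    simp only [Cfg.resid, (hc.fam hne).Rf_res, c]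
    push_cast
    simp only [sub_mul, Finset.sum_sub_distrib, ite_mul, zero_mul, Finset.sum_ite_mem,
      Finset.univ_inter, Finset.mul_sum]
    congr 1
    exact Finset.sum_congr rfl fun θ _ => by ring
  let e : IrrCharacter ↥S × IrrCharacter ↥O ≃ IrrCharacter ↥Q :=
    Equiv.ofBijective (fun p => hc.dec.chr p.1 p.2)
      ⟨fun p r he => Prod.ext (hc.dec.chr_inj.1 he).1 (hc.dec.chr_inj.1 he).2,
        fun θ => let ⟨η, μ, he⟩ := hc.dec.exists_chr θ; ⟨(η, μ), he⟩⟩
  have he : ∀ η μ, e (η, μ) = hc.dec.chr η μ := fun _ _ => rfl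
  have hval : ∀ w : ↥O, hc.resid hne P ((z : G) * w)
      ⟨(z : G) * w, mul_mem (hc.dec.S_le z.2) (hc.dec.O_le w.2)⟩ =
        ∑ η : IrrCharacter ↥S, c (hc.dec.chr η (oneChr ↥O)) * (η : ↥S → ℂ) z := by
    intro w
    rw [hexp ⟨_, mul_mem (hc.dec.S_le z.2) (hc.dec.O_le w.2)⟩, ← e.sum_comp,
      Fintype.sum_prod_type_right, Finset.sum_eq_single (oneChr ↥O)]
    · simp only [he, Dec.chr_apply, hc.dec.equiv_mul z w]
      simp [oneChr]
    · intro μ _ hμ1
      obtain ⟨γ, hγ⟩ := hc.coef_eq hlam hne hM P (μ := μ) fun h => hμ1 (Subtype.ext h)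
      have hη : ∀ η : IrrCharacter ↥S, c (hc.dec.chr η μ) = (γ : ℂ) * (η : ↥S → ℂ) 1 := fun η => by
        simp only [c]
        rw [hγ η, (cdeg_spec η).2]
        push_cast
        rfl
      simp only [he, Dec.chr_apply, hc.dec.equiv_mul z w, hη]
      rw [Finset.sum_congr rfl fun (η : IrrCharacter ↥S) _ => show (γ : ℂ) * (η : ↥S → ℂ) 1 *
          ((η : ↥S → ℂ) z * (μ : ↥O → ℂ) w) =
          ((γ : ℂ) * (μ : ↥O → ℂ) w) * ((η : ↥S → ℂ) 1 * (η : ↥S → ℂ) z) by ring,
        ← Finset.mul_sum, Char.regular_eq_sum, if_neg hz, mul_zero]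
    · exact fun h => absurd (Finset.mem_univ _) h
  have h1 := hval 1
  simp only [Subgroup.coe_one, mul_one] at h1
  rw [hval y, h1]

/-- The norm of the family bounds the residual value. -/
theorem Cfg.resid_bound {z : G} (hz : z ∈ zSharp G a) :
    Complex.normSq (hc.resid hne P z ⟨z, hc.ctx.zGrp_le (mem_zSharp.1 hz).1⟩) ≤
      (Nat.card S : ℝ) * Nat.card (vGrp G a t) * ((hc.fam hne).W : ℝ) := by
  set c0 := hc.resid hne P z ⟨z, hc.ctx.zGrp_le (mem_zSharp.1 hz).1⟩ with hc0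
  let U : Finset G := (zSharp G a ×ˢ (Finset.univ : Finset ↥O)).image fun p => p.1 * (p.2 : G)
  have hinj : Set.InjOn (fun p : G × ↥O => p.1 * (p.2 : G))
      ↑(zSharp G a ×ˢ (Finset.univ : Finset ↥O)) := by
    rintro ⟨w, y⟩ hw ⟨w', y'⟩ hw' (e : w * y = w' * y')
    simp only [Finset.coe_product, Set.mem_prod, Finset.mem_coe, Finset.coe_univ, Set.mem_univ,
      and_true] at hw hw'
    have h1 : w'⁻¹ * w = (y' : G) * (y : G)⁻¹ := by
      rw [eq_mul_inv_iff_mul_eq, mul_assoc, e, inv_mul_cancel_left]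
    have h2 := hc.dec.disj _ (mul_mem (inv_mem (hc.zle (mem_zSharp.1 hw').1))
      (hc.zle (mem_zSharp.1 hw).1)) (h1 ▸ mul_mem y'.2 (inv_mem y.2))
    obtain rfl := inv_mul_eq_one.1 h2
    exact Prod.ext rfl (Subtype.ext (mul_left_cancel e))
  have hcls : IsClassFunction G ((hc.fam hne).Rf P) := fun g x => by
    simp only [Fam.Rf]
    exact Finset.sum_congr rfl fun i _ => by rw [Char.isClassFunction_of_isIrr (P.e i).2 g x]
  have hU : ∀ x ∈ U, x • a = a ∧ ∀ c : Ω, x • c = c → c = a := by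
    intro x hx
    obtain ⟨⟨w, y⟩, hwy, rfl⟩ := Finset.mem_image.1 hx
    have hw := (Finset.mem_product.1 hwy).1
    have hQ : w * (y : G) ∈ Q :=
      mul_mem (hc.dec.S_le (hc.zle (mem_zSharp.1 hw).1)) (hc.dec.O_le y.2)
    refine ⟨smul_a_of_mem_Q hc.ctx.setup hQ, fun c h => fixes_only hc.ctx.setup hQ (fun e => ?_) h⟩
    have hw1 : w = (y : G)⁻¹ := eq_inv_of_mul_eq_one_left e
    exact (mem_zSharp.1 hw).2 (hc.dec.disj w (hc.zle (mem_zSharp.1 hw).1) (hw1 ▸ inv_mem y.2))
  have hle := sum_conjugates_le hc.ctx hU (fun g => Complex.normSq ((hc.fam hne).Rf P g))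
    (fun g => Complex.normSq_nonneg _) (fun g x => by rw [hcls x g])
  have hG : ∑ g : G, Complex.normSq ((hc.fam hne).Rf P g) = (Nat.card G : ℝ) * ((hc.fam hne).W : ℝ) := by
    have h := (hc.fam hne).norm_Rf P
    simp only [Complex.mul_conj] at h
    exact_mod_cast h
  rw [hG, Finset.sum_image hinj, Finset.sum_product] at hle
  have hlow : ∀ w ∈ zSharp G a, (Nat.card O : ℝ) * Complex.normSq c0 ≤
      ∑ y : ↥O, Complex.normSq ((hc.fam hne).Rf P (w * y)) := by
    intro w hw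
    obtain ⟨hwZ, hw1⟩ := mem_zSharp.1 hw
    let al : ↥O → ℂ := fun y => ∑ θ ∈ members hc lam, (cdeg θ : ℂ) *
      (θ : ↥Q → ℂ) ⟨w * y, mul_mem (hc.dec.S_le (hc.zle hwZ)) (hc.dec.O_le y.2)⟩
    have hR : ∀ y : ↥O, (hc.fam hne).Rf P (w * y) = c0 + (P.ε : ℂ) * al y := by
      intro y
      have h := hc.resid_indep hlam hne hM P ⟨w, hc.zle hwZ⟩
        (fun e => hw1 (congrArg Subtype.val e)) y
      have hzw : hc.resid hne P w ⟨w, hc.dec.S_le (hc.zle hwZ)⟩ = c0 := by
        obtain ⟨k, hk⟩ := isConj_iff.1 ((invols_class hc.ctx hz w).1 (zSharp_sub hc.ctx hw))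
        simp only [hc0, Cfg.resid]
        rw [(hc.fam hne).sum_apply, (hc.fam hne).sum_apply]
        · simp only [← hk, hcls z k, Char.isClassFunction_indFun Q _ z k]
        · exact fun e => (mem_zSharp.1 hz).2 (congrArg Subtype.val e)
        · exact fun e => hw1 (congrArg Subtype.val e)
      rw [← hzw, ← h]
      simp [Cfg.resid, al]
    have hsum : ∑ y : ↥O, al y = 0 := by
      simp only [al]
      rw [Finset.sum_comm]
      refine Finset.sum_eq_zero fun θ hθ => ?_
      obtain ⟨η, μ, rfl⟩ := hc.dec.exists_chr θ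
      obtain ⟨d, b, hd⟩ := hc.orbit_of_mem hne hθ
      have hμ : μ ≠ oneChr ↥O := fun e => by
        rw [e] at hd
        exact hc.sel_ne hne b (congrArg Subtype.val
          (actC_injective hc.dec.normO d (hd.trans (actC_oneChr _ d).symm)))
      have h0 : ∑ y : ↥O, (μ : ↥O → ℂ) y = 0 := by
        have h := Char.classInner_irr_ne μ.2 (oneChr ↥O).2 fun e => hμ (Subtype.ext e)
        simpa [classInner, oneChr] using h
      rw [← Finset.mul_sum, Finset.sum_congr rfl fun y _ =>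
        show (hc.dec.chr η μ : ↥Q → ℂ) _ = (η : ↥S → ℂ) ⟨w, hc.zle hwZ⟩ * (μ : ↥O → ℂ) y by
          rw [Dec.chr_apply, hc.dec.equiv_mul ⟨w, hc.zle hwZ⟩ y],
        ← Finset.mul_sum, h0, mul_zero, mul_zero]
    have hexp : ∑ y : ↥O, Complex.normSq ((hc.fam hne).Rf P (w * y)) =
        (Nat.card O : ℝ) * Complex.normSq c0 + ∑ y : ↥O, Complex.normSq ((P.ε : ℂ) * al y) := by
      have h3 : ∑ y : ↥O, (c0 * conj ((P.ε : ℂ) * al y)).re = 0 := by
        rw [← Complex.re_sum, ← Finset.mul_sum, ← map_sum (starRingEnd ℂ), ← Finset.mul_sum, hsum]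
        simp
      simp only [hR, Complex.normSq_add, Finset.sum_add_distrib, Finset.sum_const, Finset.card_univ,
        nsmul_eq_mul, ← Nat.card_eq_fintype_card, ← Finset.mul_sum, h3, mul_zero, add_zero]
    rw [hexp]
    exact le_add_of_nonneg_right (Finset.sum_nonneg fun _ _ => Complex.normSq_nonneg _)
  have hsum := Finset.sum_le_sum hlow
  rw [Finset.sum_const, nsmul_eq_mul, card_zSharp hc.ctx] at hsum
  have hn : (0 : ℝ) < (Nat.card Q : ℝ) + 1 := by positivity
  have hD : (Nat.card (twoPt G a t) : ℝ) =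
      ((qq G a - 1 : ℕ) : ℝ) * (Nat.card (vGrp G a t) : ℝ) := by exact_mod_cast card_D hc.ctx
  have hQ : (Nat.card Q : ℝ) = (Nat.card S : ℝ) * Nat.card O := by exact_mod_cast hc.dec.card_eq
  have hGc : (Nat.card G : ℝ) =
      (Nat.card Q : ℝ) * Nat.card (twoPt G a t) * ((Nat.card Q : ℝ) + 1) := by
    exact_mod_cast card_group hc.ctx.setup
  rw [hGc] at hle
  have hle' : ∑ w ∈ zSharp G a, ∑ y : ↥O, Complex.normSq ((hc.fam hne).Rf P (w * y)) ≤
      (Nat.card Q : ℝ) * Nat.card (twoPt G a t) * ((hc.fam hne).W : ℝ) :=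
    le_of_mul_le_mul_left (hle.trans_eq (by ring)) hn
  have hq1 : (0 : ℝ) < ((qq G a - 1 : ℕ) : ℝ) := by
    have := hc.ctx.four_le_qq
    exact_mod_cast (by omega : 0 < qq G a - 1)
  have hO : (0 : ℝ) < Nat.card O := by exact_mod_cast Nat.card_pos
  refine le_of_mul_le_mul_left ?_ (mul_pos hq1 hO)
  calc ((qq G a - 1 : ℕ) : ℝ) * Nat.card O * Complex.normSq c0
      ≤ (Nat.card Q : ℝ) * Nat.card (twoPt G a t) * ((hc.fam hne).W : ℝ) := by
        refine le_trans ?_ (hsum.trans hle'); rw [mul_assoc]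
    _ = _ := by rw [hQ, hD]; ring

end Cfsg.Agent.RankOneClass.Odd
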