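import Cfsg.Agent.Zassenhaus.DegSum
import Cfsg.Agent.Char.Perm
import Cfsg.Agent.Coherence.Fixed

/-!
# A group acting on the irreducible characters of a subgroup it normalises
-/

set_option autoImplicit false
set_option linter.unusedSimpArgs false

namespace Cfsg.Agent.RankOneClass.Odd

open Subgroup Cfsg.Agent.Zassenhaus
open scoped ComplexConjugate

universe u

variable {G : Type u} [Group G] {D R : Subgroup G}

/-- `D` normalises `R`. -/
abbrev NormBy (D R : Subgroup G) : Prop := ∀ d ∈ D, ∀ x ∈ R, d * x * d⁻¹ ∈ R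

/-- Conjugation by an element of `D`. -/
def cjHom (h : NormBy D R) : ↥D →* MulAut ↥R where
  toFun d :=
    { toFun := fun x => ⟨d * x * (d : G)⁻¹, h d d.2 x x.2⟩
      invFun := fun x => ⟨(d : G)⁻¹ * x * d, by simpa using h _ (inv_mem d.2) x x.2⟩
      left_inv := fun x => Subtype.ext (by simp [mul_assoc])
      right_inv := fun x => Subtype.ext (by simp [mul_assoc])
      map_mul' := fun x y => Subtype.ext (by simp [mul_assoc]) }
  map_one' := MulEquiv.ext fun x => Subtype.ext (by simp)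
  map_mul' c d := MulEquiv.ext fun x => Subtype.ext (by simp [mul_assoc])

@[simp] theorem cjHom_coe (h : NormBy D R) (d : ↥D) (x : ↥R) :
    ((cjHom h d x : ↥R) : G) = d * x * (d : G)⁻¹ := rfl

theorem cjHom_cancel (h : NormBy D R) (d : ↥D) (x : ↥R) : cjHom h d⁻¹ (cjHom h d x) = x :=
  Subtype.ext (by simp [mul_assoc])

theorem cjHom_cancel' (h : NormBy D R) (d : ↥D) (x : ↥R) : cjHom h d (cjHom h d⁻¹ x) = x :=
  Subtype.ext (by simp [mul_assoc])

/-- The conjugate of a character. -/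
noncomputable def actC (h : NormBy D R) (d : ↥D) (θ : IrrCharacter ↥R) : IrrCharacter ↥R :=
  ⟨fun x => (θ : ↥R → ℂ) (cjHom h d⁻¹ x), (Char.isIrrCharacter_comp_equiv (cjHom h d⁻¹)).2 θ.2⟩

theorem actC_apply (h : NormBy D R) (d : ↥D) (θ : IrrCharacter ↥R) (x : ↥R) :
    (actC h d θ : ↥R → ℂ) x = (θ : ↥R → ℂ) (cjHom h d⁻¹ x) := rfl

@[simp] theorem actC_one (h : NormBy D R) (θ : IrrCharacter ↥R) : actC h 1 θ = θ :=
  Subtype.ext (funext fun x => by rw [actC_apply]; simp)

theorem actC_mul (h : NormBy D R) (c d : ↥D) (θ : IrrCharacter ↥R) :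
    actC h (c * d) θ = actC h c (actC h d θ) :=
  Subtype.ext (funext fun x => by
    simp only [actC_apply, mul_inv_rev, map_mul, MulAut.mul_apply])

theorem actC_inv_cancel (h : NormBy D R) (d : ↥D) (θ : IrrCharacter ↥R) :
    actC h d⁻¹ (actC h d θ) = θ := by
  rw [← actC_mul, inv_mul_cancel, actC_one]

theorem actC_injective (h : NormBy D R) (d : ↥D) : Function.Injective (actC h d) :=
  Function.LeftInverse.injective (g := actC h d⁻¹) (actC_inv_cancel h d)

/-- The stabiliser of a character. -/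
def stabC (h : NormBy D R) (θ : IrrCharacter ↥R) : Subgroup ↥D where
  carrier := {d | actC h d θ = θ}
  one_mem' := actC_one h θ
  mul_mem' := fun {c d} (hc : actC h c θ = θ) (hd : actC h d θ = θ) => by
    show actC h (c * d) θ = θ
    rw [actC_mul, hd, hc]
  inv_mem' := fun {d} (hd : actC h d θ = θ) => by
    show actC h d⁻¹ θ = θ
    conv_lhs => rw [← hd, actC_inv_cancel]

@[simp] theorem mem_stabC (h : NormBy D R) {θ : IrrCharacter ↥R} {d : ↥D} :
    d ∈ stabC h θ ↔ actC h d θ = θ := Iff.rfl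

theorem actC_conjIrr [Finite G] (h : NormBy D R) (d : ↥D) (θ : IrrCharacter ↥R) :
    actC h d (Char.conjIrr θ) = Char.conjIrr (actC h d θ) :=
  Subtype.ext (funext fun _ => rfl)

theorem cdeg_actC [Finite G] (h : NormBy D R) (d : ↥D) (θ : IrrCharacter ↥R) :
    cdeg (actC h d θ) = cdeg θ :=
  cdeg_eq (by rw [actC_apply, map_one, (cdeg_spec θ).2])

theorem cdeg_conjIrr {H : Type*} [Group H] [Finite H] (θ : IrrCharacter H) :
    cdeg (Char.conjIrr θ) = cdeg θ :=
  cdeg_eq (by rw [Char.conjIrr_apply, (cdeg_spec θ).2, Complex.conj_natCast])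

/-- An element fixing a nonprincipal character centralises a nontrivial element. -/
theorem exists_cent_of_fixed [Finite G] (h : NormBy D R) {d : ↥D} {θ : IrrCharacter ↥R}
    (hd : actC h d θ = θ) (hne : (θ : ↥R → ℂ) ≠ fun _ => 1) :
    ∃ x : ↥R, x ≠ 1 ∧ cjHom h d x = x := by
  classical
  set σ : IrrCharacter ↥R → IrrCharacter ↥R := actC h d
  set τ : ConjClasses ↥R → ConjClasses ↥R := ConjClasses.map (cjHom h d⁻¹).toMonoidHom
  have hmk : ∀ g : ↥R, τ (ConjClasses.mk g) = ConjClasses.mk (cjHom h d⁻¹ g) := fun g => rfl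
  have hcard := Char.brauer_permutation σ τ fun χ g g' hg => by
    rw [hmk, ConjClasses.mk_eq_mk_iff_isConj] at hg
    exact Char.classFun_isConj (Char.isClassFunction_of_isIrr χ.2) hg
  have : Finite (ConjClasses ↥R) := Quotient.finite _
  let c1 : {C : ConjClasses ↥R // τ C = C} := ⟨ConjClasses.mk 1, by rw [hmk, map_one]⟩
  have : Nontrivial {C : ConjClasses ↥R // τ C = C} := by
    rw [← Finite.one_lt_card_iff_nontrivial, ← hcard, Finite.one_lt_card_iff_nontrivial]
    exact ⟨⟨θ, hd⟩, ⟨⟨_, Char.isIrrCharacter_one⟩, Subtype.ext rfl⟩,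
      fun e => hne (congrArg (fun z => z.1.1) e)⟩
  obtain ⟨⟨C, hC⟩, hne1⟩ := exists_ne c1
  obtain ⟨x, rfl⟩ := ConjClasses.mk_surjective C
  have hx1 : x ≠ 1 := fun e => hne1 (Subtype.ext (congrArg ConjClasses.mk e))
  rw [hmk, ConjClasses.mk_eq_mk_iff_isConj, isConj_iff] at hC
  obtain ⟨g, hg⟩ := hC
  by_contra! hno
  -- `z ↦ z⁻¹ · d z` is onto
  have hinj : Function.Injective fun z : ↥R => z⁻¹ * cjHom h d⁻¹ z := by
    intro y z (e : y⁻¹ * cjHom h d⁻¹ y = z⁻¹ * cjHom h d⁻¹ z)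
    have e1 : cjHom h d⁻¹ (y * z⁻¹) = y * z⁻¹ := by
      rw [map_mul, map_inv (cjHom h d⁻¹) z]
      have : cjHom h d⁻¹ y = y * (z⁻¹ * cjHom h d⁻¹ z) := by rw [← e, mul_inv_cancel_left]
      rw [this]; group
    by_contra hyz
    refine hno (y * z⁻¹) (fun e2 => hyz (mul_inv_eq_one.1 e2)) ?_
    conv_lhs => rw [← e1]
    exact cjHom_cancel' h d _
  obtain ⟨z, hz⟩ := Finite.injective_iff_surjective.1 hinj g
  have hfix : cjHom h d⁻¹ (z * x * z⁻¹) = z * x * z⁻¹ := by
    rw [map_mul, map_mul, map_inv (cjHom h d⁻¹) z]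
    have e1 : cjHom h d⁻¹ z = z * g := by rw [← hz]; simp
    have e2 : cjHom h d⁻¹ x = g⁻¹ * x * g := by
      conv_rhs => rw [← hg]
      group
    rw [e1, e2]; group
  refine hno (z * x * z⁻¹) (fun e => hx1 (conj_eq_one_iff.1 e)) ?_
  conv_lhs => rw [← hfix]
  exact cjHom_cancel' h d _

end Cfsg.Agent.RankOneClass.Odd
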