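import Cfsg.Agent.RankOneClass.Odd.Struct
import Cfsg.Agent.RankOneClass.Odd.ActChar
import Cfsg.Agent.RankOneClass.ZField

/-!
# The stabiliser in `D` of a character of the odd part

Each of its non-trivial elements centralises exactly one involution fixing the point, so it embeds in
the automorphism group of the field `Z` and is trivial or of prime order `k` with `q = 2 ^ k`.
-/

set_option autoImplicit false
set_option linter.unusedSectionVars false

namespace Cfsg.Agent.RankOneClass.Odd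

open Subgroup MulAction Cfsg.Agent.RankOne

universe u v

variable {G : Type u} {Ω : Type v} [Group G] [Finite G] [MulAction G Ω] {a : Ω} {t : G}
  {Q : Subgroup G}

/-- `d` centralises exactly one involution fixing `a`. -/
def Lone (G : Type u) [Group G] {Ω : Type v} [MulAction G Ω] (a : Ω) (d : G) : Prop :=
  ∃ s ∈ zGrp G a, s ≠ 1 ∧ Commute d s ∧ ∀ z ∈ zGrp G a, Commute d z → z = 1 ∨ z = s

theorem lone_of_fixed (hC : Ctx G Ω a t Q) (hind : Smaller G Ω) {O : Subgroup G} (hO : O ≤ Q)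
    (hodd : Odd (Nat.card O)) (hn : NormBy (twoPt G a t) O) {μ : IrrCharacter ↥O}
    (hμ : (μ : ↥O → ℂ) ≠ fun _ => 1) {d : ↥(twoPt G a t)} (hd : actC hn d μ = μ)
    (hd1 : d ≠ 1) : Lone G a (d : G) := by
  haveI := hC.faithful
  obtain ⟨y, hy1, hy⟩ := exists_cent_of_fixed hn hd hμ
  have hc : Commute (d : G) (y : G) := mul_inv_eq_iff_eq_mul.1 (congrArg Subtype.val hy)
  have hy1' : (y : G) ≠ 1 := fun e => hy1 (Subtype.ext e)
  obtain ⟨s, hs, hds⟩ := exists_cent_invol hC.setup d.2 (hO y.2) hy1' hc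
  refine ⟨s, subset_closure hs, hs.2.1, hds, fun z hz hdz => or_iff_not_imp_left.2 fun hz1 => ?_⟩
  exact cent_invol_unique hC.setup hC.two hind d.2 (fun e => hd1 (Subtype.ext e)) (hO y.2) hy1'
    (hodd.of_dvd_nat (Subgroup.orderOf_dvd_natCard O y.2)) hc (hC.mem_invol_of_zGrp hz hz1) hs hdz hds

theorem Lone.card_fixed (hC : Ctx G Ω a t Q) {D : Subgroup G} (hn : NormBy D (zGrp G a)) {d : ↥D}
    (h : Lone G a (d : G)) :
    Nat.card {z : ↥(zGrp G a) // cjHom hn d z = z} = 2 := by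
  classical
  obtain ⟨s, hs, hs1, hds, huniq⟩ := h
  let f : Bool → {z : ↥(zGrp G a) // cjHom hn d z = z} := fun b =>
    bif b then ⟨⟨s, hs⟩, Subtype.ext (mul_inv_eq_iff_eq_mul.2 hds.eq)⟩ else ⟨1, map_one _⟩
  have hf : Function.Bijective f := by
    refine ⟨fun b c e => ?_, fun z => ?_⟩
    · cases b <;> cases c <;>
        first | rfl | exact absurd (congrArg (fun x => ((x.1 : ↥(zGrp G a)) : G)) e) hs1
              | exact absurd (congrArg (fun x => ((x.1 : ↥(zGrp G a)) : G)) e).symm hs1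
    · have hc : Commute (d : G) (z.1 : G) :=
        mul_inv_eq_iff_eq_mul.1 (congrArg Subtype.val z.2)
      rcases huniq _ z.1.2 hc with h | h
      · exact ⟨false, Subtype.ext (Subtype.ext h.symm)⟩
      · exact ⟨true, Subtype.ext (Subtype.ext h.symm)⟩
  rw [← Nat.card_eq_of_bijective f hf]
  simp

/-- An element centralising exactly one involution centralises no non-trivial element of `K`. -/
theorem Lone.eq_one_of_commute (hC : Ctx G Ω a t Q) {d k : G} (h : Lone G a d)
    (hk : k ∈ kGrp G a t) (hc : Commute d k) : k = 1 := by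
  obtain ⟨s, hs, hs1, hds, huniq⟩ := h
  have hks : Commute d (k * s * k⁻¹) := (hc.mul_right hds).mul_right hc.inv_right
  rcases huniq _ (hC.conj_mem_zGrp (twoPt_le (Ctx.kGrp_le G a t hk)) hs) hks with e | e
  · exact absurd (conj_eq_one_iff.1 e) hs1
  · exact hC.kGrp_conj_inj hk (one_mem _) hs hs1 (by simpa using e)

theorem vPart_unique (hC : Ctx G Ω a t Q) {k k' c c' : G} (hk : k ∈ kGrp G a t)
    (hk' : k' ∈ kGrp G a t) (hc : c ∈ vGrp G a t) (hc' : c' ∈ vGrp G a t) (h : k * c = k' * c') :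
    k = k' ∧ c = c' := by
  have e : k'⁻¹ * k = c' * c⁻¹ := by
    calc k'⁻¹ * k = k'⁻¹ * (k * c) * c⁻¹ := by group
      _ = c' * c⁻¹ := by rw [h]; group
  have h1 := hC.kv_disjoint (mul_mem (inv_mem hk') hk) (e ▸ mul_mem hc' (inv_mem hc))
  obtain rfl := (inv_mul_eq_one.1 h1).symm
  exact ⟨rfl, mul_left_cancel h⟩

theorem exists_vPart (hC : Ctx G Ω a t Q) (d : ↥(twoPt G a t)) :
    ∃ c : ↥(vGrp G a t), ∃ k ∈ kGrp G a t, (d : G) = k * (c : G) := by
  obtain ⟨k, hk, c, hc, e⟩ := hC.exists_kv d.2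
  exact ⟨⟨c, hc⟩, k, hk, e⟩

/-- The projection of `D = K V` onto `V`. -/
noncomputable def vPart (hC : Ctx G Ω a t Q) : ↥(twoPt G a t) →* ↥(vGrp G a t) :=
  MonoidHom.mk' (fun d => (exists_vPart hC d).choose) fun d d' => by
    obtain ⟨k, hk, e⟩ := (exists_vPart hC (d * d')).choose_spec
    obtain ⟨k1, hk1, e1⟩ := (exists_vPart hC d).choose_spec
    obtain ⟨k2, hk2, e2⟩ := (exists_vPart hC d').choose_spec
    set c := (exists_vPart hC (d * d')).choose
    set c1 := (exists_vPart hC d).choose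
    set c2 := (exists_vPart hC d').choose
    refine Subtype.ext (vPart_unique hC hk
      (mul_mem hk1 (hC.conj_mem_kGrp (Ctx.vGrp_le G a t c1.2) hk2)) c.2 (mul_mem c1.2 c2.2) ?_).2
    show k * (c : G) = _
    rw [← e]
    show (d : G) * (d' : G) = _
    rw [e1, e2]
    group

theorem exists_eq_vPart (hC : Ctx G Ω a t Q) (d : ↥(twoPt G a t)) :
    ∃ k ∈ kGrp G a t, (d : G) = k * (vPart hC d : G) :=
  (exists_vPart hC d).choose_spec

/-- The stabiliser of a non-principal character of an odd `D`-invariant subgroup of `Q`. -/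
theorem card_stab (hC : Ctx G Ω a t Q) (L : Subgroup ↥(twoPt G a t))
    (hL : ∀ d ∈ L, d ≠ 1 → Lone G a (d : G)) :
    Nat.card L ≤ Nat.card (vGrp G a t) ∧
      (Nat.card L = 1 ∨ ((Nat.card L).Prime ∧ qq G a = 2 ^ Nat.card L)) := by
  classical
  obtain ⟨s, r, hsr⟩ := hC.exists_link
  obtain ⟨F, _, _, hF, ⟨X⟩⟩ := hC.exists_zField hsr
  -- the semilinear form of an element of `L`
  have hform : ∀ d : ↥(twoPt G a t), ∃ m : F, m ≠ 0 ∧ ∀ z ∈ zGrp G a,
      X.coord ((d : G) * z * (d : G)⁻¹) = m * X.aut (vPart hC d : G) (X.coord z) := by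
    intro d
    obtain ⟨k, hk, e⟩ := exists_eq_vPart hC d
    refine ⟨X.mult k, X.mult_ne k hk, fun z hz => ?_⟩
    rw [show (d : G) * z * (d : G)⁻¹ = k * ((vPart hC d : G) * z * (vPart hC d : G)⁻¹) * k⁻¹ by
      rw [e]; group, X.conj_K k hk _ (hC.conj_mem_zGrp
      (twoPt_le (Ctx.vGrp_le G a t (vPart hC d).2)) hz), X.conj_V _ (vPart hC d).2 z hz]
  have hcoord_inj : ∀ z ∈ zGrp G a, ∀ z' ∈ zGrp G a, X.coord z = X.coord z' → z = z' := by
    intro z hz z' hz' e
    have h0 : X.coord (z' * z') = 0 := by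
      rw [hC.zGrp_sq hz']
      exact left_eq_add.1 (by rw [← X.coord_mul 1 (one_mem _) 1 (one_mem _), one_mul])
    rw [X.coord_mul z' hz' z' hz'] at h0
    have h1 := X.coord_eq_zero (z * z') (mul_mem hz hz') (by rw [X.coord_mul z hz z' hz', e, h0])
    exact (eq_inv_of_mul_eq_one_left h1).trans (hC.zGrp_inv hz')
  have hcoord1 : X.coord 1 = 0 :=
    left_eq_add.1 (by rw [← X.coord_mul 1 (one_mem _) 1 (one_mem _), one_mul])
  let θ : ↥L →* (F ≃+* F) := X.autHom.comp ((vPart hC).comp L.subtype)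
  have hfix : ∀ d : ↥L, d ≠ 1 → ∀ x : F, θ d x = x → x = 0 ∨ x = 1 := by
    intro d hd x hx
    obtain ⟨m, hm, hz⟩ := hform d.1
    obtain ⟨z₀, hz₀, hz₀1, hdz, huniq⟩ := hL d.1 d.2 fun e => hd (Subtype.ext e)
    have hfix0 : m * θ d (X.coord z₀) = X.coord z₀ := by
      have := hz z₀ hz₀
      rw [hdz.eq, mul_inv_cancel_right] at this
      exact this.symm
    have hx0 : X.coord z₀ ≠ 0 := fun e => hz₀1 (X.coord_eq_zero z₀ hz₀ e)
    obtain ⟨z, hzZ, hzx⟩ := X.coord_surj (x * X.coord z₀)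
    have hcd : Commute ((d : ↥(twoPt G a t)) : G) z := by
      refine mul_inv_eq_iff_eq_mul.1 (hcoord_inj _ (hC.conj_mem_zGrp (twoPt_le d.1.2) hzZ) _ hzZ ?_)
      rw [hz z hzZ, hzx]
      show m * θ d (x * X.coord z₀) = _
      rw [map_mul, hx, mul_left_comm, hfix0]
    rcases huniq z hzZ hcd with e | e
    · left
      rw [e, hcoord1] at hzx
      exact (mul_eq_zero.1 hzx.symm).resolve_right hx0
    · right
      rw [e] at hzx
      exact mul_right_cancel₀ hx0 (by rw [one_mul, ← hzx])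
  have hcard : Nat.card F = qq G a := by rw [Nat.card_eq_fintype_card, hF]
  have h3 : 3 ≤ Nat.card F := by rw [hcard]; exact le_trans (by norm_num) hC.four_le_qq
  refine ⟨?_, hcard ▸ card_acting_field θ hfix h3⟩
  refine Nat.card_le_card_of_injective _ (show Function.Injective ((vPart hC).comp L.subtype) from
    (injective_iff_map_eq_one _).2 fun d hd => by_contra fun hd1 => ?_)
  have hθ : ∀ x : F, θ d x = x := fun x => by
    show X.autHom ((vPart hC).comp L.subtype d) x = x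
    rw [hd, map_one]; rfl
  have : Nat.card F ≤ 2 := by
    rw [Nat.card_eq_fintype_card]
    calc Fintype.card F = (Finset.univ : Finset F).card := rfl
      _ ≤ ({0, 1} : Finset F).card :=
          Finset.card_le_card fun x _ => by simpa using hfix d hd1 x (hθ x)
      _ ≤ 2 := Finset.card_le_two
  omega

end Cfsg.Agent.RankOneClass.Odd
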