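import Cfsg.Agent.RankOneClass.Odd.Values

/-!
# A regular linear character trivial on `Z` gives a contradiction
-/

set_option autoImplicit false
set_option linter.unusedSectionVars false

namespace Cfsg.Agent.RankOneClass.Odd

open Subgroup MulAction Cfsg.Agent.RankOne Cfsg.Agent.Zassenhaus
open scoped ComplexConjugate _root_.Classical

universe u v

/-- The degree of a constituent against its values at the involutions. -/
theorem deg_bound {n1 Qn q v W d m g : ℤ} (hq : 4 ≤ q) (hn1 : n1 = Qn + 1) (hQ : 0 < Qn)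
    (hd : 0 < d) (hW : 0 < W) (hv : 0 < v) (hG : g = Qn * ((q - 1) * v) * n1)
    (hsq : d ^ 2 * (q - 2) ^ 2 = m ^ 2 * (n1 * (q - 1)) ^ 2) (hWd : W * d * d ≤ g) :
    W * m ^ 2 < (q - 1) * v := by
  have h1 : m ^ 2 * n1 ^ 2 ≤ d ^ 2 := by
    by_contra hlt
    rw [not_le] at hlt
    have hqq : (q - 2) ^ 2 ≤ (q - 1) ^ 2 := by nlinarith
    have hpos : (0 : ℤ) < (q - 2) ^ 2 := by nlinarith
    nlinarith [mul_lt_mul_of_pos_right hlt hpos, mul_le_mul_of_nonneg_left hqq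
      (mul_nonneg (sq_nonneg m) (sq_nonneg n1))]
  have hn : 0 < n1 := by omega
  have h2 : W * m ^ 2 * n1 * n1 ≤ Qn * ((q - 1) * v) * n1 := by
    rw [← hG]
    refine le_trans ?_ hWd
    nlinarith [mul_le_mul_of_nonneg_left h1 hW.le]
  have h3 : W * m ^ 2 * n1 ≤ Qn * ((q - 1) * v) := le_of_mul_le_mul_right h2 hn
  have hv' : 0 < (q - 1) * v := mul_pos (by linarith) hv
  by_contra hlt
  rw [not_lt] at hlt
  nlinarith [mul_le_mul_of_nonneg_right hlt hn.le]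

theorem caseA_numeric {o q v M RW W m δ : ℤ} (hq : 4 ≤ q) (ho : 1 ≤ o) (hov : o ≤ v) (hM : 1 ≤ M)
    (hW : o * W = 2 * RW) (hR : (q - 2) * M ≤ RW) (hR1 : o = 1 → RW = M * q)
    (h8 : o ≠ 1 → 8 ≤ q) (hm : m = v * (q - 2) + 2 * δ) (hm0 : m ≠ 0)
    (hδ : W * δ ^ 2 ≤ M * q * v) (hdeg : W * m ^ 2 < (q - 1) * v) : False := by
  have hv : 1 ≤ v := ho.trans hov
  have hid : (v * (q - 2)) ^ 2 ≤ 2 * m ^ 2 + 8 * δ ^ 2 := by
    rw [show v * (q - 2) = m - 2 * δ by linarith]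
    nlinarith [sq_nonneg (m + 2 * δ)]
  have hm1 : 1 ≤ m ^ 2 := by
    have := mul_self_pos.2 hm0
    nlinarith
  by_cases h1 : o = 1
  · subst h1
    rw [one_mul, hR1 rfl] at hW
    subst hW
    have hMq : 0 < M * q := by positivity
    have hd2 : 2 * δ ^ 2 ≤ v := by
      by_contra hlt
      rw [not_le] at hlt
      nlinarith [mul_lt_mul_of_pos_left hlt hMq]
    have hm2 : 2 * m ^ 2 < v := by
      by_contra hlt
      rw [not_lt] at hlt
      nlinarith [mul_le_mul_of_nonneg_left hlt hMq.le, mul_pos (show (0 : ℤ) < v by linarith) hMq]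
    have h5 : (v * (q - 2)) ^ 2 < 5 * v := by linarith
    nlinarith [mul_le_mul_of_nonneg_left (show (4 : ℤ) ≤ (q - 2) ^ 2 by nlinarith) (sq_nonneg v)]
  · have hq8 := h8 h1
    have ho0 : 0 < o := by linarith
    have hq2 : 0 < q - 2 := by linarith
    have hd2 : 2 * (q - 2) * δ ^ 2 ≤ o * q * v := by
      have : 2 * (q - 2) * δ ^ 2 * M ≤ o * q * v * M := by
        nlinarith [mul_le_mul_of_nonneg_left hδ ho0.le, mul_le_mul_of_nonneg_right hR (sq_nonneg δ)]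
      exact le_of_mul_le_mul_right this (by linarith)
    have hm2 : 2 * (q - 2) * m ^ 2 < o * (q - 1) * v := by
      have h : 2 * (q - 2) * M * m ^ 2 < o * (q - 1) * v := by
        nlinarith [mul_lt_mul_of_pos_left hdeg ho0, mul_le_mul_of_nonneg_right hR (sq_nonneg m)]
      nlinarith [mul_le_mul_of_nonneg_left hM (mul_nonneg (mul_nonneg (show (0:ℤ) ≤ 2 by norm_num)
        hq2.le) (sq_nonneg m))]
    have h3 : (q - 2) * (v * (q - 2)) ^ 2 < 5 * o * q * v := by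
      nlinarith [mul_le_mul_of_nonneg_left hid hq2.le, mul_pos ho0 (show (0 : ℤ) < v by linarith)]
    have h4 : (q - 2) ^ 3 * v ^ 2 < 5 * q * v ^ 2 := by
      nlinarith [mul_le_mul_of_nonneg_right (mul_le_mul_of_nonneg_left hov
        (show (0 : ℤ) ≤ 5 * q by linarith)) (show (0 : ℤ) ≤ v by linarith)]
    have h5 : 5 * q ≤ (q - 2) ^ 3 := by
      nlinarith [sq_nonneg (q - 8), mul_le_mul (show (6 : ℤ) ≤ q - 2 by linarith)
        (show (6 : ℤ) ≤ q - 2 by linarith) (by norm_num) hq2.le]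
    nlinarith [mul_le_mul_of_nonneg_right h5 (sq_nonneg v)]

variable {G : Type u} {Ω : Type v} [Group G] [Fintype G] [MulAction G Ω] {a : Ω} {t : G}
  {Q S O : Subgroup G}

theorem Cfg.caseA (hc : Cfg a t Q S O) {lam : IrrCharacter ↥O} (hlam : cdeg lam = 1)
    (hne : (lam : ↥O → ℂ) ≠ fun _ => 1) {M : ℕ} (hM : Nat.card S = M * qq G a)
    {η₀ : IrrCharacter ↥S} (hη₀ : η₀ ∈ regSet hc.dec (stabC hc.dec.normO lam))
    (hom₀ : omInd hc.pair η₀ = 1) : False := by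
  obtain ⟨P⟩ := hc.exists_family_part hlam hne hM
  obtain ⟨s, r, hsr⟩ := hc.ctx.exists_link
  have hsZ : s ∈ zSharp G a := mem_zSharp.2 ⟨subset_closure hsr.1, hsr.1.2.1⟩
  have hs2 : s * s = 1 := hsr.1.2.2
  have h1 : cdeg η₀ = 1 := cdeg_eq_one_of_om hc.pair (by
    by_contra h
    rw [omInd, if_neg h] at hom₀
    exact zero_ne_one hom₀)
  obtain ⟨i₀, hf0, hi₀, hrow, hδ⟩ := hc.row_facts hlam hne hM P hsZ hs2 hη₀ h1
  obtain ⟨hsv, -, hov, hLp⟩ := hc.stab_facts hne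
  have hq := hc.ctx.four_le_qq
  have hR := hc.reg_le hlam hne hM
  -- a member nontrivial on `Z`
  obtain ⟨η₁, hη₁, hom₁⟩ : ∃ η ∈ regSet hc.dec (stabC hc.dec.normO lam), omInd hc.pair η = 0 := by
    by_contra hall
    push Not at hall
    have hsub : regSet hc.dec (stabC hc.dec.normO lam) ⊆ linTriv hc.pair := fun η hη =>
      (mem_linTriv hc.pair).2 (by
        by_contra h
        exact hall η hη (if_neg h))
    have hle : ∑ η ∈ regSet hc.dec (stabC hc.dec.normO lam), cdeg η * cdeg η ≤ M := by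
      refine (Finset.sum_le_sum_of_subset hsub).trans (le_of_eq ?_)
      rw [Finset.sum_congr rfl fun η hη => by
        rw [cdeg_eq_one_of_om hc.pair ((mem_linTriv hc.pair).1 hη)], Finset.sum_const, smul_eq_mul,
        mul_one, mul_one, card_linTriv hc.ctx hc.dec hc.pair hM]
    have hM0 : 0 < M := by
      rcases Nat.eq_zero_or_pos M with h | h
      · rw [h, zero_mul] at hM; exact absurd hM Nat.card_pos.ne'
      · exact h
    have h2 : 2 * M ≤ (qq G a - 2) * M := Nat.mul_le_mul_right M (by omega)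
    omega
  have hm₁ : genMem hc lam (η₁, 1, false) ∈ members hc lam :=
    (hc.mem_members hne).2 ⟨η₁, hη₁, 1, false, rfl⟩
  set i₁ : Idx (members hc lam) := idx _ hm₁
  have hi₁ : mv (hc.dec.chr η₁ (selC lam false)) = i₁.1 := by
    show _ = mv (actC (frame hc.ctx).norm 1 (hc.dec.chr η₁ (selC lam false)))
    rw [actC_one]
  obtain ⟨hf1, hval1⟩ := hrow η₁ hη₁ false i₁ hi₁
  rw [hom₁, hom₀] at hval1
  rw [hom₀] at hδ
  -- the pairs of involutions
  have hd := (hc.fam hne).diff P i₁ i₀ hf0 (fun χ => ((invols G).card : ℂ) ^ 2 *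
    (χ : G → ℂ) s ^ 2 / (χ : G → ℂ) 1)
  simp only [sub_mul, Finset.sum_sub_distrib, mul_assoc, ← Finset.mul_sum] at hd
  have hz1 : ∑ z ∈ zSharp G a, extendByZero Q (rep i₁ : ↥Q → ℂ) z = -(cdeg η₁ : ℂ) := by
    have h := hc.ind_at_invol (rep i₁) hsZ
    rw [hc.ind_mv_eq hne (θ' := hc.dec.chr η₁ (selC lam false)) (by rw [mv_rep, hi₁]),
      hc.ind_at_invol _ hsZ, hc.zsum_chr η₁ (hc.cdeg_sel hlam hne false), hom₁] at h
    have hv : (Nat.card (vGrp G a t) : ℂ) ≠ 0 := Nat.cast_ne_zero.2 Nat.card_pos.ne'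
    rw [← mul_left_cancel₀ hv h]
    push_cast; ring
  have hz0 : ∑ z ∈ zSharp G a, extendByZero Q (rep i₀ : ↥Q → ℂ) z = (qq G a : ℂ) - 1 := by
    have h := hc.ind_at_invol (rep i₀) hsZ
    rw [hc.ind_mv_eq hne (θ' := hc.dec.chr η₀ (selC lam false)) (by rw [mv_rep]; exact hi₀.symm),
      hc.ind_at_invol _ hsZ, hc.zsum_chr η₀ (hc.cdeg_sel hlam hne false), hom₀, h1] at h
    have hv : (Nat.card (vGrp G a t) : ℂ) ≠ 0 := Nat.cast_ne_zero.2 Nat.card_pos.ne'
    rw [← mul_left_cancel₀ hv h]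
    push_cast; ring
  rw [hc.pair_row _ hsZ, hc.pair_row _ hsZ, hz1, hz0, ← (hc.fam hne).rows_f, ← (hc.fam hne).rows_f,
    hf0, hf1, (cdeg_spec (P.e i₁)).2, (cdeg_spec (P.e i₀)).2, iVal_spec (P.e i₁) hs2,
    iVal_spec (P.e i₀) hs2, card_invols hc.ctx] at hd
  have hdeg1 : (cdeg (P.e i₁) : ℂ) = (cdeg η₁ : ℂ) * cdeg (P.e i₀) := by
    have h := (hc.fam hne).deg_e P i₁ hf0
    rw [hf1] at h
    exact_mod_cast h
  set f := cdeg η₁
  set d := cdeg (P.e i₀)
  set x₁ := iVal (P.e i₁) hs2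
  set y₀ := iVal (P.e i₀) hs2
  set v := Nat.card (vGrp G a t)
  set q := qq G a
  set n1 := Nat.card Q + 1
  have hfpos : 0 < f := (cdeg_spec η₁).1
  have hdpos : 0 < d := (cdeg_spec _).1
  have hv0 : 0 < v := Nat.card_pos
  -- `x₁ = f (y₀ - ε v q)`
  have hx : x₁ = (f : ℤ) * (y₀ - P.ε * v * q) := by
    linear_combination P.ε * hval1 - (x₁ - (f : ℤ) * y₀) * P.εε
  have hD : (Nat.card (twoPt G a t) : ℂ) = ((q - 1 : ℕ) : ℂ) * v := by
    exact_mod_cast card_D hc.ctx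
  rw [hD, hdeg1, hx, show (Nat.card Q : ℂ) + 1 = (n1 : ℂ) by simp [n1]] at hd
  push_cast [Nat.cast_sub (show 1 ≤ q by omega), Nat.cast_sub (show 2 ≤ q by omega)] at hd
  have hd0 : (d : ℂ) ≠ 0 := Nat.cast_ne_zero.2 hdpos.ne'
  have hf0' : (f : ℂ) ≠ 0 := Nat.cast_ne_zero.2 hfpos.ne'
  field_simp at hd
  set δ : ℤ := P.ε * y₀ - (v : ℤ) * ((q : ℤ) * 1 - 1) with hδdef
  have hkey : ((((n1 : ℤ) * ((q : ℤ) - 1)) * ((v : ℤ) * ((q : ℤ) - 2) + 2 * δ) * P.ε : ℤ) : ℂ) =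
      (((d : ℤ) * ((q : ℤ) - 2) : ℤ) : ℂ) := by
    have hε : (P.ε : ℂ) * P.ε = 1 := by exact_mod_cast P.εε
    have hne' : ((n1 : ℂ) * ((q : ℂ) - 1) * v * q) ≠ 0 := by
      have h1 : (n1 : ℂ) ≠ 0 := Nat.cast_ne_zero.2 (by omega)
      have h2 : (q : ℂ) - 1 ≠ 0 := by
        rw [sub_ne_zero]; exact_mod_cast (show q ≠ 1 by omega)
      have h3 : (v : ℂ) ≠ 0 := Nat.cast_ne_zero.2 hv0.ne'
      have h4 : (q : ℂ) ≠ 0 := Nat.cast_ne_zero.2 (show q ≠ 0 by omega)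
      exact mul_ne_zero (mul_ne_zero (mul_ne_zero h1 h2) h3) h4
    refine mul_left_cancel₀ hne' ?_
    simp only [δ]
    push_cast
    linear_combination hd + (((q : ℂ) - 1) ^ 2 * (n1 : ℂ) ^ 2 * q ^ 2 * v ^ 2 * P.ε) * hε
  have hkey' : ((n1 : ℤ) * ((q : ℤ) - 1)) * ((v : ℤ) * ((q : ℤ) - 2) + 2 * δ) * P.ε =
      (d : ℤ) * ((q : ℤ) - 2) := by exact_mod_cast hkey
  have hm0 : (v : ℤ) * ((q : ℤ) - 2) + 2 * δ ≠ 0 := by
    intro h0
    rw [h0, mul_zero, zero_mul] at hkey'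
    rcases mul_eq_zero.1 hkey'.symm with h | h <;> omega
  have hWpos : 0 < (hc.fam hne).W :=
    Finset.sum_pos (fun i _ => mul_pos (by exact_mod_cast (hc.fam hne).rows.f_pos i)
      (by exact_mod_cast (hc.fam hne).rows.f_pos i)) ⟨i₀, Finset.mem_univ _⟩
  have hG : (Nat.card G : ℤ) = (Nat.card Q : ℤ) * (((q : ℤ) - 1) * v) * n1 := by
    rw [card_group hc.ctx.setup, card_D hc.ctx]
    push_cast [Nat.cast_sub (show 1 ≤ qq G a by omega)]
    simp only [q, v, n1]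
    push_cast; ring
  have hdeg' := deg_bound (n1 := (n1 : ℤ)) (Qn := (Nat.card Q : ℤ)) (q := (q : ℤ)) (v := (v : ℤ))
    (d := (d : ℤ)) (m := (v : ℤ) * ((q : ℤ) - 2) + 2 * δ) (by exact_mod_cast hq) (by simp [n1])
    (by exact_mod_cast Nat.card_pos) (by exact_mod_cast hdpos) hWpos (by exact_mod_cast hv0) hG
    (by
      rw [← mul_pow, ← hkey', mul_pow, mul_pow, pow_two P.ε, P.εε]; ring)
    ((hc.fam hne).weight_deg P hf0)
  have hWR := hc.weight_rows hlam hne hM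
  refine caseA_numeric (o := (Nat.card (stabC hc.dec.normO lam) : ℤ)) (q := (q : ℤ)) (v := (v : ℤ))
    (M := (M : ℤ)) (δ := δ) (RW := ((∑ η ∈ regSet hc.dec (stabC hc.dec.normO lam), cdeg η * cdeg η : ℕ) : ℤ))
    (W := (hc.fam hne).W) (by exact_mod_cast hq) (by exact_mod_cast hsv.pos) (by exact_mod_cast hov)
    ?_ hWR ?_ ?_ ?_ rfl hm0 (by exact_mod_cast hδ) hdeg'
  · have : 0 < M := by
      rcases Nat.eq_zero_or_pos M with h | h
      · rw [h, zero_mul] at hM; exact absurd hM Nat.card_pos.ne'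
      · exact h
    exact_mod_cast this
  · have h := (Nat.cast_le (α := ℤ)).2 hR
    rw [Nat.cast_mul, Nat.cast_sub (show 2 ≤ q by omega)] at h
    exact_mod_cast h
  · intro ho
    have hL : stabC hc.dec.normO lam = ⊥ := Subgroup.eq_bot_of_card_eq _ (by exact_mod_cast ho)
    rw [show regSet hc.dec (stabC hc.dec.normO lam) = Finset.univ from
      Finset.eq_univ_of_forall fun η => (mem_regSet hc.dec).2
        fun e he _ => by rw [hL] at he; exact mem_bot.1 he, weight_univ hc.ctx hc.dec hc.pair hM]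
    simp [q]
  · intro ho
    rcases hsv with h | ⟨h3, hqo⟩
    · exact absurd (by exact_mod_cast h) ho
    · have := (pow_bound h3).2.2.2.2
      rw [← hqo] at this
      exact_mod_cast this

end Cfsg.Agent.RankOneClass.Odd
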