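import Cfsg.Agent.RankOneClass.Odd.Extend
import Cfsg.Agent.RankOneClass.Odd.CaseA
import Cfsg.Agent.Zassenhaus.IntRows

/-!
# The case in which the 2-part is `Z` and the stabiliser of the odd character is non-trivial
-/

set_option autoImplicit false
set_option linter.unusedSectionVars false

namespace Cfsg.Agent.RankOneClass.Odd

open Subgroup MulAction Cfsg.Agent.RankOne Cfsg.Agent.Zassenhaus
open scoped ComplexConjugate _root_.Classical

universe u v

/-- A vector with the shape `Σ (μ + ν)` up to sign. -/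
theorem split_sum {X : Type u} [Fintype X] {Γ : Type v} [Fintype Γ] (Y h : X → ℤ) (μ ν : Γ → X)
    (heq : ∀ γ, Y (μ γ) = Y (ν γ)) (hodd : ∀ γ, Y (μ γ) ≠ 0)
    (hinj : Function.Injective (Sum.elim μ ν)) (hY : ip Y Y = 2 * Fintype.card Γ) :
    |∑ χ, Y χ * h χ| ≤ ∑ γ, |h (μ γ) + h (ν γ)| := by
  set g := Sum.elim μ ν
  have hg1 : ∀ p, 1 ≤ Y (g p) * Y (g p) := by
    rintro (γ | γ)
    · have := mul_self_pos.2 (hodd γ); simp only [g, Sum.elim_inl]; omega
    · have := mul_self_pos.2 (hodd γ); simp only [g, Sum.elim_inr, ← heq γ]; omega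
  have hle : ∑ χ ∈ Finset.univ.image g, Y χ * Y χ ≤ ip Y Y :=
    Finset.sum_le_sum_of_subset_of_nonneg (Finset.subset_univ _) fun χ _ _ => mul_self_nonneg _
  have hsum : ∑ p, Y (g p) * Y (g p) = ∑ χ ∈ Finset.univ.image g, Y χ * Y χ :=
    (Finset.sum_image hinj.injOn (f := fun χ => Y χ * Y χ)).symm
  have hone : ∀ p, Y (g p) * Y (g p) = 1 := by
    have h2 : ∑ p : Γ ⊕ Γ, (1 : ℤ) = ip Y Y := by simp [hY, two_mul]
    intro p
    by_contra hp
    have := Finset.sum_lt_sum (fun q _ => hg1 q) ⟨p, Finset.mem_univ p,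
      lt_of_le_of_ne (hg1 p) (Ne.symm hp)⟩
    linarith
  have h0 : ∀ χ, χ ∉ Finset.univ.image g → Y χ = 0 := by
    intro χ hχ
    have h2 : ∑ χ ∈ Finset.univ.image g, Y χ * Y χ = ip Y Y := by
      rw [← hsum, Finset.sum_congr rfl fun p _ => hone p, hY]; simp [two_mul]
    rw [ip, ← Finset.sum_add_sum_compl (Finset.univ.image g)] at h2
    have h3 : ∑ χ ∈ (Finset.univ.image g)ᶜ, Y χ * Y χ = 0 := by linarith
    exact mul_self_eq_zero.1 ((Finset.sum_eq_zero_iff_of_nonneg fun χ _ => mul_self_nonneg (Y χ)).1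
      h3 χ (Finset.mem_compl.2 hχ))
  rw [← Finset.sum_subset (Finset.subset_univ (Finset.univ.image g))
    (fun χ _ hχ => by rw [h0 χ hχ, zero_mul]), Finset.sum_image hinj.injOn, Fintype.sum_sum_type,
    ← Finset.sum_add_distrib]
  refine (Finset.abs_sum_le_sum_abs _ _).trans (Finset.sum_le_sum fun γ _ => le_of_eq ?_)
  have h1 := hone (Sum.inl γ)
  simp only [g, Sum.elim_inl, Sum.elim_inr, ← heq γ] at h1 ⊢
  rcases mul_self_eq_one_iff.1 h1 with e | e <;> rw [e]
  · simp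
  · rw [← abs_neg]; congr 1; ring

/-- Two signed pairs of norm two which are orthogonal cannot overlap head to head. -/
theorem pair_overlap {X : Type u} [DecidableEq X] {a b c d : X} (hab : a ≠ b) (hcd : c ≠ d)
    (h : a = c ∨ b = d ∨ a = d)
    (h0 : (((if a = c then 1 else 0) - if a = d then 1 else 0 : ℤ) -
      ((if b = c then 1 else 0) - if b = d then 1 else 0)) = 0) : False := by
  rcases h with rfl | rfl | rfl
  · rw [if_pos rfl, if_neg hcd, if_neg hab.symm] at h0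
    split_ifs at h0 <;> omega
  · rw [if_pos rfl, if_neg hab, if_neg hcd.symm] at h0
    split_ifs at h0 <;> omega
  · rw [if_pos rfl, if_neg hcd.symm, if_neg hab.symm] at h0
    split_ifs at h0 <;> omega

theorem caseB_numeric {k q v W δ T A : ℤ} (hq : 8 ≤ q) (hk : 1 ≤ k) (hkv : k ≤ v)
    (hW : 2 * (q - 2) ≤ k * W) (hδ : W * δ ^ 2 ≤ q * v) (hT : |v * (q - 2) + 2 * δ| ≤ T)
    (hA : T ^ 2 ≤ k * A) (hA2 : 2 * A < (q - 1) * v) : False := by
  have hv : 1 ≤ v := hk.trans hkv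
  have hq2 : 0 < q - 2 := by linarith
  have h1 : (v * (q - 2) + 2 * δ) ^ 2 ≤ T ^ 2 := by
    rw [← sq_abs (v * (q - 2) + 2 * δ)]
    exact pow_le_pow_left₀ (abs_nonneg _) hT 2
  have h2 : 2 * (q - 2) * δ ^ 2 ≤ k * q * v := by
    nlinarith [mul_le_mul_of_nonneg_right hW (sq_nonneg δ), mul_le_mul_of_nonneg_left hδ
      (show (0 : ℤ) ≤ k by linarith)]
  have h3 : (v * (q - 2)) ^ 2 ≤ 2 * (v * (q - 2) + 2 * δ) ^ 2 + 8 * δ ^ 2 := by
    nlinarith [sq_nonneg (v * (q - 2) + 4 * δ)]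
  have h4 : (v * (q - 2)) ^ 2 < k * (q - 1) * v + 8 * δ ^ 2 := by nlinarith
  have h5 : (q - 2) * (v * (q - 2)) ^ 2 < k * v * ((q - 1) * (q - 2) + 4 * q) := by
    nlinarith [mul_lt_mul_of_pos_left h4 hq2]
  have h6 : k * v * ((q - 1) * (q - 2) + 4 * q) ≤ v * v * ((q - 1) * (q - 2) + 4 * q) :=
    mul_le_mul_of_nonneg_right (mul_le_mul_of_nonneg_right hkv (by linarith)) (by nlinarith)
  have h7 : (q - 1) * (q - 2) + 4 * q ≤ (q - 2) ^ 3 := by
    nlinarith [mul_le_mul (show (6 : ℤ) ≤ q - 2 by linarith) (show (6 : ℤ) ≤ q - 2 by linarith)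
      (by norm_num) hq2.le]
  nlinarith [mul_le_mul_of_nonneg_left h7 (mul_self_nonneg v)]

variable {G : Type u} {Ω : Type v} [Group G] [Fintype G] [MulAction G Ω] {a : Ω} {t : G}
  {Q S O : Subgroup G}

set_option maxHeartbeats 8000000 in
theorem Cfg.caseB (hc : Cfg a t Q S O) {lam : IrrCharacter ↥O} (hlam : cdeg lam = 1)
    (hne : (lam : ↥O → ℂ) ≠ fun _ => 1) (hcard : Nat.card S = qq G a)
    (hL1 : stabC hc.dec.normO lam ≠ ⊥) : False := by
  obtain rfl : S = zGrp G a := (eq_of_le_of_card_ge hc.zle hcard.le).symm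
  set L := stabC hc.dec.normO lam with hLdef
  obtain ⟨d₀, hd₀, hd1⟩ := (bot_or_exists_ne_one L).resolve_left hL1
  obtain ⟨hsv, -, hkv, hLp⟩ := hc.stab_facts hne
  have hq := hc.ctx.four_le_qq
  have hM : Nat.card (zGrp G a) = 1 * qq G a := by rw [one_mul]; rfl
  have hk3 : 3 ≤ Nat.card L ∧ qq G a = 2 ^ Nat.card L := by
    rcases hsv with h | h
    · exact absurd (Subgroup.eq_bot_of_card_eq _ h) hL1
    · exact h
  have hq8 : 8 ≤ qq G a := by
    rw [hk3.2]; exact (pow_bound hk3.1).2.2.2.2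
  -- the fixed characters of `Z`
  have hdeg : ∀ η : IrrCharacter ↥(zGrp G a), cdeg η = 1 := fun η =>
    le_antisymm ((Nat.le_mul_self _).trans (sq_cdeg_le hc.ctx hc.dec hc.pair hM η)) (cdeg_spec η).1
  have hfix2 : Nat.card {η : IrrCharacter ↥(zGrp G a) // actC hc.dec.normS d₀ η = η} = 2 := by
    rw [card_fixed_chars hc.dec.normS d₀ (fun x y => Subtype.ext (hc.ctx.zGrp_comm x.2 y.2).eq),
      (hc.lone hne d₀ hd₀ hd1).card_fixed hc.ctx hc.dec.normS]
  set one := oneChr ↥(zGrp G a)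
  have hone_fix : ∀ l, actC hc.dec.normS l one = one := actC_oneChr _
  obtain ⟨η₀, hη₀d, hη₀1⟩ : ∃ η, actC hc.dec.normS d₀ η = η ∧ η ≠ one := by
    haveI := (Finite.one_lt_card_iff_nontrivial).1 (show
      1 < Nat.card {η : IrrCharacter ↥(zGrp G a) // actC hc.dec.normS d₀ η = η} by omega)
    obtain ⟨x, hx⟩ := exists_ne
      (⟨one, hone_fix d₀⟩ : {η : IrrCharacter ↥(zGrp G a) // actC hc.dec.normS d₀ η = η})
    exact ⟨x.1, x.2, fun e => hx (Subtype.ext e)⟩
  have hη₀fix : ∀ l ∈ L, actC hc.dec.normS l η₀ = η₀ := fun l hl =>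
    fixed_of_not_reg hc.dec hc.pair hLp (fun h => hd1 ((mem_regSet hc.dec).1 h d₀ hd₀ hη₀d)) hl
  have hom : ∀ η : IrrCharacter ↥(zGrp G a), η ≠ one → omInd hc.pair η = 0 := fun η hη => by
    refine if_neg fun h => hη (Subtype.ext (funext fun z => ?_))
    rw [show z = (⟨(z : G), hc.pair.le z.2⟩ : ↥(zGrp G a)) from rfl,
      apply_om (S := zGrp G a) (Z := zGrp G a) hc.pair η z, hdeg η, congrFun h z]
    simp [one, oneChr]
  have homone : omInd hc.pair one = 1 := by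
    refine if_pos (funext fun z => ?_)
    show omFun hc.pair.le one z = 1
    simp [omFun, one, cdeg_oneChr]
    rfl
  -- a regular member
  have hregw := hc.reg_le hlam hne hM
  have hregc : qq G a - 2 ≤ (regSet hc.dec L).card := by
    rw [Finset.card_eq_sum_ones]
    simpa [hdeg] using hregw
  obtain ⟨ηr, hηr⟩ := Finset.card_pos.1 (show 0 < (regSet hc.dec L).card by omega)
  have hηrne : ηr ≠ one := fun e => hd1 ((mem_regSet hc.dec).1 (e ▸ hηr) d₀ hd₀ (hone_fix d₀))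
  obtain ⟨P⟩ := hc.exists_family_part hlam hne hM
  obtain ⟨s, r, hsr⟩ := hc.ctx.exists_link
  have hsZ : s ∈ zSharp G a := mem_zSharp.2 ⟨subset_closure hsr.1, hsr.1.2.1⟩
  have hs2 : s * s = 1 := hsr.1.2.2
  obtain ⟨i₀, hf0, hi₀, -, hδ⟩ := hc.row_facts hlam hne hM P hsZ hs2 hηr (hdeg ηr)
  rw [hom ηr hηrne] at hδ
  set v := Nat.card (vGrp G a t)
  set q := qq G a
  set y0 := iVal (P.e i₀) hs2
  -- the two characters
  set θ₁ := hc.dec.chr one lam
  set θ₀ := hc.dec.chr η₀ lam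
  have hθdeg : cdeg θ₁ = 1 ∧ cdeg θ₀ = 1 := by
    simp only [θ₁, θ₀, hc.dec.cdeg_chr, hdeg, hlam, mul_one, and_self]
  have h₁ : LinInv hc.ctx L θ₁ := ⟨hθdeg.1, fun l hl => by
    rw [hc.dec.actC_chr, hone_fix, (mem_stabC _).1 hl]⟩
  have h₀ : LinInv hc.ctx L θ₀ := ⟨hθdeg.2, fun l hl => by
    rw [hc.dec.actC_chr, hη₀fix l hl, (mem_stabC _).1 hl]⟩
  have hθne : θ₁ ≠ θ₀ := fun e => hη₀1 (hc.dec.chr_inj.1 e).1.symm
  have hstab : ∀ d η, (η = one ∨ η = η₀) →
      (actC (frame hc.ctx).norm d (hc.dec.chr η lam) = hc.dec.chr η lam ↔ d ∈ L) := by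
    intro d η hη
    rw [hc.dec.actC_chr, hc.dec.chr_inj, hLdef, mem_stabC]
    refine ⟨And.right, fun h => ⟨?_, h⟩⟩
    rcases hη with rfl | rfl
    · exact hone_fix d
    · exact hη₀fix d h
  have hsep : ExtSep hc.ctx L θ₁ θ₀ := ⟨fun d hd i j e => by
    cases i <;> cases j <;> simp only [cond_true, cond_false, θ₁, θ₀] at e <;>
      rw [hc.dec.actC_chr, hc.dec.chr_inj] at e <;> exact hd e.2, hθne⟩
  -- the inner products with the family
  have hout : ∀ η, (η = one ∨ η = η₀) → hc.dec.chr η lam ∉ members hc lam := fun η hη hm =>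
    hd1 ((hc.fam hne).free _ hm d₀ ((hstab d₀ η hη).2 hd₀))
  have hgθ : ∀ η η', (η = one ∨ η = η₀) → (η' = one ∨ η' = η₀) →
      ip (mv (hc.dec.chr η lam)) (mv (hc.dec.chr η' lam)) =
        (if η = η' then (Nat.card L : ℤ) else 0) + Nat.card (twoPt G a t) := by
    intro η η' hη hη'
    rw [ip_mv, (frame hc.ctx).gram, hc.dec.cdeg_chr, hc.dec.cdeg_chr, hdeg, hdeg, hlam]
    by_cases e : η = η'
    · subst e
      rw [if_pos rfl, Nat.card_congr (Equiv.subtypeEquivRight fun d => hstab d η hη)]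
      push_cast; ring
    · rw [if_neg e]
      haveI : IsEmpty {d : ↥(twoPt G a t) // actC (frame hc.ctx).norm d (hc.dec.chr η lam) =
          hc.dec.chr η' lam} := ⟨fun ⟨d, hd⟩ => by
        rw [hc.dec.actC_chr, hc.dec.chr_inj] at hd
        rcases hη with rfl | rfl
        · exact e ((hone_fix d).symm.trans hd.1)
        · exact e ((hη₀fix d hd.2).symm.trans hd.1)⟩
      rw [Nat.card_of_isEmpty]
      push_cast; ring
  have hfone : ∀ i, (hc.fam hne).rows.f i = 1 := by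
    intro i
    obtain ⟨η, -, b, -, hd⟩ := hc.exists_gen hlam hne i
    rw [← hd, hdeg]
  have hkW : (Nat.card L : ℤ) * (hc.fam hne).W = 2 * ((regSet hc.dec L).card : ℤ) := by
    have := hc.weight_rows hlam hne hM
    rw [this, hLdef]
    simp [hdeg]
  have hW : 2 * ((q : ℤ) - 2) ≤ (Nat.card L : ℤ) * (hc.fam hne).W := by
    rw [hkW]
    have h := (Nat.cast_le (α := ℤ)).2 hregc
    rw [Nat.cast_sub (show 2 ≤ qq G a by omega)] at h
    simp only [q]
    push_cast at h ⊢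
    linarith
  have hc' : ∀ η, (η = one ∨ η = η₀) →
      ip (mv (hc.dec.chr η lam)) P.c = (Nat.card (twoPt G a t) : ℤ) - P.ε * P.x := by
    intro η hη
    have hout' := hout η hη
    have hcdeg : cdeg (hc.dec.chr η lam) = 1 := by rw [hc.dec.cdeg_chr, hdeg, hlam]
    have hrow : ∀ j, ip (mv (hc.dec.chr η lam)) ((hc.fam hne).rows.m j) = (hc.fam hne).rows.k * 1 * (hc.fam hne).rows.f j := by
      intro j; rw [(hc.fam hne).ip_rep _ hout' j, hcdeg]; push_cast; ring
    have hown := P.own (mv (hc.dec.chr η lam)) 1 (Nat.card L) one_pos (Finset.mem_univ i₀) hf0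
      (fun j _ => hrow j) (by rw [hgθ η η hη hη, if_pos rfl]; simp [Fam.rows])
      (by
        show ip (mv _) (mv (hc.dec.chr η lam) ∘ conjPerm) = _
        rw [← mv_conj', ip_mv, (frame hc.ctx).gram, cdeg_conjIrr, hcdeg]
        haveI : IsEmpty {d : ↥(twoPt G a t) // actC (frame hc.ctx).norm d (hc.dec.chr η lam) =
            Char.conjIrr (hc.dec.chr η lam)} := ⟨fun ⟨d, hd⟩ => by
          rw [hc.dec.conjIrr_chr, hc.dec.actC_chr, hc.dec.chr_inj] at hd
          exact hc.conj_ne hne _ hd.2⟩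
        rw [Nat.card_of_isEmpty]; simp [Fam.rows])
      (Int.natCast_nonneg _) (by
        have hb := own_bound (η := 1) (M := 1) hq hsv le_rfl le_rfl (show (qq G a - 2) * 1 ≤
          (regSet hc.dec L).card by omega)
        have hb' : (Nat.card L : ℤ) * ((Nat.card L : ℤ) + 4) < 4 * ((regSet hc.dec L).card : ℤ) := by
          exact_mod_cast hb
        have : (Nat.card L : ℤ) * ((Nat.card L : ℤ) + 4) < (Nat.card L : ℤ) * (2 * (hc.fam hne).W) := by
          linarith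
        exact lt_of_mul_lt_mul_left this (Int.natCast_nonneg _))
      (Finset.mem_univ i₀)
    have h := P.ip_row (mv (hc.dec.chr η lam)) (Finset.mem_univ i₀)
    rw [hrow, hown, hf0] at h
    simp only [Fam.rows] at h ⊢
    push_cast at h
    linarith
  -- the induced differences
  haveI : IsMulCommutative ↥L := by
    rcases hLp with h | h
    · exact absurd (Subgroup.eq_bot_of_card_eq _ h) hL1
    · haveI := Fact.mk h
      haveI : IsCyclic ↥L := isCyclic_of_prime_card rfl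
      letI := IsCyclic.commGroup (α := ↥L)
      exact ⟨⟨mul_comm⟩⟩
  have hγdeg : ∀ γ : IrrCharacter ↥L, cdeg γ = 1 := fun γ =>
    cdeg_eq (by rw [Char.IsIrr.degree_one_of_isMulCommutative γ.2, Nat.cast_one])
  have hΓ : Fintype.card (IrrCharacter ↥L) = Nat.card L := by
    rw [← Nat.card_eq_fintype_card, Char.card_irrCharacter, Char.card_conjClasses_eq_card_iff]
    exact fun x y => mul_comm' x y
  let a' := fun γ : IrrCharacter ↥L => diffExt hc.ctx L h₁ h₀ (linHom γ (hγdeg γ))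
  choose m hmψ hmsum _hm3 using fun γ => Char.IsGen.exists_mult
    (Char.isGeneralized_indFun (extSub hc.ctx L) (isGen_diffExt hc.ctx L h₁ h₀ (linHom γ (hγdeg γ))))
  have hmeq : ∀ γ, indFun (extSub hc.ctx L) (a' γ) = ∑ χ : IrrCharacter G, (m γ χ : ℂ) • (χ : G → ℂ) :=
    hmsum
  have hmm : ∀ γ γ', ip (m γ) (m γ') = if γ = γ' then 2 else 0 := by
    intro γ γ'
    have h := ext_inner hc.ctx L h₁ h₀ hsep (linHom γ (hγdeg γ)) (linHom γ' (hγdeg γ'))
    rw [ext_gram hc.ctx L h₁ h₀ hθne, Char.classInner_eq_sum (Char.isClassFunction_indFun _ _)] at h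
    simp only [hmψ] at h
    have h1 : ∀ χ : IrrCharacter G, classInner (χ : G → ℂ)
        (indFun (extSub hc.ctx L) (diffExt hc.ctx L h₁ h₀ (linHom γ' (hγdeg γ')))) = (m γ' χ : ℂ) := by
      intro χ; rw [← Char.classInner_conj_symm, hmψ, map_intCast]
    simp only [h1] at h
    have hiff : linHom γ (hγdeg γ) = linHom γ' (hγdeg γ') ↔ γ = γ' := by
      refine ⟨fun e => Subtype.ext (funext fun x => ?_), fun e => by subst e; rfl⟩
      rw [← linHom_apply γ (hγdeg γ), e, linHom_apply]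
    have : ((ip (m γ) (m γ') : ℤ) : ℂ) = ((if γ = γ' then 2 else 0 : ℤ) : ℂ) := by
      simp only [ip]; push_cast
      rw [h]
      simp only [hiff]
    exact_mod_cast this
  have hmθ : ∀ γ (θ : IrrCharacter ↥Q), (Nat.card L : ℤ) * ip (m γ) (mv θ) =
      ip (mv θ₁) (mv θ) - ip (mv θ₀) (mv θ) := by
    intro γ θ
    have hI : ∀ φ : G → ℂ, IsClassFunction G φ → ∀ w : IrrCharacter G → ℤ,
        (∀ χ : IrrCharacter G, classInner φ (χ : G → ℂ) = (w χ : ℂ)) →
        classInner (fun x : ↥Q => φ x) (θ : ↥Q → ℂ) = ((ip w (mv θ) : ℤ) : ℂ) := by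
      intro φ hφ w hw
      rw [← Char.classInner_indFun_right Q _ hφ, Char.classInner_eq_sum hφ]
      simp only [hw, ip]
      push_cast
      refine Finset.sum_congr rfl fun χ _ => ?_
      rw [← Char.classInner_conj_symm, mv_spec, map_intCast]
    have e1 := hI _ (Char.isClassFunction_indFun _ _) (m γ) (hmψ γ)
    have e2 := hI _ (Char.isClassFunction_indFun Q (θ₁ : ↥Q → ℂ)) (mv θ₁) (mv_spec θ₁)
    have e3 := hI _ (Char.isClassFunction_indFun Q (θ₀ : ↥Q → ℂ)) (mv θ₀) (mv_spec θ₀)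
    have h : ((Nat.card L : ℂ) • fun x : ↥Q => indFun (extSub hc.ctx L) (a' γ) x) =
        (fun x : ↥Q => indFun Q (θ₁ : ↥Q → ℂ) x) - fun x : ↥Q => indFun Q (θ₀ : ↥Q → ℂ) x :=
      funext fun x => ext_res hc.ctx L h₁ h₀ _ x
    have h' := congrArg (fun f => classInner f (θ : ↥Q → ℂ)) h
    simp only [Char.classInner_smul_left, Char.classInner_sub_left] at h'
    rw [e1, e2, e3] at h'
    exact_mod_cast h'
  have hmdeg : ∀ γ, ∑ χ, m γ χ * (cdeg χ : ℤ) = 0 := by
    intro γ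
    have h := congrFun (hmeq γ) 1
    rw [Char.indFun_apply_one, show a' γ 1 = 0 from diffExt_one hc.ctx L h₁ h₀ _, mul_zero,
      Finset.sum_apply] at h
    simp only [Pi.smul_apply, smul_eq_mul, (cdeg_spec _).2] at h
    exact_mod_cast h.symm
  choose μ ν hμν hm using fun γ => Zassenhaus.pair_of_norm_two (m γ) (fun χ => (cdeg χ : ℤ))
    (fun χ => by exact_mod_cast (cdeg_spec χ).1)
    (show ∑ χ, m γ χ * m γ χ = 2 by have := hmm γ γ; rw [if_pos rfl] at this; exact this) (hmdeg γ)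
  have hipl : ∀ γ (b : IrrCharacter G → ℤ), ip (m γ) b = b (μ γ) - b (ν γ) := fun γ b => by
    simp [ip, hm γ, sub_mul, Finset.sum_sub_distrib]
  have hdegeq : ∀ γ, cdeg (μ γ) = cdeg (ν γ) := fun γ => by
    have h := hipl γ fun χ => (cdeg χ : ℤ)
    rw [show ip (m γ) (fun χ => (cdeg χ : ℤ)) = 0 from hmdeg γ] at h
    omega
  have hk0 : (Nat.card L : ℤ) ≠ 0 := by exact_mod_cast Nat.card_pos.ne'
  -- they miss the distinguished points
  have hmrow : ∀ γ j, ip (m γ) ((hc.fam hne).rows.m j) = 0 := by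
    intro γ j
    have h := hmθ γ (rep j)
    rw [mv_rep, show ip (mv θ₁) j.1 = _ from (hc.fam hne).ip_rep θ₁ (hout one (Or.inl rfl)) j,
      show ip (mv θ₀) j.1 = _ from (hc.fam hne).ip_rep θ₀ (hout η₀ (Or.inr rfl)) j, hθdeg.1, hθdeg.2,
      sub_self] at h
    exact (mul_eq_zero.1 h).resolve_left hk0
  have hι : 3 ≤ Fintype.card (Idx (members hc lam)) := by
    have h := hc.sum_rows hlam hne (fun _ => 1)
    rw [← Finset.card_eq_sum_ones, ← Finset.card_eq_sum_ones, Finset.card_univ] at h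
    by_contra hlt
    have := Nat.mul_le_mul_left (Nat.card (stabC hc.dec.normO lam))
      (show Fintype.card (Idx (members hc lam)) ≤ 2 by omega)
    have := (pow_bound hk3.1).2.1
    simp only [hLdef] at hk3 hregc this
    rw [← hk3.2] at this
    omega
  have hme : ∀ γ j, m γ (P.e j) = 0 := by
    intro γ j
    have heq : ∀ l, m γ (P.e l) = m γ (P.e j) := fun l => by
      rw [P.prop_row (m γ) 0 (fun i _ => by rw [hmrow]; ring) (Finset.mem_univ l),
        P.prop_row (m γ) 0 (fun i _ => by rw [hmrow]; ring) (Finset.mem_univ j), hfone, hfone]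
    by_contra hz
    have hsub : Finset.univ.image P.e ⊆ {μ γ, ν γ} := by
      intro χ hχ
      obtain ⟨l, -, rfl⟩ := Finset.mem_image.1 hχ
      have := heq l ▸ hz
      rw [hm] at this
      by_contra hh
      simp only [Finset.mem_insert, Finset.mem_singleton, not_or] at hh
      rw [if_neg hh.1, if_neg hh.2] at this
      exact this (sub_zero _)
    have h3 := (Finset.card_le_card hsub).trans Finset.card_le_two
    rw [Finset.card_image_of_injOn (by simpa using P.inj), Finset.card_univ] at h3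
    omega
  have hmc : ∀ γ, ip (m γ) P.c = 0 := fun γ => by
    have h := P.ip_row (m γ) (Finset.mem_univ i₀)
    rw [hmrow, hme, hf0] at h
    simpa using h.symm
  -- the two projections
  set X : IrrCharacter G → ℤ := mv θ₁ - P.c with hX
  set X' : IrrCharacter G → ℤ := mv θ₀ - P.c with hX'
  have g11 : ip (mv θ₁) (mv θ₁) = _ := hgθ one one (Or.inl rfl) (Or.inl rfl)
  have g00 : ip (mv θ₀) (mv θ₀) = _ := hgθ η₀ η₀ (Or.inr rfl) (Or.inr rfl)
  have g10 : ip (mv θ₁) (mv θ₀) = _ := hgθ one η₀ (Or.inl rfl) (Or.inr rfl)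
  rw [if_pos rfl] at g11 g00
  rw [if_neg (Ne.symm hη₀1), zero_add] at g10
  have hc1 : ip (mv θ₁) P.c = _ := hc' one (Or.inl rfl)
  have hc0 : ip (mv θ₀) P.c = _ := hc' η₀ (Or.inr rfl)
  have hcc := P.norm_c
  simp only [Fam.rows] at hcc
  have hnX : ip X X = Nat.card L := by
    rw [hX, ip_sub_left, ip_sub_right, ip_sub_right, ip_comm P.c (mv θ₁), g11, hc1, hcc]; ring
  have hnX' : ip X' X' = Nat.card L := by
    rw [hX', ip_sub_left, ip_sub_right, ip_sub_right, ip_comm P.c (mv θ₀), g00, hc0, hcc]; ring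
  have hXX' : ip X X' = 0 := by
    rw [hX, hX', ip_sub_left, ip_sub_right, ip_sub_right, ip_comm P.c (mv θ₀), g10, hc1, hc0, hcc]
    ring
  set Y : IrrCharacter G → ℤ := X + X' with hY
  have hYY : ip Y Y = 2 * Fintype.card (IrrCharacter ↥L) := by
    have : ip Y Y = ip X X + 2 * ip X X' + ip X' X' := by
      simp only [hY, ip, Pi.add_apply, Finset.mul_sum, ← Finset.sum_add_distrib]
      exact Finset.sum_congr rfl fun _ _ => by ring
    rw [this, hnX, hnX', hXX', hΓ]; ring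
  have hm1 : ∀ γ, ip (m γ) (mv θ₁) = 1 := fun γ => by
    have h := hmθ γ θ₁
    rw [g11, ip_comm (mv θ₀), g10] at h
    exact mul_left_cancel₀ hk0 (by linarith)
  have hm0 : ∀ γ, ip (m γ) (mv θ₀) = -1 := fun γ => by
    have h := hmθ γ θ₀
    rw [g00, g10] at h
    exact mul_left_cancel₀ hk0 (by linarith)
  have hYeq : ∀ γ, Y (μ γ) = Y (ν γ) := fun γ => by
    have h := hipl γ Y
    have h' : ip (m γ) Y = ip (m γ) (mv θ₁) + ip (m γ) (mv θ₀) - 2 * ip (m γ) P.c := by
      simp only [hY, hX, hX', ip, Pi.add_apply, Pi.sub_apply, Finset.mul_sum, ← Finset.sum_add_distrib,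
        ← Finset.sum_sub_distrib]
      exact Finset.sum_congr rfl fun _ _ => by ring
    rw [h', hm1, hm0, hmc] at h
    linarith
  have hinj : Function.Injective (Sum.elim μ ν) := by
    have hsame : ∀ γ γ', μ γ = μ γ' ∨ ν γ = ν γ' ∨ μ γ = ν γ' → γ = γ' := by
      intro γ γ' h
      by_contra hne'
      have hi := hipl γ (m γ')
      rw [hmm, if_neg hne', hm γ', hm γ'] at hi
      exact pair_overlap (hμν γ) (hμν γ') h hi.symm
    rintro (γ | γ) (γ' | γ') e <;> simp only [Sum.elim_inl, Sum.elim_inr] at e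
    · rw [hsame γ γ' (Or.inl e)]
    · obtain rfl := hsame γ γ' (Or.inr (Or.inr e)); exact absurd e (hμν γ)
    · obtain rfl := hsame γ' γ (Or.inr (Or.inr e.symm)); exact absurd e.symm (hμν γ')
    · rw [hsame γ γ' (Or.inr (Or.inl e))]
  have hSig : ∀ χ, X χ - X' χ = ∑ γ, m γ χ := by
    have hw0 : ip (fun χ => ∑ γ, m γ χ) (fun χ => ∑ γ, m γ χ) =
        2 * (Fintype.card (IrrCharacter ↥L) : ℤ) := by
      have : ip (fun χ => ∑ γ, m γ χ) (fun χ => ∑ γ, m γ χ) = ∑ γ, ∑ γ', ip (m γ) (m γ') := by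
        simp only [ip, Finset.sum_mul_sum]
        rw [Finset.sum_comm]
        exact Finset.sum_congr rfl fun γ _ => Finset.sum_comm
      rw [this]
      simp only [hmm, Finset.sum_ite_eq, Finset.mem_univ, if_true, Finset.sum_const, Finset.card_univ,
        nsmul_eq_mul]
      ring
    have hw1 : ip (fun χ => ∑ γ, m γ χ) (mv θ₁ - mv θ₀) = 2 * (Fintype.card (IrrCharacter ↥L) : ℤ) := by
      have : ip (fun χ => ∑ γ, m γ χ) (mv θ₁ - mv θ₀) = ∑ γ, (ip (m γ) (mv θ₁) - ip (m γ) (mv θ₀)) := by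
        simp only [ip, Finset.sum_mul, Pi.sub_apply, mul_sub, Finset.sum_sub_distrib]
        congr 1 <;> rw [Finset.sum_comm]
      rw [this]
      simp [hm1, hm0]; ring
    have hdd : ip (mv θ₁ - mv θ₀) (mv θ₁ - mv θ₀) = 2 * (Fintype.card (IrrCharacter ↥L) : ℤ) := by
      rw [ip_sub_left, ip_sub_right, ip_sub_right, ip_comm (mv θ₀) (mv θ₁), g11, g10, g00, hΓ]; ring
    set w : IrrCharacter G → ℤ := (mv θ₁ - mv θ₀) - fun χ => ∑ γ, m γ χ with hw
    have hww : ip w w = 0 := by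
      have key : ∀ p r : IrrCharacter G → ℤ, ip (p - r) (p - r) = ip p p - 2 * ip r p + ip r r := by
        intro p r
        simp only [ip, Pi.sub_apply, Finset.mul_sum, ← Finset.sum_add_distrib, ← Finset.sum_sub_distrib]
        exact Finset.sum_congr rfl fun _ _ => by ring
      rw [hw, key, hdd, hw1, hw0]
      ring
    intro χ
    have h0 := mul_self_eq_zero.1 ((Finset.sum_eq_zero_iff_of_nonneg
      fun χ _ => mul_self_nonneg (w χ)).1 hww χ (Finset.mem_univ χ))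
    simp only [hw, Pi.sub_apply] at h0
    simp only [hX, hX', Pi.sub_apply]
    linarith
  have hodd : ∀ γ, Y (μ γ) ≠ 0 := by
    intro γ hY0
    have h := hSig (μ γ)
    rw [Finset.sum_eq_single γ (fun γ' _ hne' => by
      rw [hm γ', if_neg fun e : μ γ = μ γ' =>
          hne' (Sum.inl_injective (hinj (a₁ := Sum.inl γ) (a₂ := Sum.inl γ') e)).symm,
        if_neg fun e : μ γ = ν γ' =>
          Sum.inl_ne_inr (hinj (a₁ := Sum.inl γ) (a₂ := Sum.inr γ') e), sub_zero])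
      (fun hh => absurd (Finset.mem_univ _) hh), hm γ, if_pos rfl, if_neg (hμν γ)] at h
    simp only [hY, Pi.add_apply] at hY0
    omega
  have hbound := split_sum Y (fun χ => iVal χ hs2) μ ν hYeq hodd hinj hYY
  -- the value of `Y` at an involution
  have hval : ∀ θ : IrrCharacter ↥Q, ∀ e : ℤ,
      indFun Q (θ : ↥Q → ℂ) s = (e : ℂ) → ∑ χ, mv θ χ * iVal χ hs2 = e := by
    intro θ e he
    have h : ((∑ χ, mv θ χ * iVal χ hs2 : ℤ) : ℂ) = (e : ℂ) := by
      rw [← he, ind_apply_sum]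
      push_cast
      exact Finset.sum_congr rfl fun χ _ => by rw [iVal_spec χ hs2]
    exact_mod_cast h
  have hind : ∀ η, ∀ μ' : IrrCharacter ↥O, cdeg μ' = 1 →
      indFun Q (hc.dec.chr η μ' : ↥Q → ℂ) s = (((v : ℤ) * ((q : ℤ) * omInd hc.pair η - 1) : ℤ) : ℂ) := by
    intro η μ' hμ'
    rw [hc.ind_at_invol _ hsZ, hc.zsum_chr η hμ', hdeg]
    push_cast; ring
  have hv1 := hval θ₁ _ (hind one lam hlam)
  have hv0 := hval θ₀ _ (hind η₀ lam hlam)
  have hvr := hval (rep i₀) ((v : ℤ) * ((q : ℤ) * omInd hc.pair ηr - 1)) (by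
    rw [hc.ind_mv_eq hne (θ' := hc.dec.chr ηr lam) (by rw [mv_rep, hi₀])]
    exact hind ηr lam hlam)
  rw [homone] at hv1
  rw [hom η₀ hη₀1] at hv0
  rw [hom ηr hηrne] at hvr
  have hcs : ∑ χ, P.c χ * iVal χ hs2 = -(v : ℤ) - P.ε * y0 := by
    have e : ∀ χ, mv (rep i₀) χ = P.c χ + if χ = P.e i₀ then P.ε else 0 := fun χ => by
      rw [mv_rep, show i₀.1 χ = (hc.fam hne).rows.m i₀ χ from rfl, P.row i₀ (Finset.mem_univ _), hf0]; simp
    simp only [e, add_mul, Finset.sum_add_distrib, ite_mul, zero_mul, Finset.sum_ite_eq',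
      Finset.mem_univ, if_true] at hvr
    simp only [y0] at hvr ⊢
    linarith
  set δ : ℤ := P.ε * y0 - (v : ℤ) * ((q : ℤ) * 0 - 1) with hδdef
  have hYs : ∑ χ, Y χ * iVal χ hs2 = (v : ℤ) * ((q : ℤ) - 2) + 2 * δ := by
    simp only [hY, hX, hX', Pi.add_apply, Pi.sub_apply, add_mul, sub_mul, Finset.sum_add_distrib,
      Finset.sum_sub_distrib, hv1, hv0, hcs, δ]
    ring
  rw [hYs] at hbound
  -- the pairs of involutions
  have hn1 : (0 : ℤ) < (Nat.card Q : ℤ) + 1 := by positivity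
  have hpair : ∀ γ, ((Nat.card Q : ℤ) + 1) ^ 2 * ((q : ℤ) - 1) ^ 2 *
      (iVal (μ γ) hs2 + iVal (ν γ) hs2) ^ 2 = (cdeg (μ γ) : ℤ) ^ 2 * ((q : ℤ) - 2) ^ 2 := by
    intro γ
    have hidx : (extSub hc.ctx L).index * Nat.card L =
        Nat.card (twoPt G a t) * (Nat.card Q + 1) := by
      have h := (extSub hc.ctx L).card_mul_index
      rw [card_extSub, card_group hc.ctx.setup, mul_assoc, mul_assoc] at h
      rw [mul_comm]
      exact Nat.eq_of_mul_eq_mul_left Nat.card_pos h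
    have hsum : ∑ z ∈ zSharp G a, extendByZero (extSub hc.ctx L) (a' γ) z = (q : ℂ) := by
      have e : ∀ z ∈ zSharp G a, extendByZero (extSub hc.ctx L) (a' γ) z =
          extendByZero Q (θ₁ : ↥Q → ℂ) z - extendByZero Q (θ₀ : ↥Q → ℂ) z := by
        intro z hz
        have hzQ := hc.ctx.zGrp_le (mem_zSharp.1 hz).1
        rw [show z = ((⟨z, hzQ⟩ : ↥Q) : G) from rfl, Char.extendByZero_coe, Char.extendByZero_coe,
          Char.extendByZero_of_mem _ _ (Q_le_extSub hc.ctx L hzQ)]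
        exact diffExt_Q hc.ctx L h₁ h₀ _ ⟨z, hzQ⟩
      rw [Finset.sum_congr rfl e, Finset.sum_sub_distrib, hc.zsum_chr one hlam, hc.zsum_chr η₀ hlam,
        homone, hom η₀ hη₀1, hdeg, hdeg]
      push_cast; ring
    have h := pair_gen (extSub hc.ctx L) (a' γ) (fun χ => (m γ χ : ℂ)) (hmeq γ) (invols G)
      (invols_class hc.ctx hsZ) (fun u hu => (mem_invols.1 hu).2)
    rw [sum_count hc.ctx (a' γ) (fun x hx _ => diffExt_supp hc.ctx L h₁ h₀ _ hx)
      (hc.ctx.zGrp_le.trans (Q_le_extSub hc.ctx L)), show a' γ 1 = 0 from diffExt_one hc.ctx L h₁ h₀ _,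
      zero_mul, zero_add, hsum, card_invols hc.ctx] at h
    have hv : ((∑ χ, m γ χ * iVal χ hs2 : ℤ) : ℂ) = indFun (extSub hc.ctx L) (a' γ) s := by
      rw [hmeq γ]
      simp only [Finset.sum_apply, Pi.smul_apply, smul_eq_mul, iVal_spec _ hs2]
      push_cast; ring
    have hres := ext_res hc.ctx L h₁ h₀ (linHom γ (hγdeg γ)) ⟨s, hc.ctx.zGrp_le (mem_zSharp.1 hsZ).1⟩
    rw [hind one lam hlam, hind η₀ lam hlam, homone, hom η₀ hη₀1, ← hv,
      show ∑ χ, m γ χ * iVal χ hs2 = iVal (μ γ) hs2 - iVal (ν γ) hs2 from hipl γ _] at hres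
    rw [Finset.sum_congr rfl fun χ _ => show (m γ χ : ℂ) * _ = (if χ = μ γ then (((((Nat.card Q + 1) *
        (qq G a - 1) : ℕ) : ℂ)) ^ 2 * (χ : G → ℂ) s ^ 2 / (χ : G → ℂ) 1) else 0) -
        (if χ = ν γ then (((((Nat.card Q + 1) * (qq G a - 1) : ℕ) : ℂ)) ^ 2 * (χ : G → ℂ) s ^ 2 /
          (χ : G → ℂ) 1) else 0) by rw [hm γ χ]; split_ifs <;> push_cast <;> ring,
      Finset.sum_sub_distrib, Finset.sum_ite_eq', Finset.sum_ite_eq', if_pos (Finset.mem_univ _),
      if_pos (Finset.mem_univ _), (cdeg_spec (μ γ)).2, (cdeg_spec (ν γ)).2, ← hdegeq γ,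
      iVal_spec (μ γ) hs2, iVal_spec (ν γ) hs2] at h
    have hidx' : ((extSub hc.ctx L).index : ℂ) * Nat.card L =
        ((q : ℂ) - 1) * v * ((Nat.card Q : ℂ) + 1) := by
      have h' := congrArg (Nat.cast : ℕ → ℂ) hidx
      rw [card_D hc.ctx] at h'
      push_cast [Nat.cast_sub (show 1 ≤ qq G a by omega)] at h'
      exact h'
    push_cast [Nat.cast_sub (show 1 ≤ qq G a by omega), Nat.cast_sub (show 2 ≤ qq G a by omega)] at h hres
    set x := iVal (μ γ) hs2
    set x' := iVal (ν γ) hs2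
    set d := cdeg (μ γ)
    have hd0 : (d : ℂ) ≠ 0 := Nat.cast_ne_zero.2 (cdeg_spec _).1.ne'
    field_simp at h
    have hfac : ((q : ℂ) * v * ((Nat.card Q : ℂ) + 1) * ((q : ℂ) - 1)) ≠ 0 := by
      refine mul_ne_zero (mul_ne_zero (mul_ne_zero ?_ ?_) ?_) ?_
      · exact Nat.cast_ne_zero.2 (show q ≠ 0 by omega)
      · exact Nat.cast_ne_zero.2 Nat.card_pos.ne'
      · exact_mod_cast (show Nat.card Q + 1 ≠ 0 by omega)
      · rw [sub_ne_zero]; exact_mod_cast (show q ≠ 1 by omega)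
    have hlin : ((Nat.card Q : ℂ) + 1) * ((q : ℂ) - 1) * ((x : ℂ) + x') = (d : ℂ) * ((q : ℂ) - 2) := by
      refine mul_left_cancel₀ hfac ?_
      linear_combination (Nat.card L : ℂ) * h + (d : ℂ) * ((q : ℂ) - 2) * q * hidx' -
        ((Nat.card Q : ℂ) + 1) ^ 2 * ((q : ℂ) - 1) ^ 2 * ((x : ℂ) + x') * hres
    have hlin' : ((Nat.card Q : ℤ) + 1) * ((q : ℤ) - 1) * (x + x') = (d : ℤ) * ((q : ℤ) - 2) := by
      exact_mod_cast hlin
    have := congrArg (fun z : ℤ => z ^ 2) hlin'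
    simp only [mul_pow] at this
    exact this
  -- squares of the degrees
  have hG : (Nat.card G : ℤ) = (Nat.card Q : ℤ) * (((q : ℤ) - 1) * v) * ((Nat.card Q : ℤ) + 1) := by
    rw [card_group hc.ctx.setup, card_D hc.ctx]
    push_cast [Nat.cast_sub (show 1 ≤ qq G a by omega)]
    simp only [q, v]
  set A := ∑ γ, (iVal (μ γ) hs2 + iVal (ν γ) hs2) ^ 2
  have hA : ((Nat.card Q : ℤ) + 1) ^ 2 * A ≤ ∑ γ, (cdeg (μ γ) : ℤ) ^ 2 := by
    rw [Finset.mul_sum]
    refine Finset.sum_le_sum fun γ _ => ?_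
    have h := hpair γ
    have hq2 : (0 : ℤ) < ((q : ℤ) - 2) ^ 2 := by
      have : (4 : ℤ) ≤ q := by exact_mod_cast hq
      nlinarith
    refine le_of_mul_le_mul_right ?_ hq2
    rw [← h]
    have : ((q : ℤ) - 2) ^ 2 ≤ ((q : ℤ) - 1) ^ 2 := by
      have : (4 : ℤ) ≤ q := by exact_mod_cast hq
      nlinarith
    nlinarith [mul_le_mul_of_nonneg_left this (mul_nonneg (sq_nonneg ((Nat.card Q : ℤ) + 1))
      (sq_nonneg (iVal (μ γ) hs2 + iVal (ν γ) hs2)))]
  have hsum : 2 * ∑ γ, (cdeg (μ γ) : ℤ) ^ 2 ≤ Nat.card G := by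
    have h1 : ∑ p, cdeg (Sum.elim μ ν p) * cdeg (Sum.elim μ ν p) ≤ Nat.card G := by
      rw [← sum_cdeg_sq (H := G), ← Finset.sum_image (f := fun χ => cdeg χ * cdeg χ) hinj.injOn]
      exact Finset.sum_le_sum_of_subset (Finset.subset_univ _)
    rw [Fintype.sum_sum_type] at h1
    simp only [Sum.elim_inl, Sum.elim_inr, ← hdegeq] at h1
    have h2 := (Nat.cast_le (α := ℤ)).2 h1
    push_cast at h2
    simp only [pow_two]
    linarith
  have hA2 : 2 * A < ((q : ℤ) - 1) * v := by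
    have h := le_trans (mul_le_mul_of_nonneg_left hA (show (0 : ℤ) ≤ 2 by norm_num)) hsum
    rw [hG] at h
    have h3 : 2 * A * ((Nat.card Q : ℤ) + 1) ≤ (Nat.card Q : ℤ) * (((q : ℤ) - 1) * v) :=
      le_of_mul_le_mul_right (le_of_eq_of_le (by ring) h) hn1
    have hpos : (0 : ℤ) < ((q : ℤ) - 1) * v := by
      have : (4 : ℤ) ≤ q := by exact_mod_cast hq
      have : (0 : ℤ) < v := by exact_mod_cast Nat.card_pos
      exact mul_pos (by linarith) this
    by_contra hlt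
    have h5 := mul_le_mul_of_nonneg_right (not_lt.1 hlt) hn1.le
    rw [mul_add, mul_one] at h5 h3
    rw [mul_comm (Nat.card Q : ℤ)] at h3
    linarith
  have hA3 := sq_sum_le_card_mul_sum_sq (s := Finset.univ)
    (f := fun γ => |iVal (μ γ) hs2 + iVal (ν γ) hs2|)
  simp only [sq_abs, Finset.card_univ, hΓ] at hA3
  refine caseB_numeric (k := (Nat.card L : ℤ)) (q := (q : ℤ)) (v := (v : ℤ)) (W := (hc.fam hne).W) (δ := δ)
    (by exact_mod_cast hq8) (by exact_mod_cast Nat.card_pos) (by exact_mod_cast hkv) hW ?_ hbound hA3 hA2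
  push_cast at hδ
  rw [one_mul] at hδ
  exact hδ

end Cfsg.Agent.RankOneClass.Odd
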