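import Cfsg.Agent.RankOneClass.Odd.ActChar
import Cfsg.Agent.Char.ClassAlg

/-!
# Central characters of a group with central subgroup containing the commutators
-/

set_option autoImplicit false
set_option linter.unusedSectionVars false

namespace Cfsg.Agent.RankOneClass.Odd

open Subgroup Cfsg.Agent.Zassenhaus
open scoped ComplexConjugate

universe u

variable {G : Type u} [Group G] [Finite G] {D S Z : Subgroup G}

/-- A character at a central element. -/
theorem apply_central {H : Type u} [Group H] [Finite H] (η : IrrCharacter H) {z : H}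
    (hz : ∀ x, z * x = x * z) (x : H) :
    (η : H → ℂ) (z * x) * (η : H → ℂ) 1 = (η : H → ℂ) z * (η : H → ℂ) x := by
  obtain ⟨n, ρ, hρ, he⟩ := η.2
  obtain ⟨c, hc, hct⟩ := Char.commute_eq_scalar ρ hρ (ρ z) fun g => by
    rw [← map_mul, ← map_mul, hz]
  have e : ρ.character (z * x) = c * ρ.character x := by
    show LinearMap.trace ℂ _ (ρ (z * x)) = c * LinearMap.trace ℂ _ (ρ x)
    rw [map_mul, hc, smul_mul_assoc, map_smul, smul_eq_mul]
    rfl
  rw [← he, e, ρ.char_one]
  show _ = LinearMap.trace ℂ _ (ρ z) * _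
  rw [← hct]
  ring

/-- `Z` is central in `S` and contains its commutators. -/
structure CentPair (S Z : Subgroup G) : Prop where
  le : Z ≤ S
  central : ∀ z ∈ Z, ∀ x ∈ S, z * x = x * z
  comm_mem : ∀ x ∈ S, ∀ y ∈ S, x⁻¹ * y⁻¹ * x * y ∈ Z

/-- The central character, as a function. -/
noncomputable def omFun (hZ : Z ≤ S) (η : IrrCharacter ↥S) (z : ↥Z) : ℂ :=
  (η : ↥S → ℂ) ⟨z, hZ z.2⟩ / (cdeg η : ℂ)

theorem omFun_isIrr (h : CentPair S Z) (η : IrrCharacter ↥S) :
    IsIrrCharacter ↥Z (omFun h.le η) := by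
  have hd : (cdeg η : ℂ) ≠ 0 := Nat.cast_ne_zero.2 (cdeg_spec η).1.ne'
  have h1 : omFun h.le η 1 = 1 := by
    simp only [omFun]
    rw [show (⟨((1 : ↥Z) : G), h.le (1 : ↥Z).2⟩ : ↥S) = 1 from rfl, (cdeg_spec η).2, div_self hd]
  have hm : ∀ z z' : ↥Z, omFun h.le η (z * z') = omFun h.le η z * omFun h.le η z' := by
    intro z z'
    have e := apply_central η (z := ⟨z, h.le z.2⟩)
      (fun x => Subtype.ext (h.central z z.2 x x.2)) ⟨z', h.le z'.2⟩
    rw [(cdeg_spec η).2] at e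
    simp only [omFun]
    rw [div_mul_div_comm, ← e, mul_div_mul_right _ _ hd]
    rfl
  exact Char.isIrrCharacter_hom
    ({ toFun := omFun h.le η, map_one' := h1, map_mul' := hm } : ↥Z →* ℂ).toHomUnits

/-- The central character. -/
noncomputable def om (h : CentPair S Z) (η : IrrCharacter ↥S) : IrrCharacter ↥Z :=
  ⟨omFun h.le η, omFun_isIrr h η⟩

theorem apply_om (h : CentPair S Z) (η : IrrCharacter ↥S) (z : ↥Z) :
    (η : ↥S → ℂ) ⟨z, h.le z.2⟩ = (cdeg η : ℂ) * (om h η : ↥Z → ℂ) z :=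
  (mul_div_cancel₀ _ (Nat.cast_ne_zero.2 (cdeg_spec η).1.ne')).symm

theorem om_actC (h : CentPair S Z) (hS : NormBy D S) (hZ : NormBy D Z) (d : ↥D)
    (η : IrrCharacter ↥S) : om h (actC hS d η) = actC hZ d (om h η) :=
  Subtype.ext (funext fun z => by
    show omFun h.le (actC hS d η) z = omFun h.le η (cjHom hZ d⁻¹ z)
    simp only [omFun, cdeg_actC, actC_apply]
    rfl)

theorem comm_of_central (h : CentPair S Z) (x y : ↥Z) : x * y = y * x :=
  Subtype.ext (h.central x x.2 y (h.le y.2))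

/-- The degrees over one central character. -/
theorem weight_om (h : CentPair S Z) [DecidableEq (IrrCharacter ↥Z)] (w : IrrCharacter ↥Z) :
    (∑ η ∈ Finset.univ.filter (fun η : IrrCharacter ↥S => om h η = w), cdeg η * cdeg η) *
      Nat.card Z = Nat.card S := by
  classical
  letI := Fintype.ofFinite ↥Z
  letI := Fintype.ofFinite ↥S
  suffices hc : ((∑ η ∈ Finset.univ.filter (fun η : IrrCharacter ↥S => om h η = w),
      cdeg η * cdeg η : ℕ) : ℂ) * Nat.card Z = Nat.card S by exact_mod_cast hc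
  have h1 : ∀ η : IrrCharacter ↥S, ∑ z : ↥Z, (om h η : ↥Z → ℂ) z * conj ((w : ↥Z → ℂ) z) =
      (if om h η = w then 1 else 0) * (Nat.card Z : ℂ) := by
    intro η
    have e := Char.classInner_irrChar (G := ↥Z) (om h η) w
    rw [classInner, inv_mul_eq_iff_eq_mul₀ (Nat.cast_ne_zero.2 Nat.card_pos.ne')] at e
    rw [e]
    split_ifs <;> simp
  have h2 : ∑ z : ↥Z, (∑ η : IrrCharacter ↥S, (η : ↥S → ℂ) 1 * (η : ↥S → ℂ) ⟨z, h.le z.2⟩) *
      conj ((w : ↥Z → ℂ) z) = (Nat.card S : ℂ) := by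
    simp only [Char.regular_eq_sum, ite_mul, zero_mul]
    rw [Fintype.sum_eq_single (1 : ↥Z)]
    rotate_left
    · exact fun z hz => if_neg fun (e : (⟨(z : G), h.le z.2⟩ : ↥S) = 1) =>
        hz (Subtype.ext (show (z : G) = 1 from congrArg Subtype.val e))
    rw [if_pos (show (⟨((1 : ↥Z) : G), h.le (1 : ↥Z).2⟩ : ↥S) = 1 from rfl)]
    rw [show (w : ↥Z → ℂ) 1 = 1 from Char.IsIrr.degree_one_of_comm w.2 (comm_of_central h), map_one,
      mul_one]
  rw [← h2]
  simp only [apply_om h, (cdeg_spec _).2, Finset.sum_mul]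
  rw [Finset.sum_comm, Nat.cast_sum, Finset.sum_mul, Finset.sum_filter]
  refine Finset.sum_congr rfl fun η _ => ?_
  simp only [← mul_assoc]
  simp only [mul_assoc ((cdeg η : ℂ) * (cdeg η : ℂ)), ← Finset.mul_sum, h1]
  split_ifs <;> simp

/-- The characters trivial on `Z` are linear. -/
theorem cdeg_eq_one_of_om (h : CentPair S Z) {η : IrrCharacter ↥S}
    (ho : (om h η : ↥Z → ℂ) = fun _ => 1) : cdeg η = 1 := by
  set N : Subgroup ↥S := Z.subgroupOf S
  haveI : N.Normal := ⟨fun n hn x => by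
    rw [show x * n * x⁻¹ = n from Subtype.ext (by
      rw [coe_mul, coe_mul, coe_inv, ← h.central n hn x x.2, mul_inv_cancel_right])]
    exact hn⟩
  obtain ⟨φ, hφ, he⟩ := Char.IsIrr.exists_quotient N η.2 fun n hn => by
    rw [(cdeg_spec η).2, show n = ⟨((⟨n, hn⟩ : ↥Z) : G), h.le hn⟩ from rfl, apply_om h, ho, mul_one]
  refine cdeg_eq ?_
  rw [he 1, Nat.cast_one]
  refine Char.IsIrr.degree_one_of_comm hφ fun x y => ?_
  obtain ⟨x, rfl⟩ := QuotientGroup.mk_surjective x
  obtain ⟨y, rfl⟩ := QuotientGroup.mk_surjective y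
  rw [← QuotientGroup.mk_mul, ← QuotientGroup.mk_mul, QuotientGroup.eq]
  show ((x * y)⁻¹ * (y * x) : ↥S) ∈ N
  rw [mem_subgroupOf]
  convert h.comm_mem y y.2 x x.2 using 1
  simp [mul_assoc]

/-- The product of two linear characters. -/
noncomputable def mulLin {H : Type u} [Group H] [Finite H] (α β : IrrCharacter H) : IrrCharacter H :=
  if h : cdeg α = 1 ∧ cdeg β = 1 then
    ⟨_, Char.IsChar.isIrr_of_degree_one (Char.isCharacter_mul (Char.IsIrr.isCharacter α.2)
      (Char.IsIrr.isCharacter β.2)) (by simp [(cdeg_spec _).2, h.1, h.2])⟩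
  else α

theorem mulLin_apply {H : Type u} [Group H] [Finite H] {α β : IrrCharacter H} (hα : cdeg α = 1)
    (hβ : cdeg β = 1) (x : H) :
    (mulLin α β : H → ℂ) x = (α : H → ℂ) x * (β : H → ℂ) x := by
  rw [mulLin, dif_pos ⟨hα, hβ⟩]
  rfl

theorem lin_mul_conj {H : Type u} [Group H] [Finite H] {α : IrrCharacter H} (hα : cdeg α = 1)
    (x : H) : (α : H → ℂ) x * conj ((α : H → ℂ) x) = 1 := by
  have h1 : (α : H → ℂ) 1 = 1 := by rw [(cdeg_spec α).2, hα, Nat.cast_one]
  obtain ⟨f, hf⟩ := Char.IsChar.exists_hom (Char.IsIrr.isCharacter α.2) h1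
  rw [← Char.IsChar.inv_eq_conj (Char.IsIrr.isCharacter α.2), hf]
  simp

/-- Fixed characters and fixed elements of an abelian group. -/
theorem card_fixed_chars {D R : Subgroup G} (h : NormBy D R) (d : ↥D)
    (hab : ∀ x y : ↥R, x * y = y * x) :
    Nat.card {θ : IrrCharacter ↥R // actC h d θ = θ} = Nat.card {x : ↥R // cjHom h d x = x} := by
  have hinj : Function.Injective (ConjClasses.mk : ↥R → ConjClasses ↥R) := fun x y e => by
    obtain ⟨c, rfl⟩ := isConj_iff.1 (ConjClasses.mk_eq_mk_iff_isConj.1 e)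
    rw [hab c x, mul_inv_cancel_right]
  rw [Char.brauer_permutation (actC h d) (ConjClasses.map (cjHom h d⁻¹).toMonoidHom)
    fun χ g g' hg => by
      obtain rfl : cjHom h d⁻¹ g = g' := hinj hg
      rfl]
  symm
  refine Nat.card_eq_of_bijective (fun x => ⟨ConjClasses.mk x.1, ?_⟩) ⟨fun x y e =>
    Subtype.ext (hinj (congrArg Subtype.val e)), fun C => ?_⟩
  · show ConjClasses.mk (cjHom h d⁻¹ x.1) = _
    conv_lhs => rw [← x.2, cjHom_cancel]
  · obtain ⟨C, hC⟩ := C
    obtain ⟨x, rfl⟩ := ConjClasses.mk_surjective C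
    have e : cjHom h d⁻¹ x = x := hinj hC
    refine ⟨⟨x, ?_⟩, rfl⟩
    conv_lhs => rw [← e]
    exact cjHom_cancel' h d x

end Cfsg.Agent.RankOneClass.Odd
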