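import Cfsg.Agent.Zassenhaus.IntRows

/-!
# Integer rows with Gram matrix `I + k f fᵀ` and a fixed-point-free conjugation

The rows are `f c + ε δ`; a further row whose inner products with them are proportional to `f`
meets the distinguished points proportionally to `f`, with a shift that vanishes when the family
is heavy compared with the norm.
-/

set_option autoImplicit false
set_option linter.unusedSectionVars false
set_option linter.unusedSimpArgs false

namespace Cfsg.Agent.RankOneClass.Odd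

universe u v

/-- The scalar product of integer vectors. -/
def ip {X : Type u} [Fintype X] (a b : X → ℤ) : ℤ := ∑ χ, a χ * b χ

section Ip

variable {X : Type u} [Fintype X]

theorem ip_comm (a b : X → ℤ) : ip a b = ip b a :=
  Finset.sum_congr rfl fun _ _ => mul_comm _ _

theorem ip_sub_left (a b c : X → ℤ) : ip (a - b) c = ip a c - ip b c := by
  simp [ip, sub_mul, Finset.sum_sub_distrib]

theorem ip_sub_right (a b c : X → ℤ) : ip a (b - c) = ip a b - ip a c := by
  rw [ip_comm, ip_sub_left, ip_comm b, ip_comm c]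

theorem ip_smul_left (r : ℤ) (a b : X → ℤ) : ip (fun χ => r * a χ) b = r * ip a b := by
  simp [ip, Finset.mul_sum, mul_assoc]

theorem ip_smul_right (r : ℤ) (a b : X → ℤ) : ip a (fun χ => r * b χ) = r * ip a b := by
  rw [ip_comm, ip_smul_left, ip_comm]

theorem ip_comp (σ : Equiv.Perm X) (a b : X → ℤ) : ip (a ∘ σ) (b ∘ σ) = ip a b :=
  Equiv.sum_comp σ (fun χ => a χ * b χ)

theorem ip_comp_swap (σ : Equiv.Perm X) (hσ : ∀ χ, σ (σ χ) = χ) (a b : X → ℤ) :
    ip (a ∘ σ) b = ip a (b ∘ σ) := by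
  rw [← ip_comp σ (a ∘ σ) b]
  congr 1
  funext χ
  simp [hσ]

theorem ip_single [DecidableEq X] (a : X → ℤ) (μ : X) (r : ℤ) :
    ip a (fun χ => if χ = μ then r else 0) = a μ * r := by
  simp [ip]

theorem ip_self_nonneg (a : X → ℤ) : 0 ≤ ip a a := Finset.sum_nonneg fun _ _ => mul_self_nonneg _

theorem sum_sq_le_ip {ι : Type v} (a : X → ℤ) (J : Finset ι) {e : ι → X}
    (he : Set.InjOn e J) : ∑ j ∈ J, a (e j) * a (e j) ≤ ip a a := by
  classical
  rw [← Finset.sum_image (f := fun χ => a χ * a χ) he]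
  exact Finset.sum_le_sum_of_subset_of_nonneg (Finset.subset_univ _) fun _ _ _ => mul_self_nonneg _

end Ip

/-- Induced rows, with degrees and conjugation. -/
structure Rows (X : Type u) (ι : Type v) [Fintype X] [DecidableEq ι] where
  m : ι → X → ℤ
  f : ι → ℕ
  deg : X → ℤ
  σ : Equiv.Perm X
  bar : Equiv.Perm ι
  k : ℤ
  K : ℤ
  σσ : ∀ χ, σ (σ χ) = χ
  barbar : ∀ i, bar (bar i) = i
  bar_ne : ∀ i, bar i ≠ i
  f_pos : ∀ i, 0 < f i
  f_bar : ∀ i, f (bar i) = f i
  deg_pos : ∀ χ, 0 < deg χ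
  gram : ∀ i j, ip (m i) (m j) = (if i = j then 1 else 0) + k * (f i * f j)
  degsum : ∀ i, ∑ χ, m i χ * deg χ = f i * K
  m_bar : ∀ i χ, m (bar i) (σ χ) = m i χ

variable {X : Type u} {ι : Type v} [Fintype X] [DecidableEq X] [Fintype ι] [DecidableEq ι]

/-- A coherent part of the rows. -/
structure Part (R : Rows X ι) (J : Finset ι) where
  e : ι → X
  c : X → ℤ
  ε : ℤ
  x : ℤ
  hε : ε = 1 ∨ ε = -1
  inj : Set.InjOn e J
  row : ∀ j ∈ J, ∀ χ, R.m j χ = R.f j * c χ + if χ = e j then ε else 0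
  at_e : ∀ j ∈ J, c (e j) = x * R.f j
  norm_c : ip c c = R.k - 2 * ε * x
  bar_mem : ∀ j ∈ J, R.bar j ∈ J
  σ_e : ∀ j ∈ J, R.σ (e j) = e (R.bar j)
  c_σ : ∀ χ, c (R.σ χ) = c χ

variable {R : Rows X ι} {J : Finset ι}

/-- The weight of a part. -/
def weight (R : Rows X ι) (J : Finset ι) : ℤ := ∑ j ∈ J, (R.f j : ℤ) * R.f j

theorem Part.εε (P : Part R J) : P.ε * P.ε = 1 := by rcases P.hε with h | h <;> simp [h]

theorem Part.row_eq (P : Part R J) {j : ι} (hj : j ∈ J) :
    R.m j = fun χ => (R.f j : ℤ) * P.c χ + if χ = P.e j then P.ε else 0 := funext (P.row j hj)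

theorem Part.row_at (P : Part R J) {i j : ι} (hi : i ∈ J) (hj : j ∈ J) :
    R.m i (P.e j) = P.x * R.f i * R.f j + if i = j then P.ε else 0 := by
  rw [P.row i hi, P.at_e j hj]
  congr 1
  · ring
  · by_cases h : i = j
    · subst h; simp
    · rw [if_neg h, if_neg fun e => h (P.inj hi hj e.symm)]

theorem Part.ip_row (P : Part R J) (a : X → ℤ) {j : ι} (hj : j ∈ J) :
    ip a (R.m j) = R.f j * ip a P.c + a (P.e j) * P.ε := by
  rw [P.row_eq hj]
  simp only [ip, mul_add, Finset.sum_add_distrib, mul_ite, mul_zero, Finset.sum_ite_eq',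
    Finset.mem_univ, if_true, Finset.mul_sum]
  congr 1
  exact Finset.sum_congr rfl fun _ _ => by ring

/-- A row proportional to the family meets the distinguished points proportionally. -/
theorem Part.prop_row (P : Part R J) (a : X → ℤ) (g : ℤ)
    (h : ∀ j ∈ J, ip a (R.m j) = R.k * g * R.f j) {j : ι} (hj : j ∈ J) :
    a (P.e j) = P.ε * (R.k * g - ip a P.c) * R.f j := by
  have h1 := P.ip_row a hj
  rw [h j hj] at h1
  linear_combination (-P.ε) * h1 - a (P.e j) * P.εε

theorem bessel_pair (P : Part R J) (V : X → ℤ) :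
    ∑ j ∈ J, (V (P.e j) + V (P.e (R.bar j))) * (V (P.e j) + V (P.e (R.bar j))) ≤
      2 * ip V V + 2 * ip V (V ∘ R.σ) := by
  have h := sum_sq_le_ip (fun χ => V χ + V (R.σ χ)) J P.inj
  rw [Finset.sum_congr rfl fun j hj => by rw [P.σ_e j hj]] at h
  refine h.trans (le_of_eq ?_)
  have h1 : ip (V ∘ R.σ) (V ∘ R.σ) = ip V V := ip_comp _ _ _
  have h2 : ip (V ∘ R.σ) V = ip V (V ∘ R.σ) := ip_comm _ _
  simp only [ip, Function.comp] at h1 h2 ⊢
  simp only [add_mul, mul_add, Finset.sum_add_distrib, h1, h2]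
  ring

theorem weight_nonneg : 0 ≤ weight R J := Finset.sum_nonneg fun _ _ => mul_self_nonneg _

/-- Two rows outside the family: the shift vanishes when the family is heavy. -/
theorem Part.foreign (P : Part R J) (a a1 : X → ℤ) (η g1 A B : ℤ)
    (ha : ∀ j ∈ J, ip a (R.m j) = R.k * (η * g1) * R.f j)
    (ha1 : ∀ j ∈ J, ip a1 (R.m j) = R.k * g1 * R.f j)
    (haa : ip a a = A + R.k * (η * g1) * (η * g1)) (h11 : ip a1 a1 = B + R.k * g1 * g1)
    (ha1a : ip a a1 = R.k * (η * g1) * g1)
    (hasa : ip a (a ∘ R.σ) = R.k * (η * g1) * (η * g1))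
    (h1s1 : ip a1 (a1 ∘ R.σ) = R.k * g1 * g1) (has1 : ip a (a1 ∘ R.σ) = R.k * (η * g1) * g1)
    (hW : A + η * η * B < 2 * weight R J) {j : ι} (hj : j ∈ J) :
    a (P.e j) = η * a1 (P.e j) := by
  set z := P.ε * (R.k * (η * g1) - ip a P.c) - η * (P.ε * (R.k * g1 - ip a1 P.c)) with hz
  set V : X → ℤ := a - fun χ => η * a1 χ with hV
  have hVe : ∀ i ∈ J, V (P.e i) = z * R.f i := by
    intro i hi
    rw [hV, Pi.sub_apply, P.prop_row a _ ha hi, P.prop_row a1 _ ha1 hi, hz]
    ring
  have hVV : ip V V = A + η * η * B := by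
    rw [hV, ip_sub_left, ip_sub_right, ip_sub_right, ip_smul_left, ip_smul_left, ip_smul_right,
      ip_smul_right, ip_comm a1 a, haa, h11, ha1a]
    ring
  have hVs : ip V (V ∘ R.σ) = 0 := by
    have hc : V ∘ R.σ = a ∘ R.σ - fun χ => η * (a1 ∘ R.σ) χ := by funext χ; simp [hV]
    have h5 : ip a1 (a ∘ R.σ) = R.k * (η * g1) * g1 := by
      rw [← ip_comp_swap _ R.σσ, ip_comm, has1]
    rw [hc, hV, ip_sub_left, ip_sub_right, ip_sub_right, ip_smul_left, ip_smul_left, ip_smul_right,
      ip_smul_right, hasa, has1, h5, h1s1]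
    ring
  have hb := bessel_pair P V
  rw [hVV, hVs] at hb
  have hsum : ∑ i ∈ J, (V (P.e i) + V (P.e (R.bar i))) * (V (P.e i) + V (P.e (R.bar i))) =
      4 * z * z * weight R J := by
    rw [weight, Finset.mul_sum]
    refine Finset.sum_congr rfl fun i hi => ?_
    rw [hVe i hi, hVe _ (P.bar_mem i hi), R.f_bar]
    ring
  rw [hsum] at hb
  have hz0 : z = 0 := by
    by_contra hne
    have h1 : 1 ≤ z * z := (Int.one_le_abs (mul_ne_zero hne hne)).trans_eq (abs_mul_self _)
    nlinarith [weight_nonneg (R := R) (J := J)]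
  have h6 := hVe j hj
  rw [hz0, zero_mul, hV, Pi.sub_apply, sub_eq_zero] at h6
  exact h6

/-- A row over the same orbit. -/
theorem Part.own (P : Part R J) (a : X → ℤ) (η A : ℤ) (hη : 0 < η) {i0 : ι} (hi0 : i0 ∈ J)
    (hf0 : R.f i0 = 1)
    (ha : ∀ j ∈ J, ip a (R.m j) = R.k * η * R.f j)
    (haa : ip a a = A + R.k * η * η) (hasa : ip a (a ∘ R.σ) = R.k * η * η)
    (hA : 0 ≤ A) (hW : A + 4 * η < 2 * weight R J) {j : ι} (hj : j ∈ J) :
    a (P.e j) = η * P.x * R.f j := by
  set z := P.ε * (R.k * η - ip a P.c) - η * P.x with hz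
  set V : X → ℤ := a - fun χ => η * R.m i0 χ with hV
  have hf0' : (R.f i0 : ℤ) = 1 := by exact_mod_cast hf0
  have hb0 := P.bar_mem i0 hi0
  have hVe : ∀ i ∈ J, V (P.e i) = z * R.f i - η * (if i0 = i then P.ε else 0) := by
    intro i hi
    rw [hV, Pi.sub_apply, P.prop_row a _ ha hi, P.row_at hi0 hi, hf0', hz]
    ring
  have h0 : ip (R.m i0) (R.m i0) = 1 + R.k := by rw [R.gram, if_pos rfl, hf0']; ring
  have h0a : ip a (R.m i0) = R.k * η := by rw [ha i0 hi0, hf0']; ring
  have hVV : ip V V = A + η * η := by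
    rw [hV, ip_sub_left, ip_sub_right, ip_sub_right, ip_smul_left, ip_smul_left, ip_smul_right,
      ip_smul_right, ip_comm (R.m i0) a, h0, h0a, haa]
    ring
  have hms : R.m i0 ∘ R.σ = R.m (R.bar i0) := funext fun χ => by
    rw [Function.comp_apply, ← R.m_bar i0 (R.σ χ), R.σσ]
  have hVs : ip V (V ∘ R.σ) = 0 := by
    have hc : V ∘ R.σ = a ∘ R.σ - fun χ => η * R.m (R.bar i0) χ := by
      funext χ; simp [hV, ← hms]
    have h5 : ip (R.m i0) (a ∘ R.σ) = R.k * η := by
      rw [← ip_comp_swap _ R.σσ, hms, ip_comm, ha _ hb0, R.f_bar, hf0']; ring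
    have h6 : ip a (R.m (R.bar i0)) = R.k * η := by rw [ha _ hb0, R.f_bar, hf0']; ring
    have h7 : ip (R.m i0) (R.m (R.bar i0)) = R.k := by
      rw [R.gram, if_neg (R.bar_ne i0).symm, R.f_bar, hf0']; ring
    rw [hc, hV, ip_sub_left, ip_sub_right, ip_sub_right, ip_smul_left, ip_smul_left, ip_smul_right,
      ip_smul_right, hasa, h6, h5, h7]
    ring
  have hb := bessel_pair P V
  rw [hVV, hVs] at hb
  have hbi : ∀ i, (i0 = R.bar i) ↔ (R.bar i0 = i) := fun i =>
    ⟨fun e => by rw [e, R.barbar], fun e => by rw [← e, R.barbar]⟩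
  have hsum : ∑ i ∈ J, (V (P.e i) + V (P.e (R.bar i))) * (V (P.e i) + V (P.e (R.bar i))) =
      4 * z * z * weight R J - 8 * z * η * P.ε + 2 * η * η := by
    have hterm : ∀ i ∈ J, (V (P.e i) + V (P.e (R.bar i))) * (V (P.e i) + V (P.e (R.bar i))) =
        4 * z * z * ((R.f i : ℤ) * R.f i) +
          (if i0 = i then η * η - 4 * z * η * P.ε * R.f i else 0) +
          (if R.bar i0 = i then η * η - 4 * z * η * P.ε * R.f i else 0) := by
      intro i hi
      rw [hVe i hi, hVe _ (P.bar_mem i hi), R.f_bar]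
      by_cases h : i0 = i
      · subst h
        rw [if_pos rfl, if_pos rfl, if_neg (R.bar_ne i0).symm, if_neg (R.bar_ne i0)]
        linear_combination (η * η) * P.εε
      · by_cases h' : R.bar i0 = i
        · subst h'
          rw [if_neg h, R.barbar, if_pos rfl, if_neg h, if_pos rfl]
          linear_combination (η * η) * P.εε
        · rw [if_neg h, if_neg (fun e => h' ((hbi i).1 e)), if_neg h, if_neg h']
          ring
    rw [Finset.sum_congr rfl hterm, Finset.sum_add_distrib, Finset.sum_add_distrib,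
      Finset.sum_ite_eq, if_pos hi0, Finset.sum_ite_eq, if_pos hb0, R.f_bar, hf0', weight,
      ← Finset.mul_sum]
    ring
  rw [hsum] at hb
  have hz0 : z = 0 := by
    by_contra hne
    have h1 : 1 ≤ z * z := (Int.one_le_abs (mul_ne_zero hne hne)).trans_eq (abs_mul_self _)
    have h2 : z * P.ε ≤ z * z := by
      rcases P.hε with h | h <;> rw [h] <;> nlinarith [sq_nonneg (z - 1), sq_nonneg (z + 1)]
    have h3 : z * P.ε * η ≤ z * z * η := mul_le_mul_of_nonneg_right h2 hη.le
    have h4 : 2 * weight R J - 4 * η ≤ z * z * (2 * weight R J - 4 * η) :=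
      le_mul_of_one_le_left (by linarith) h1
    nlinarith
  have h6 := hVe j hj
  rw [hz0, zero_mul, zero_sub, hV, Pi.sub_apply, P.row_at hi0 hj, hf0'] at h6
  linear_combination h6

/-- The linear members. -/
def linJ (R : Rows X ι) : Finset ι := Finset.univ.filter fun i => R.f i = 1

theorem mem_linJ {i : ι} : i ∈ linJ R ↔ R.f i = 1 := by simp [linJ]

theorem exists_linPart (R : Rows X ι) (h3 : 3 ≤ (linJ R).card) : Nonempty (Part R (linJ R)) := by
  classical
  obtain ⟨s₁, s₂, s₃, hs₁, hs₂, hs₃, h12, h13, h23⟩ := Finset.two_lt_card_iff.1 h3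
  rw [mem_linJ] at hs₁ hs₂ hs₃
  obtain ⟨e₀, c, ε, hε, hm₀⟩ := Zassenhaus.exists_seed (ι := {i : ι // R.f i = 1}) (fun i => R.m i)
    R.deg R.deg_pos R.k R.K
    (fun i j h => by
      subst h; have := R.gram i i; rw [if_pos rfl, i.2] at this; simpa [ip] using this)
    (fun i j h => by
      have := R.gram i j
      rw [if_neg (fun e => h (Subtype.ext e)), i.2, j.2] at this
      simpa [ip] using this)
    (fun i => by rw [R.degsum, i.2]; push_cast; ring)
    (i₁ := ⟨s₁, hs₁⟩) (i₂ := ⟨s₂, hs₂⟩) (i₃ := ⟨s₃, hs₃⟩)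
    (fun h => h12 (congrArg Subtype.val h)) (fun h => h13 (congrArg Subtype.val h))
    (fun h => h23 (congrArg Subtype.val h))
  have hεε : ε * ε = 1 := by rcases hε with h | h <;> simp [h]
  have hnorm : ∀ i : {i : ι // R.f i = 1}, ip c c + 2 * ε * c (e₀ i) = R.k := by
    intro i
    have h := R.gram i i
    rw [if_pos rfl, i.2, show R.m i = fun χ => c χ + if χ = e₀ i then ε else 0 from funext (hm₀ i)] at h
    simp only [ip, add_mul, mul_add, Finset.sum_add_distrib, ite_mul, mul_ite, zero_mul, mul_zero,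
      Finset.sum_ite_eq', Finset.mem_univ, if_true] at h
    push_cast at h
    simp only [ip]
    linarith [hεε]
  let x := c (e₀ ⟨s₁, hs₁⟩)
  have hc₀ : ∀ i, c (e₀ i) = x := fun i => by
    have h := (hnorm i).trans (hnorm ⟨s₁, hs₁⟩).symm
    rcases hε with h' | h' <;> subst h' <;> simp only [x] <;> linarith
  let e : ι → X := fun i => if h : R.f i = 1 then e₀ ⟨i, h⟩ else e₀ ⟨s₁, hs₁⟩
  have hei : ∀ i (h : R.f i = 1), e i = e₀ ⟨i, h⟩ := fun i h => by simp [e, h]
  have hrow : ∀ j, R.f j = 1 → ∀ χ, R.m j χ = c χ + if χ = e j then ε else 0 := fun j hj χ => by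
    rw [hei j hj]; exact hm₀ ⟨j, hj⟩ χ
  have hinj : ∀ i j, R.f i = 1 → R.f j = 1 → e i = e j → i = j := by
    intro i j hi hj he
    by_contra hne
    have h := R.gram i j
    rw [if_neg hne, hi, hj, show R.m i = R.m j from funext fun χ => by
      rw [hrow i hi, hrow j hj, he], R.gram, if_pos rfl, hj] at h
    push_cast at h
    linarith
  -- conjugation
  have hbar : ∀ j, R.f j = 1 → R.f (R.bar j) = 1 := fun j hj => (R.f_bar j).trans hj
  have hkey : ∀ j, R.f j = 1 → ∀ χ, c (R.σ χ) + (if R.σ χ = e (R.bar j) then ε else 0) =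
      c χ + if χ = e j then ε else 0 := fun j hj χ => by
    rw [← hrow j hj, ← hrow _ (hbar j hj), R.m_bar]
  have hσe : ∀ j, R.f j = 1 → R.σ (e j) = e (R.bar j) := by
    intro j hj
    obtain ⟨l, hl, hlj⟩ : ∃ l, R.f l = 1 ∧ l ≠ j := by
      by_cases h : s₁ = j
      · exact ⟨s₂, hs₂, fun e => h12 (h.trans e.symm)⟩
      · exact ⟨s₁, hs₁, h⟩
    have h1 := hkey j hj (e j)
    have h2 := hkey l hl (e j)
    rw [if_pos rfl] at h1
    rw [if_neg fun e => hlj (hinj j l hj hl e).symm] at h2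
    by_contra hne
    rw [if_neg hne] at h1
    split_ifs at h2 <;> rcases hε with h | h <;> subst h <;> omega
  have hcσ : ∀ χ, c (R.σ χ) = c χ := by
    intro χ
    obtain ⟨j, hj, hjχ⟩ : ∃ j, R.f j = 1 ∧ χ ≠ e j := by
      by_cases h : χ = e s₁
      · exact ⟨s₂, hs₂, fun e' => h12 (hinj _ _ hs₁ hs₂ (h.symm.trans e'))⟩
      · exact ⟨s₁, hs₁, h⟩
    have h1 := hkey j hj χ
    rw [if_neg hjχ, if_neg (fun e' => hjχ (R.σ.injective (e'.trans (hσe j hj).symm)))] at h1
    linarith
  exact ⟨{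
    e := e, c := c, ε := ε, x := x, hε := hε
    inj := fun i hi j hj he => hinj i j (mem_linJ.1 hi) (mem_linJ.1 hj) he
    row := fun j hj χ => by rw [hrow j (mem_linJ.1 hj), mem_linJ.1 hj]; push_cast; ring
    at_e := fun j hj => by rw [hei j (mem_linJ.1 hj), hc₀, mem_linJ.1 hj]; push_cast; ring
    norm_c := by have := hnorm ⟨s₁, hs₁⟩; simp only [x]; linarith
    bar_mem := fun j hj => mem_linJ.2 (hbar j (mem_linJ.1 hj))
    σ_e := fun j hj => hσe j (mem_linJ.1 hj)
    c_σ := hcσ }⟩

/-- The shift of a row against the linear part. -/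
def Part.shift (P : Part R J) (i : ι) : ℤ := P.ε * (R.k * R.f i - ip (R.m i) P.c) - R.f i * P.x

/-- A row minus its common part. -/
def Part.rest (P : Part R J) (i : ι) : X → ℤ := fun χ => R.m i χ - R.f i * P.c χ

theorem Part.rest_at (P : Part R (linJ R)) {i : ι} (hi : 1 < R.f i) {j : ι} (hj : j ∈ linJ R) :
    P.rest i (P.e j) = P.shift i := by
  have h := P.prop_row (R.m i) (R.f i) (fun l hl => by
    rw [R.gram, if_neg (fun e => by subst e; rw [mem_linJ.1 hl] at hi; omega)]; ring) hj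
  have hj' : (R.f j : ℤ) = 1 := by exact_mod_cast mem_linJ.1 hj
  simp only [Part.rest, Part.shift, h, P.at_e j hj, hj']
  ring

theorem Part.ip_rest (P : Part R J) (i j : ι) : ip (P.rest i) (P.rest j) = (if i = j then 1 else 0) +
    P.ε * (P.shift i * R.f j + P.shift j * R.f i) := by
  have e1 : P.rest i = R.m i - fun χ => (R.f i : ℤ) * P.c χ := rfl
  have e2 : P.rest j = R.m j - fun χ => (R.f j : ℤ) * P.c χ := rfl
  rw [e1, e2, ip_sub_left, ip_sub_right, ip_sub_right, ip_smul_left, ip_smul_left, ip_smul_right,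
    ip_smul_right, ip_comm P.c (R.m j), R.gram, P.norm_c]
  simp only [Part.shift]
  linear_combination (-(R.f j : ℤ) * (R.k * R.f i - ip (R.m i) P.c) -
    (R.f i : ℤ) * (R.k * R.f j - ip (R.m j) P.c)) * P.εε

theorem Part.low (P : Part R (linJ R)) {i : ι} (hi : 1 < R.f i) :
    P.shift i * P.shift i * (linJ R).card ≤ 1 + 2 * P.ε * P.shift i * R.f i := by
  have h := sum_sq_le_ip (P.rest i) (linJ R) P.inj
  rw [Finset.sum_congr rfl fun j hj => by rw [P.rest_at hi hj], Finset.sum_const, nsmul_eq_mul,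
    P.ip_rest, if_pos rfl] at h
  linarith

/-- With exactly `2 f` linear members a shift is `0` or `ε`. -/
theorem Part.shift_cases (P : Part R (linJ R)) {i : ι} (hi : 1 < R.f i)
    (hN : ((linJ R).card : ℤ) = 2 * R.f i) : P.shift i = 0 ∨ P.shift i = P.ε := by
  have hl := P.low hi
  rw [hN] at hl
  set u := P.ε * P.shift i with hu
  have hfi : (2 : ℤ) ≤ R.f i := by exact_mod_cast hi
  have h1 : 2 * (R.f i : ℤ) * (u * u - u) ≤ 1 := by
    linear_combination hl + 2 * (R.f i : ℤ) * (P.shift i * P.shift i) * P.εε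
  have h2 : u * u - u ≤ 0 := by nlinarith
  have h3 : u = 0 ∨ u = 1 := by
    have : 0 ≤ u := by nlinarith
    have : u ≤ 1 := by nlinarith
    omega
  rcases h3 with h | h
  · left; rw [hu] at h; rcases P.hε with e | e <;> rw [e] at h <;> omega
  · right; rw [hu] at h; rcases P.hε with e | e <;> rw [e] at h ⊢ <;> omega

set_option maxHeartbeats 1000000 in
/-- The extremal shift is impossible when a fixed row is available. -/
theorem Part.extremal (P : Part R (linJ R)) {i : ι} (hi : 1 < R.f i)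
    (hN : ((linJ R).card : ℤ) = 2 * R.f i) (a : X → ℤ) (A : ℤ)
    (ha : ∀ j, ip a (R.m j) = R.k * R.f j) (haa : ip a a = A + R.k)
    (hasa : ip a (a ∘ R.σ) = R.k) (hA : 0 ≤ A) (hA4 : A + 4 < 2 * ((linJ R).card : ℤ))
    (hAN : A < ((Finset.univ.filter fun j => R.f j = R.f i).card : ℤ)) : P.shift i = 0 := by
  classical
  refine (P.shift_cases hi hN).resolve_right fun hzε => ?_
  obtain ⟨s₁, hs₁⟩ : ∃ i, i ∈ linJ R := Finset.card_pos.1 (by
    have : (0 : ℤ) < (linJ R).card := by linarith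
    exact_mod_cast this)
  have hs₁' : (R.f s₁ : ℤ) = 1 := by exact_mod_cast mem_linJ.1 hs₁
  have hW0 : weight R (linJ R) = ((linJ R).card : ℤ) := by
    rw [weight, Finset.sum_congr rfl fun j hj => by rw [mem_linJ.1 hj]]; simp
  have hown : ∀ j ∈ linJ R, a (P.e j) = P.x := by
    intro j hj
    have h := P.own a 1 A one_pos hs₁ (mem_linJ.1 hs₁) (fun l _ => by rw [ha l]; ring)
      (by rw [haa]; ring) (by rw [hasa]; ring) hA (by rw [hW0]; linarith) hj
    rw [h, mem_linJ.1 hj]; push_cast; ring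
  set V : X → ℤ := a - R.m s₁ with hV
  have hVe : ∀ j ∈ linJ R, V (P.e j) = -(if s₁ = j then P.ε else 0) := by
    intro j hj
    rw [hV, Pi.sub_apply, hown j hj, P.row_at hs₁ hj, mem_linJ.1 hs₁, mem_linJ.1 hj]
    push_cast; ring
  have hVm : ∀ j, ip V (R.m j) = -(if s₁ = j then 1 else 0) := by
    intro j
    rw [hV, ip_sub_left, ha, R.gram, hs₁']; ring
  have hVc : ip V P.c = 0 := by
    have h := P.ip_row V hs₁
    rw [hVm, if_pos rfl, hVe s₁ hs₁, if_pos rfl, hs₁'] at h
    linear_combination (-1) * h + P.εε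
  have hVV : ip V V = A + 1 := by
    rw [hV, ip_sub_left, ip_sub_right, ip_sub_right, ip_comm (R.m s₁) a, haa, ha, R.gram,
      if_pos rfl, hs₁']
    ring
  set T := Finset.univ.filter fun j => R.f j = R.f i with hT
  have hfT : ∀ j ∈ T, 1 < R.f j := fun j hj => (Finset.mem_filter.1 hj).2 ▸ hi
  have hsame : ∀ j ∈ T, P.shift j = P.ε := by
    intro j hj
    have hfj : (R.f j : ℤ) = R.f i := by rw [(Finset.mem_filter.1 hj).2]
    by_cases hij : j = i
    · rw [hij, hzε]
    refine (P.shift_cases (hfT j hj) (by rw [hN, hfj])).resolve_left fun hz0 => ?_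
    have hD : ip (P.rest i - P.rest j) (P.rest i - P.rest j) = 2 := by
      rw [ip_sub_left, ip_sub_right, ip_sub_right, ip_comm (P.rest j) (P.rest i)]
      simp only [P.ip_rest, if_true, if_neg (Ne.symm hij), hfj, hzε, hz0]
      ring
    have hD' := sum_sq_le_ip (P.rest i - P.rest j) (linJ R) P.inj
    rw [Finset.sum_congr rfl fun l hl => by
      rw [Pi.sub_apply, P.rest_at hi hl, P.rest_at (hfT j hj) hl, hzε, hz0, sub_zero, P.εε],
      Finset.sum_const, nsmul_eq_mul, mul_one, hN, hD] at hD'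
    omega
  have hpt : ∀ j ∈ T, ∃ ν s, (s = 1 ∨ s = -1) ∧
      (∀ χ, P.rest j χ = (∑ l ∈ linJ R, if χ = P.e l then P.ε else 0) + if χ = ν then s else 0) ∧
      (∀ l ∈ linJ R, ν ≠ P.e l) := by
    intro j hj
    let r : X → ℤ := fun χ => P.rest j χ - ∑ l ∈ linJ R, if χ = P.e l then P.ε else 0
    have hat : ∀ l ∈ linJ R, (∑ l' ∈ linJ R, if P.e l = P.e l' then P.ε else 0) = P.ε := by
      intro l hl
      rw [Finset.sum_congr rfl fun l' hl' => show (if P.e l = P.e l' then P.ε else 0) =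
        (if l = l' then P.ε else 0) by
          by_cases h : l = l'
          · subst h; simp
          · rw [if_neg h, if_neg fun e => h (P.inj hl hl' e)]]
      rw [Finset.sum_ite_eq, if_pos hl]
    have hre : ∀ l ∈ linJ R, r (P.e l) = 0 := fun l hl => by
      simp only [r, hat l hl, P.rest_at (hfT j hj) hl, hsame j hj, sub_self]
    have hcross : ∀ b : X → ℤ, ip b (fun χ => ∑ l ∈ linJ R, if χ = P.e l then P.ε else 0) =
        ∑ l ∈ linJ R, b (P.e l) * P.ε := by
      intro b
      simp only [ip, Finset.mul_sum]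
      rw [Finset.sum_comm]
      simp
    have hrr : ip r r = 1 := by
      have hr : r = P.rest j - fun χ => ∑ l ∈ linJ R, if χ = P.e l then P.ε else 0 := rfl
      rw [hr, ip_sub_left, ip_sub_right, ip_sub_right, hcross, hcross,
        ip_comm (fun χ => ∑ l ∈ linJ R, if χ = P.e l then P.ε else 0) (P.rest j), hcross, P.ip_rest, if_pos rfl, hsame j hj]
      rw [Finset.sum_congr rfl fun l hl => by rw [P.rest_at (hfT j hj) hl, hsame j hj],
        Finset.sum_congr rfl fun l hl => show (∑ l' ∈ linJ R, if P.e l = P.e l' then P.ε else 0) *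
          P.ε = 1 by rw [hat l hl, P.εε]]
      simp only [P.εε, Finset.sum_const, nsmul_eq_mul, mul_one, hN,
        show (R.f j : ℤ) = R.f i by rw [(Finset.mem_filter.1 hj).2]]
      linear_combination (2 * (R.f i : ℤ)) * P.εε
    obtain ⟨ν, s, hs, hν⟩ := Zassenhaus.unit_of_norm_one r hrr
    refine ⟨ν, s, hs, fun χ => by rw [← hν χ]; simp only [r]; ring, fun l hl e => ?_⟩
    have := hre l hl
    rw [hν, if_pos e.symm] at this
    rcases hs with h | h <;> omega
  haveI : Nonempty X := ⟨P.e s₁⟩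
  choose! ν s hs hν hνe using hpt
  have hVν : ∀ j ∈ T, V (ν j) * V (ν j) = 1 := by
    intro j hj
    have h0 : ip V (P.rest j) = 0 := by
      have e1 : P.rest j = R.m j - fun χ => (R.f j : ℤ) * P.c χ := rfl
      rw [e1, ip_sub_right, ip_smul_right, hVc, hVm, if_neg, neg_zero, mul_zero, sub_zero]
      intro e
      have := hfT j hj
      rw [← e, mem_linJ.1 hs₁] at this
      omega
    rw [show P.rest j = fun χ => (∑ l ∈ linJ R, if χ = P.e l then P.ε else 0) +
      if χ = ν j then s j else 0 from funext (hν j hj)] at h0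
    simp only [ip, mul_add, Finset.sum_add_distrib, Finset.mul_sum, mul_ite, mul_zero,
      Finset.sum_ite_eq', Finset.mem_univ, if_true] at h0
    rw [Finset.sum_comm] at h0
    simp only [Finset.sum_ite_eq', Finset.mem_univ, if_true] at h0
    rw [Finset.sum_congr rfl fun l hl => by rw [hVe l hl]] at h0
    simp only [neg_mul, ite_mul, zero_mul, Finset.sum_neg_distrib, Finset.sum_ite_eq, hs₁,
      if_true, P.εε] at h0
    rcases hs j hj with h | h <;> rw [h] at h0 <;> nlinarith
  have hνinj : Set.InjOn ν T := by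
    intro j hj l hl e
    by_contra hne
    have h := P.ip_rest j l
    rw [if_neg hne, hsame j hj, hsame l hl,
      show (R.f j : ℤ) = R.f i by rw [(Finset.mem_filter.1 hj).2],
      show (R.f l : ℤ) = R.f i by rw [(Finset.mem_filter.1 hl).2]] at h
    have h5 : ip (P.rest j) (P.rest l) = (∑ p ∈ linJ R, P.rest j (P.e p) * P.ε) + P.rest j (ν l) * s l := by
      rw [show P.rest l = fun χ => (∑ p ∈ linJ R, if χ = P.e p then P.ε else 0) +
        if χ = ν l then s l else 0 from funext (hν l hl)]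
      simp only [ip, mul_add, Finset.sum_add_distrib, Finset.mul_sum, mul_ite, mul_zero,
        Finset.sum_ite_eq', Finset.mem_univ, if_true]
      rw [Finset.sum_comm]
      simp
    have h6 : P.rest j (ν l) = s j := by
      rw [hν j hj, Finset.sum_eq_zero, zero_add, if_pos e.symm]
      intro p hp
      rw [if_neg (hνe l hl p hp)]
    rw [h5, h6, Finset.sum_congr rfl fun p hp => by rw [P.rest_at (hfT j hj) hp, hsame j hj, P.εε],
      Finset.sum_const, nsmul_eq_mul, mul_one, hN] at h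
    rcases hs j hj with a' | a' <;> rcases hs l hl with b' | b' <;> rw [a', b'] at h <;>
      nlinarith [P.εε]
  have hfin := sum_sq_le_ip V (insert s₁ T) (e := fun j => if j ∈ T then ν j else P.e j) ?_
  · have hsT : s₁ ∉ T := fun h => by have := hfT s₁ h; rw [mem_linJ.1 hs₁] at this; omega
    rw [Finset.sum_insert hsT, if_neg hsT,
      Finset.sum_congr rfl fun j hj => by rw [if_pos hj, hVν j hj], Finset.sum_const,
      nsmul_eq_mul, mul_one, hVe s₁ hs₁, if_pos rfl, hVV, neg_mul_neg, P.εε] at hfin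
    linarith
  · intro j hj l hl e
    simp only [Finset.coe_insert, Set.mem_insert_iff, Finset.mem_coe] at hj hl
    by_cases hjT : j ∈ T <;> by_cases hlT : l ∈ T <;> simp only [hjT, hlT, if_true, if_false] at e
    · exact hνinj hjT hlT e
    · exact absurd e (hνe j hjT l (by rcases hl with rfl | h; exacts [hs₁, absurd h hlT]))
    · exact absurd e.symm (hνe l hlT j (by rcases hj with rfl | h; exacts [hs₁, absurd h hjT]))
    · rcases hj with rfl | h <;> rcases hl with rfl | h' <;> first | rfl | contradiction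

/-- Extension from the linear members to all. -/
theorem exists_part (R : Rows X ι) (h3 : 3 ≤ (linJ R).card)
    (hgrow : ∀ i, 1 < R.f i → 2 * R.f i + 2 ≤ (linJ R).card ∨
      (2 * R.f i = (linJ R).card ∧ ∃ (a : X → ℤ) (A : ℤ),
        (∀ j, ip a (R.m j) = R.k * R.f j) ∧ ip a a = A + R.k ∧ ip a (a ∘ R.σ) = R.k ∧ 0 ≤ A ∧
        A + 4 < 2 * ((linJ R).card : ℤ) ∧
        A < ((Finset.univ.filter fun j => R.f j = R.f i).card : ℤ))) :
    Nonempty (Part R Finset.univ) := by
  classical
  obtain ⟨P⟩ := exists_linPart R h3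
  obtain ⟨s₁, hs₁⟩ : ∃ i, i ∈ linJ R := Finset.card_pos.1 (by omega)
  have hs₁' : (R.f s₁ : ℤ) = 1 := by exact_mod_cast mem_linJ.1 hs₁
  have hz : ∀ i, 1 < R.f i → P.shift i = 0 := by
    intro i hi
    rcases hgrow i hi with hbig | ⟨heq, a, A, ha, haa, hasa, hA, hA4, hAN⟩
    · by_contra hne
      have h1 : 1 ≤ P.shift i * P.shift i :=
        (Int.one_le_abs (mul_ne_zero hne hne)).trans_eq (abs_mul_self _)
      have h2 : P.shift i * P.ε ≤ P.shift i * P.shift i := by
        rcases P.hε with h | h <;> rw [h] <;>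
          nlinarith [sq_nonneg (P.shift i - 1), sq_nonneg (P.shift i + 1)]
      have hl := P.low hi
      have hfi : (0 : ℤ) ≤ R.f i := Int.natCast_nonneg _
      have : (2 * R.f i + 2 : ℤ) ≤ (linJ R).card := by exact_mod_cast hbig
      nlinarith [mul_le_mul_of_nonneg_left h2 hfi, mul_le_mul_of_nonneg_right h1 hfi]
    · exact P.extremal hi (by exact_mod_cast heq.symm) a A ha haa hasa hA hA4 hAN
  have hdeg0 : P.ε * R.deg (P.e s₁) = R.K - ∑ χ, P.c χ * R.deg χ := by
    have h := R.degsum s₁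
    rw [P.row_eq hs₁, hs₁'] at h
    simp only [one_mul, add_mul, Finset.sum_add_distrib, ite_mul, zero_mul, Finset.sum_ite_eq',
      Finset.mem_univ, if_true] at h
    linarith
  -- all rows have their own point
  have hall : ∀ i, ∃ μ, (∀ χ, R.m i χ = R.f i * P.c χ + if χ = μ then P.ε else 0) ∧
      P.c μ = P.x * R.f i := by
    intro i
    by_cases h1 : R.f i = 1
    · exact ⟨P.e i, P.row i (mem_linJ.2 h1), P.at_e i (mem_linJ.2 h1)⟩
    have hi : 1 < R.f i := by have := R.f_pos i; omega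
    have hn1 : ip (P.rest i) (P.rest i) = 1 := by rw [P.ip_rest, if_pos rfl, hz i hi]; ring
    obtain ⟨ν, s, hs, hν⟩ := Zassenhaus.unit_of_norm_one (P.rest i) hn1
    have hsε : s = P.ε := by
      have hdegw : s * R.deg ν = R.f i * (R.K - ∑ χ, P.c χ * R.deg χ) := by
        have h1' : ∑ χ, P.rest i χ * R.deg χ = s * R.deg ν := by simp [hν]
        rw [← h1']
        simp only [Part.rest, sub_mul, Finset.sum_sub_distrib, R.degsum, mul_assoc, ← Finset.mul_sum]
        ring
      rw [← hdeg0] at hdegw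
      have h5 : 0 < (R.f i : ℤ) * R.deg (P.e s₁) :=
        mul_pos (by exact_mod_cast R.f_pos i) (R.deg_pos _)
      have h6 := R.deg_pos ν
      rcases hs with a' | a' <;> rcases P.hε with h' | h' <;> rw [a', h'] at hdegw ⊢ <;> nlinarith
    subst hsε
    refine ⟨ν, fun χ => by rw [← hν χ]; simp only [Part.rest]; ring, ?_⟩
    have h7 : ip (P.rest i) P.c = P.ε * P.c ν := by simp [ip, hν]
    have h8 : ip (P.rest i) P.c = ip (R.m i) P.c - R.f i * (R.k - 2 * P.ε * P.x) := by
      rw [show P.rest i = R.m i - fun χ => (R.f i : ℤ) * P.c χ from rfl, ip_sub_left, ip_smul_left,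
        P.norm_c]
    have h9 := hz i hi
    simp only [Part.shift] at h9
    linear_combination P.ε * (h8 - h7) - h9 + (2 * (R.f i : ℤ) * P.x - P.c ν) * P.εε
  choose e he heat using hall
  have hinj : Function.Injective e := by
    intro i j hij
    by_contra hne
    have h := R.gram i j
    rw [if_neg hne, show R.m i = fun χ => (R.f i : ℤ) * P.c χ + if χ = e i then P.ε else 0 from
      funext (he i), show R.m j = fun χ => (R.f j : ℤ) * P.c χ + if χ = e j then P.ε else 0 from
      funext (he j)] at h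
    simp only [ip, add_mul, mul_add, Finset.sum_add_distrib, ite_mul, mul_ite, zero_mul, mul_zero,
      Finset.sum_ite_eq', Finset.mem_univ, if_true, hij, heat] at h
    have hcc := P.norm_c
    simp only [ip] at hcc
    have hs : ∑ χ, (R.f i : ℤ) * P.c χ * ((R.f j : ℤ) * P.c χ) =
        R.f i * R.f j * ∑ χ, P.c χ * P.c χ := by
      rw [Finset.mul_sum]; exact Finset.sum_congr rfl fun χ _ => by ring
    have hx : P.x * (R.f i : ℤ) = P.x * R.f j := by rw [← heat i, ← heat j, hij]
    rw [hs, hcc] at h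
    have : (1 : ℤ) = 0 := by linear_combination h - P.εε + (P.ε * (R.f j : ℤ)) * hx
    omega
  refine ⟨{
    e := e, c := P.c, ε := P.ε, x := P.x, hε := P.hε
    inj := hinj.injOn
    row := fun j _ => he j
    at_e := fun j _ => heat j
    norm_c := P.norm_c
    bar_mem := fun j _ => Finset.mem_univ _
    σ_e := fun j _ => ?_
    c_σ := P.c_σ }⟩
  have h1 := R.m_bar j (e j)
  rw [he, he, P.c_σ, R.f_bar, if_pos rfl] at h1
  by_contra hne
  rw [if_neg hne] at h1
  rcases P.hε with h | h <;> omega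

end Cfsg.Agent.RankOneClass.Odd
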