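import Cfsg.Agent.RankOneClass.Odd.ActChar
import Cfsg.Agent.RankOneClass.BaseCard
import Cfsg.Agent.Char.Artin

/-!
# The decomposition of a nilpotent group into its 2-part and its odd part
-/

set_option autoImplicit false
set_option linter.unusedSectionVars false

namespace Cfsg.Agent.RankOneClass.Odd

open Subgroup MulAction Cfsg.Agent.RankOne Cfsg.Agent.Zassenhaus

universe u v

variable {G : Type u} [Group G]

/-- `Q = S × O` with `S` a 2-group and `O` of odd order, both normalised by `D`. -/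
structure Dec (Q S O D : Subgroup G) : Prop where
  S_le : S ≤ Q
  O_le : O ≤ Q
  comm : ∀ x ∈ S, ∀ y ∈ O, Commute x y
  two : IsPGroup 2 S
  odd : Odd (Nat.card O)
  normS : NormBy D S
  normO : NormBy D O
  split : ∀ x ∈ Q, ∃ y ∈ S, ∃ z ∈ O, y * z = x
  disj : ∀ x ∈ S, x ∈ O → x = 1

variable {Q S O D : Subgroup G}

theorem exists_dec [Finite G] [Group.IsNilpotent ↥Q] (hn : NormBy D Q) :
    ∃ S O : Subgroup G, Dec Q S O D ∧ ∀ x ∈ Q, x * x = 1 → x ∈ S := by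
  classical
  haveI : Fact (Nat.Prime 2) := ⟨Nat.prime_two⟩
  obtain ⟨P⟩ : Nonempty (Sylow 2 ↥Q) := inferInstance
  haveI : (P : Subgroup ↥Q).Normal := inferInstance
  haveI := Sylow.unique_of_normal P inferInstance
  obtain ⟨C, hC, hcard⟩ := Char.exists_pRegular_subgroup 2 P
  have hPmem : ∀ x : ↥Q, x ∈ (P : Subgroup ↥Q) ↔ ∃ k : ℕ, x ^ 2 ^ k = 1 := by
    refine fun x => ⟨fun hx => ?_, fun ⟨k, hk⟩ => ?_⟩
    · obtain ⟨k, hk⟩ := P.2 ⟨x, hx⟩
      exact ⟨k, congrArg Subtype.val hk⟩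
    · obtain ⟨j, -, hj⟩ := (Nat.dvd_prime_pow Nat.prime_two).1 (orderOf_dvd_of_pow_eq_one hk)
      obtain ⟨R, hR⟩ := (IsPGroup.of_card (n := j) (by rw [Nat.card_zpowers, hj]) :
        IsPGroup 2 ↥(zpowers x)).exists_le_sylow
      exact Subsingleton.elim R P ▸ hR (mem_zpowers x)
  have hdis : ∀ x : ↥Q, x ∈ (P : Subgroup ↥Q) → x ∈ C → x = 1 := by
    intro x hx hxC
    obtain ⟨k, hk⟩ := (hPmem x).1 hx
    obtain ⟨j, -, hj⟩ := (Nat.dvd_prime_pow Nat.prime_two).1 (orderOf_dvd_of_pow_eq_one hk)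
    rcases Nat.eq_zero_or_pos j with h | h
    · rw [h, pow_zero] at hj; exact orderOf_eq_one_iff.1 hj
    · exact absurd (hj ▸ dvd_pow_self 2 h.ne') ((hC x).1 hxC)
  have hsurj : Function.Surjective fun p : ↥(P : Subgroup ↥Q) × ↥C => (p.1 : ↥Q) * p.2 := by
    refine ((Nat.bijective_iff_injective_and_card _).2 ⟨?_, ?_⟩).2
    · rintro ⟨⟨y, hy⟩, ⟨z, hz⟩⟩ ⟨⟨y', hy'⟩, ⟨z', hz'⟩⟩ (e : y * z = y' * z')
      have h1 : y'⁻¹ * y = z' * z⁻¹ := by
        rw [eq_mul_inv_iff_mul_eq, mul_assoc, e, inv_mul_cancel_left]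
      have h2 := hdis _ (mul_mem (inv_mem hy') hy) (h1 ▸ mul_mem hz' (inv_mem hz))
      obtain rfl := inv_mul_eq_one.1 h2
      obtain rfl := mul_left_cancel e
      rfl
    · rw [Nat.card_prod, ← hcard, mul_comm]
  refine ⟨(P : Subgroup ↥Q).map Q.subtype, C.map Q.subtype, ⟨map_subtype_le _, map_subtype_le _,
    ?_, ?_, ?_, ?_, ?_, ?_, ?_⟩, ?_⟩
  · rintro _ ⟨x, hx, rfl⟩ _ ⟨y, hy, rfl⟩
    refine congrArg Subtype.val (Char.commute_of_nilpotent_coprime (a := x) (b := y) ?_).eq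
    obtain ⟨k, hk⟩ := (hPmem x).1 hx
    exact Nat.Coprime.coprime_dvd_left (orderOf_dvd_of_pow_eq_one hk)
      (Nat.Coprime.pow_left k ((Nat.prime_two.coprime_iff_not_dvd).2 ((hC y).1 hy)))
  · exact P.2.map _
  · rw [card_map_of_injective Q.subtype_injective, ← Nat.not_even_iff_odd, even_iff_two_dvd]
    intro h
    obtain ⟨x, hx⟩ := exists_prime_orderOf_dvd_card' 2 h
    exact (hC x).1 x.2 (dvd_of_eq (hx.symm.trans (Subgroup.orderOf_coe x).symm))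
  · rintro d hd _ ⟨x, hx, rfl⟩
    refine ⟨⟨d * x * d⁻¹, hn d hd x x.2⟩, ?_, rfl⟩
    obtain ⟨k, hk⟩ := (hPmem x).1 hx
    refine (hPmem _).2 ⟨k, Subtype.ext ?_⟩
    show (d * (x : G) * d⁻¹) ^ 2 ^ k = 1
    rw [conj_pow, ← Subgroup.coe_pow, hk]; simp
  · rintro d hd _ ⟨x, hx, rfl⟩
    refine ⟨⟨d * x * d⁻¹, hn d hd x x.2⟩, (hC _).2 ?_, rfl⟩
    have e : orderOf (⟨d * x * d⁻¹, hn d hd x x.2⟩ : ↥Q) = orderOf x := by
      rw [← Subgroup.orderOf_coe, ← Subgroup.orderOf_coe x]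
      exact (MulAut.conj d).orderOf_eq (x : G)
    rw [e]
    exact (hC x).1 hx
  · intro x hx
    obtain ⟨⟨y, z⟩, e⟩ := hsurj ⟨x, hx⟩
    exact ⟨_, ⟨y, y.2, rfl⟩, _, ⟨z, z.2, rfl⟩, congrArg Subtype.val e⟩
  · rintro _ ⟨x, hx, rfl⟩ ⟨y, hy, e⟩
    obtain rfl := Q.subtype_injective e
    exact congrArg Subtype.val (hdis _ hx hy)
  · intro x hx h
    exact ⟨⟨x, hx⟩, (hPmem _).2 ⟨1, Subtype.ext (by simpa [pow_two] using h)⟩, rfl⟩

variable (h : Dec Q S O D)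
include h

/-- The multiplication map. -/
def Dec.mulHom : ↥S × ↥O →* ↥Q where
  toFun p := ⟨p.1 * p.2, mul_mem (h.S_le p.1.2) (h.O_le p.2.2)⟩
  map_one' := Subtype.ext (one_mul 1)
  map_mul' p r := Subtype.ext (by
    show (p.1 : G) * r.1 * (p.2 * r.2) = p.1 * p.2 * (r.1 * r.2)
    rw [mul_assoc (p.1 : G), ← mul_assoc (r.1 : G), (h.comm r.1 r.1.2 p.2 p.2.2).eq]
    simp only [mul_assoc])

theorem Dec.mulHom_bijective : Function.Bijective h.mulHom := by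
  refine ⟨(injective_iff_map_eq_one _).2 fun p hp => ?_, fun x => ?_⟩
  · have e : (p.1 : G) * p.2 = 1 := congrArg Subtype.val hp
    have e1 : (p.1 : G) = 1 := h.disj _ p.1.2 (eq_inv_of_mul_eq_one_left e ▸ inv_mem p.2.2)
    rw [e1, one_mul] at e
    exact Prod.ext (Subtype.ext e1) (Subtype.ext e)
  · obtain ⟨y, hy, z, hz, e⟩ := h.split x x.2
    exact ⟨(⟨y, hy⟩, ⟨z, hz⟩), Subtype.ext e⟩

/-- `Q ≃ S × O`. -/
noncomputable def Dec.equiv : ↥Q ≃* ↥S × ↥O := (MulEquiv.ofBijective _ h.mulHom_bijective).symm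

theorem Dec.card_eq : Nat.card Q = Nat.card S * Nat.card O := by
  rw [Nat.card_congr h.equiv.toEquiv, Nat.card_prod]

theorem Dec.equiv_mul (y : ↥S) (z : ↥O) :
    h.equiv ⟨y * z, mul_mem (h.S_le y.2) (h.O_le z.2)⟩ = (y, z) := by
  rw [Dec.equiv, MulEquiv.symm_apply_eq]
  rfl

theorem Dec.equiv_cj (hn : NormBy D Q) (d : ↥D) (x : ↥Q) : h.equiv (cjHom hn d x) =
    (cjHom h.normS d (h.equiv x).1, cjHom h.normO d (h.equiv x).2) := by
  rw [← h.equiv.symm.injective.eq_iff, MulEquiv.symm_apply_apply]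
  apply Subtype.ext
  have e : (x : G) = ((h.equiv x).1 : G) * (h.equiv x).2 :=
    congrArg Subtype.val (h.equiv.symm_apply_apply x).symm
  rw [cjHom_coe, e]
  show _ = ((d : G) * ((h.equiv x).1 : G) * (d : G)⁻¹) * ((d : G) * ((h.equiv x).2 : G) * (d : G)⁻¹)
  group

variable [Finite G]

/-- The product of a character of `S` and one of `O`. -/
noncomputable def Dec.chr (η : IrrCharacter ↥S) (μ : IrrCharacter ↥O) : IrrCharacter ↥Q :=
  prodIrr h.equiv η μ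

theorem Dec.chr_apply (η : IrrCharacter ↥S) (μ : IrrCharacter ↥O) (x : ↥Q) :
    (h.chr η μ : ↥Q → ℂ) x = (η : ↥S → ℂ) (h.equiv x).1 * (μ : ↥O → ℂ) (h.equiv x).2 := rfl

theorem Dec.chr_inj {η η' : IrrCharacter ↥S} {μ μ' : IrrCharacter ↥O} :
    h.chr η μ = h.chr η' μ' ↔ η = η' ∧ μ = μ' :=
  ⟨fun e => Prod.ext_iff.1 (prodIrr_injective h.equiv (a₁ := (η, μ)) (a₂ := (η', μ')) e),
    fun ⟨e1, e2⟩ => e1 ▸ e2 ▸ rfl⟩

theorem Dec.exists_chr (θ : IrrCharacter ↥Q) : ∃ η μ, h.chr η μ = θ := exists_prodIrr h.equiv θ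

theorem Dec.cdeg_chr (η : IrrCharacter ↥S) (μ : IrrCharacter ↥O) :
    cdeg (h.chr η μ) = cdeg η * cdeg μ := cdeg_prodIrr h.equiv η μ

theorem Dec.actC_chr (hn : NormBy D Q) (d : ↥D) (η : IrrCharacter ↥S) (μ : IrrCharacter ↥O) :
    actC hn d (h.chr η μ) = h.chr (actC h.normS d η) (actC h.normO d μ) :=
  Subtype.ext (funext fun x => by
    rw [actC_apply, h.chr_apply, h.chr_apply, h.equiv_cj hn, actC_apply, actC_apply])

theorem Dec.conjIrr_chr (η : IrrCharacter ↥S) (μ : IrrCharacter ↥O) :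
    Char.conjIrr (h.chr η μ) = h.chr (Char.conjIrr η) (Char.conjIrr μ) :=
  Subtype.ext (funext fun x => by
    simp only [Char.conjIrr_apply, Dec.chr_apply, map_mul])

omit h

/-- The decomposition in a rank-one set-up. -/
theorem exists_dec_ctx {Ω : Type v} [MulAction G Ω] {a : Ω} {t : G} {R : Subgroup G}
    (hC : Ctx G Ω a t R) :
    ∃ S O : Subgroup G, Dec R S O (twoPt G a t) ∧ zGrp G a ≤ S := by
  haveI := nilpotent_Q hC.setup hC.two
  obtain ⟨S, O, hd, hinv⟩ := exists_dec (Q := R) (D := twoPt G a t)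
    fun d hd x hx => conj_mem_Q hC.setup (twoPt_le hd) hx
  exact ⟨S, O, hd, fun z hz => hinv z (hC.zGrp_le hz) (hC.zGrp_sq hz)⟩

end Cfsg.Agent.RankOneClass.Odd
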