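import Cfsg.Agent.RankOneClass.Odd.Setting
import Cfsg.Agent.RankOneClass.Odd.Central
import Cfsg.Agent.Char.Gen

/-!
# Extensions of two invariant linear characters of `Q` to `Q L`, and their induced difference
-/

set_option autoImplicit false
set_option linter.unusedSectionVars false

namespace Cfsg.Agent.RankOneClass.Odd

open Subgroup MulAction Cfsg.Agent.RankOne Cfsg.Agent.Zassenhaus
open scoped ComplexConjugate _root_.Classical

universe u v

/-- A linear character as a homomorphism. -/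
noncomputable def linHom {H : Type u} [Group H] [Finite H] (θ : IrrCharacter H) (h : cdeg θ = 1) :
    H →* ℂˣ :=
  (Char.IsChar.exists_hom (Char.IsIrr.isCharacter θ.2)
    (by rw [(cdeg_spec θ).2, h, Nat.cast_one])).choose

theorem linHom_apply {H : Type u} [Group H] [Finite H] (θ : IrrCharacter H) (h : cdeg θ = 1)
    (x : H) : (linHom θ h x : ℂ) = (θ : H → ℂ) x :=
  (congrFun (Char.IsChar.exists_hom (Char.IsIrr.isCharacter θ.2)
    (by rw [(cdeg_spec θ).2, h, Nat.cast_one])).choose_spec x).symm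

variable {G : Type u} {Ω : Type v} [Group G] [Fintype G] [MulAction G Ω] {a : Ω} {t : G}
  {Q : Subgroup G} (hC : Ctx G Ω a t Q) (L : Subgroup ↥(twoPt G a t))

/-- The subgroup `Q L`. -/
def extSub : Subgroup G where
  carrier := {g | ∃ q ∈ Q, ∃ l ∈ L, g = q * ((l : ↥(twoPt G a t)) : G)}
  one_mem' := ⟨1, one_mem _, 1, one_mem _, by simp⟩
  mul_mem' := by
    rintro _ _ ⟨q, hq, l, hl, rfl⟩ ⟨q', hq', l', hl', rfl⟩
    refine ⟨q * ((l : G) * q' * (l : G)⁻¹), mul_mem hq (conj_mem_Q hC.setup (twoPt_le l.2) hq'),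
      l * l', mul_mem hl hl', ?_⟩
    push_cast
    group
  inv_mem' := by
    rintro _ ⟨q, hq, l, hl, rfl⟩
    refine ⟨(l : G)⁻¹ * q⁻¹ * ((l : G)⁻¹)⁻¹,
      conj_mem_Q hC.setup (inv_mem (twoPt_le l.2)) (inv_mem hq), l⁻¹, inv_mem hl, ?_⟩
    push_cast
    group

theorem mem_extSub {g : G} :
    g ∈ extSub hC L ↔ ∃ q ∈ Q, ∃ l ∈ L, g = q * ((l : ↥(twoPt G a t)) : G) := Iff.rfl

theorem Q_le_extSub : Q ≤ extSub hC L := fun q hq => ⟨q, hq, 1, one_mem _, by simp⟩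

theorem exists_parts (x : ↥(extSub hC L)) : ∃ p : ↥Q × ↥L, (x : G) = p.1 * ((p.2 : ↥(twoPt G a t)) : G) := by
  obtain ⟨q, hq, l, hl, e⟩ := x.2
  exact ⟨(⟨q, hq⟩, ⟨l, hl⟩), e⟩

/-- The components of an element of `Q L`. -/
noncomputable def parts (x : ↥(extSub hC L)) : ↥Q × ↥L := (exists_parts hC L x).choose

theorem parts_spec (x : ↥(extSub hC L)) :
    (x : G) = (parts hC L x).1 * (((parts hC L x).2 : ↥(twoPt G a t)) : G) :=
  (exists_parts hC L x).choose_spec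

theorem parts_eq {x : ↥(extSub hC L)} {q : ↥Q} {l : ↥L}
    (e : (x : G) = q * ((l : ↥(twoPt G a t)) : G)) : parts hC L x = (q, l) := by
  obtain ⟨h1, h2⟩ := split_unique hC.setup (parts hC L x).1.2 q.2
    ((parts hC L x).2 : ↥(twoPt G a t)).2 (l : ↥(twoPt G a t)).2 ((parts_spec hC L x).symm.trans e)
  exact Prod.ext (Subtype.ext h1) (Subtype.ext (Subtype.ext h2))

theorem parts_mul (x y : ↥(extSub hC L)) : parts hC L (x * y) =
    ((parts hC L x).1 * cjHom (frame hC).norm ((parts hC L x).2 : ↥(twoPt G a t)) (parts hC L y).1,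
      (parts hC L x).2 * (parts hC L y).2) := by
  refine parts_eq hC L ?_
  rw [Subgroup.coe_mul, parts_spec hC L x, parts_spec hC L y]
  push_cast [cjHom_coe]
  group

theorem card_extSub : Nat.card (extSub hC L) = Nat.card Q * Nat.card L := by
  rw [← Nat.card_prod]
  refine Nat.card_eq_of_bijective (parts hC L) ⟨fun x y e => Subtype.ext ?_, fun p => ?_⟩
  · rw [parts_spec hC L x, parts_spec hC L y, e]
  · exact ⟨⟨p.1 * ((p.2 : ↥(twoPt G a t)) : G), ⟨p.1, p.1.2, p.2, p.2.2, rfl⟩⟩, parts_eq hC L rfl⟩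

/-- A linear character of `Q` fixed by `L`. -/
structure LinInv (θ : IrrCharacter ↥Q) : Prop where
  deg : cdeg θ = 1
  fixed : ∀ l ∈ L, actC (frame hC).norm l θ = θ

variable {θ θ₁ θ₀ : IrrCharacter ↥Q}

theorem LinInv.apply_cj (h : LinInv hC L θ) {l : ↥(twoPt G a t)} (hl : l ∈ L) (x : ↥Q) :
    (θ : ↥Q → ℂ) (cjHom (frame hC).norm l x) = (θ : ↥Q → ℂ) x := by
  conv_rhs => rw [← h.fixed l⁻¹ (inv_mem hl), actC_apply, inv_inv]

/-- The extension of `θ` by a character of `L`. -/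
noncomputable def extHom (h : LinInv hC L θ) (γ : ↥L →* ℂˣ) : ↥(extSub hC L) →* ℂˣ :=
  MonoidHom.mk' (fun x => linHom θ h.deg (parts hC L x).1 * γ (parts hC L x).2) fun x y => by
    simp only [parts_mul, map_mul]
    rw [show linHom θ h.deg (cjHom (frame hC).norm ((parts hC L x).2 : ↥(twoPt G a t))
        (parts hC L y).1) = linHom θ h.deg (parts hC L y).1 from Units.ext (by
      rw [linHom_apply, linHom_apply, h.apply_cj hC L (parts hC L x).2.2]), mul_mul_mul_comm]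

theorem extHom_Q (h : LinInv hC L θ) (γ : ↥L →* ℂˣ) (q : ↥Q) :
    (extHom hC L h γ ⟨q, Q_le_extSub hC L q.2⟩ : ℂ) = (θ : ↥Q → ℂ) q := by
  show ((linHom θ h.deg (parts hC L ⟨q, _⟩).1 * γ (parts hC L ⟨q, _⟩).2 : ℂˣ) : ℂ) = _
  rw [parts_eq hC L (q := q) (l := 1) (by simp), map_one, mul_one, linHom_apply]

theorem extHom_L (h : LinInv hC L θ) (γ : ↥L →* ℂˣ) (l : ↥L) :
    (extHom hC L h γ ⟨((l : ↥(twoPt G a t)) : G), ⟨1, one_mem _, l, l.2, (one_mul _).symm⟩⟩ : ℂ) =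
      γ l := by
  show ((linHom θ h.deg (parts hC L _).1 * γ (parts hC L _).2 : ℂˣ) : ℂ) = _
  rw [parts_eq hC L (q := 1) (l := l) (by simp), map_one, one_mul]

/-- The difference of two extensions. -/
noncomputable def diffExt (h₁ : LinInv hC L θ₁) (h₀ : LinInv hC L θ₀) (γ : ↥L →* ℂˣ) :
    ↥(extSub hC L) → ℂ :=
  fun x => (extHom hC L h₁ γ x : ℂ) - (extHom hC L h₀ γ x : ℂ)

variable (h₁ : LinInv hC L θ₁) (h₀ : LinInv hC L θ₀)

theorem diffExt_Q (γ : ↥L →* ℂˣ) (q : ↥Q) :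
    diffExt hC L h₁ h₀ γ ⟨q, Q_le_extSub hC L q.2⟩ = (θ₁ : ↥Q → ℂ) q - (θ₀ : ↥Q → ℂ) q := by
  rw [diffExt, extHom_Q, extHom_Q]

theorem diffExt_one (γ : ↥L →* ℂˣ) : diffExt hC L h₁ h₀ γ 1 = 0 := by
  simp [diffExt]

/-- The difference lives on elements with the only fixed point `a`. -/
theorem diffExt_supp (γ : ↥L →* ℂˣ) {x : ↥(extSub hC L)} (hx : diffExt hC L h₁ h₀ γ x ≠ 0) :
    (x : G) • a = a ∧ ∀ c : Ω, (x : G) • c = c → c = a := by
  obtain ⟨q, hq, l, hl, e⟩ := x.2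
  refine ⟨by rw [e, mul_smul, (mem_twoPt.1 l.2).1, smul_a_of_mem_Q hC.setup hq], fun c hc => ?_⟩
  by_contra hca
  obtain ⟨u, hu, rfl⟩ := exists_Q_smul hC.setup hca
  have hd : u⁻¹ * (x : G) * u ∈ twoPt G a t := mem_twoPt.2
    ⟨by rw [mul_smul, mul_smul, smul_a_of_mem_Q hC.setup hu, e, mul_smul, (mem_twoPt.1 l.2).1,
        smul_a_of_mem_Q hC.setup hq, smul_a_of_mem_Q hC.setup (inv_mem hu)],
      by rw [mul_smul, mul_smul, hc, inv_smul_smul]⟩
  set d := u⁻¹ * (x : G) * u with hdd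
  obtain ⟨hqe, hde⟩ := split_unique hC.setup hq
    (mul_mem hu (conj_mem_Q hC.setup (twoPt_le hd) (inv_mem hu))) l.2 hd
    (show q * (l : G) = u * (d * u⁻¹ * d⁻¹) * d by rw [← e, hdd]; group)
  have hqQ : (⟨q, hq⟩ : ↥Q) = ⟨u, hu⟩ * cjHom (frame hC).norm l ⟨u⁻¹, inv_mem hu⟩ :=
    Subtype.ext (show q = u * ((l : G) * u⁻¹ * (l : G)⁻¹) by rw [hqe, hde])
  have hval : ∀ {θ : IrrCharacter ↥Q}, LinInv hC L θ → (θ : ↥Q → ℂ) ⟨q, hq⟩ = 1 := by
    intro θ hθ
    rw [hqQ, ← linHom_apply θ hθ.deg, map_mul, Units.val_mul, linHom_apply, linHom_apply,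
      hθ.apply_cj hC L hl, ← linHom_apply θ hθ.deg, ← linHom_apply θ hθ.deg, ← Units.val_mul, ← map_mul,
      show (⟨u, hu⟩ : ↥Q) * ⟨u⁻¹, inv_mem hu⟩ = 1 from Subtype.ext (mul_inv_cancel u), map_one,
      Units.val_one]
  refine hx ?_
  simp only [diffExt, extHom, MonoidHom.mk'_apply, Units.val_mul, linHom_apply,
    parts_eq hC L (q := ⟨q, hq⟩) (l := ⟨l, hl⟩) e, hval h₁, hval h₀, sub_self]

theorem isGen_diffExt (γ : ↥L →* ℂˣ) :
    IsGeneralizedCharacter ↥(extSub hC L) (diffExt hC L h₁ h₀ γ) :=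
  ⟨fun x => (extHom hC L h₁ γ x : ℂ), fun x => (extHom hC L h₀ γ x : ℂ), Char.isCharacter_hom _,
    Char.isCharacter_hom _, rfl⟩

omit [Fintype G] in
/-- Separated linear characters cancel. -/
theorem sep_sum {K : Subgroup G} [Fintype K] (ψ ψ' : ↥K →* ℂˣ) (g : G) (n : ↥K)
    (hm : g⁻¹ * (n : G) * g ∈ K) (hne : ψ n ≠ ψ' ⟨_, hm⟩) :
    ∑ h : ↥K, (ψ h : ℂ) * conj (extendByZero K (fun h => (ψ' h : ℂ)) (g⁻¹ * h * g)) = 0 := by
  set S := ∑ h : ↥K, (ψ h : ℂ) * conj (extendByZero K (fun h => (ψ' h : ℂ)) (g⁻¹ * h * g)) with hS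
  have h1 : S = ((ψ n : ℂ) * conj (ψ' ⟨_, hm⟩ : ℂ)) * S := by
    rw [hS]
    conv_lhs => rw [← Equiv.sum_comp (Equiv.mulLeft n)]
    rw [Finset.mul_sum]
    refine Finset.sum_congr rfl fun h _ => ?_
    rw [Equiv.coe_mulLeft, map_mul, Units.val_mul]
    have he : g⁻¹ * ((n * h : K) : G) * g = g⁻¹ * n * g * (g⁻¹ * h * g) := by simp [mul_assoc]
    by_cases hh : g⁻¹ * (h : G) * g ∈ K
    · rw [he, Char.extendByZero_of_mem K _ hh, Char.extendByZero_of_mem K _ (K.mul_mem hm hh),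
        show (⟨_, K.mul_mem hm hh⟩ : K) = ⟨_, hm⟩ * ⟨_, hh⟩ from rfl, map_mul, Units.val_mul, map_mul]
      ring
    · rw [he, Char.extendByZero_of_not_mem K _ hh,
        Char.extendByZero_of_not_mem K _ fun h' => hh ((K.mul_mem_cancel_left hm).1 h')]
      simp
  by_contra h0
  have hc1 : (ψ n : ℂ) * conj (ψ' ⟨_, hm⟩ : ℂ) = 1 :=
    mul_right_cancel₀ h0 (h1.symm.trans (one_mul S).symm)
  have hu : (ψ' ⟨_, hm⟩ : ℂ) * conj (ψ' ⟨_, hm⟩ : ℂ) = 1 := by
    rw [← Char.IsChar.inv_eq_conj (Char.isCharacter_hom ψ'), ← Units.val_mul, ← map_mul,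
      mul_inv_cancel, map_one, Units.val_one]
  refine hne (Units.ext (mul_right_cancel₀ ?_ (hc1.trans hu.symm)))
  intro e
  rw [e, mul_zero] at hu
  exact zero_ne_one hu

theorem sum_fixed (b : ↥(extSub hC L) → ℂ)
    (hb : ∀ x, b x ≠ 0 → (x : G) • a = a ∧ ∀ c : Ω, (x : G) • c = c → c = a) {h : G}
    (ha : h • a = a) (hh : ∀ c : Ω, h • c = c → c = a) :
    ∑ g : G, extendByZero (extSub hC L) b (g⁻¹ * h * g) =
      ∑ g ∈ Finset.univ.filter (fun g : G => g • a = a), extendByZero (extSub hC L) b (g⁻¹ * h * g) := by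
  refine (Finset.sum_filter_of_ne fun g _ hg => ?_).symm
  by_cases hm : g⁻¹ * h * g ∈ extSub hC L
  · rw [Char.extendByZero_of_mem _ _ hm] at hg
    refine hh _ ?_
    have h2 := (hb _ hg).1
    simp only [mul_smul, inv_smul_eq_iff] at h2
    exact h2
  · exact absurd (Char.extendByZero_of_not_mem _ _ hm) hg

/-- The stabiliser in `D` of neither character is bigger than `L`, and they lie in different orbits. -/
structure ExtSep (θ₁ θ₀ : IrrCharacter ↥Q) : Prop where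
  sep : ∀ d : ↥(twoPt G a t), d ∉ L → ∀ i j : Bool,
    actC (frame hC).norm d (bif i then θ₁ else θ₀) ≠ (bif j then θ₁ else θ₀)
  ne : θ₁ ≠ θ₀

theorem ext_orth (hs : ExtSep hC L θ₁ θ₀) {i j : Bool}
    (hi : LinInv hC L (bif i then θ₁ else θ₀)) (hj : LinInv hC L (bif j then θ₁ else θ₀))
    (γ γ' : ↥L →* ℂˣ) {g : G} (hg : g • a = a) (hgK : g ∉ extSub hC L) :
    ∑ h : ↥(extSub hC L), (extHom hC L hi γ h : ℂ) *
      conj (extendByZero (extSub hC L) (fun h => (extHom hC L hj γ' h : ℂ)) (g⁻¹ * h * g)) = 0 := by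
  obtain ⟨q, hq, d, hd, rfl⟩ := stabilizer_split hC.setup (show g ∈ stabilizer G a from hg)
  have hdL : (⟨d, hd⟩ : ↥(twoPt G a t)) ∉ L := fun h => hgK ⟨q, hq, ⟨d, hd⟩, h, rfl⟩
  obtain ⟨n, hn⟩ : ∃ n : ↥Q, (actC (frame hC).norm ⟨d, hd⟩ (bif j then θ₁ else θ₀) : ↥Q → ℂ) n ≠
      ((bif i then θ₁ else θ₀ : IrrCharacter ↥Q) : ↥Q → ℂ) n := by
    by_contra! hall
    exact hs.sep ⟨d, hd⟩ hdL j i (Subtype.ext (funext hall))
  have hm : (q * d)⁻¹ * (n : G) * (q * d) =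
      ((cjHom (frame hC).norm (⟨d, hd⟩ : ↥(twoPt G a t))⁻¹ (⟨q, hq⟩⁻¹ * n * ⟨q, hq⟩) : ↥Q) : G) := by
    rw [cjHom_coe]
    push_cast
    group
  refine sep_sum _ _ (q * d) ⟨n, Q_le_extSub hC L n.2⟩
    (by rw [hm]; exact Q_le_extSub hC L (Subtype.coe_prop _)) fun e => hn ?_
  have e' := congrArg (Units.val) e
  rw [extHom_Q, show (⟨(q * d)⁻¹ * ((⟨n, Q_le_extSub hC L n.2⟩ : ↥(extSub hC L)) : G) * (q * d), _⟩ :
      ↥(extSub hC L)) = ⟨_, Q_le_extSub hC L (cjHom (frame hC).norm (⟨d, hd⟩ : ↥(twoPt G a t))⁻¹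
        (⟨q, hq⟩⁻¹ * n * ⟨q, hq⟩)).2⟩ from Subtype.ext hm, extHom_Q] at e'
  rw [e', actC_apply]
  have hcl := Char.isClassFunction_of_isIrr (bif j then θ₁ else θ₀).2
    (cjHom (frame hC).norm (⟨d, hd⟩ : ↥(twoPt G a t))⁻¹ n)
    (cjHom (frame hC).norm (⟨d, hd⟩ : ↥(twoPt G a t))⁻¹ ⟨q, hq⟩⁻¹)
  rw [← hcl]
  simp only [map_mul, map_inv, inv_inv]

/-- Induction is isometric on the differences. -/
theorem ext_inner (hs : ExtSep hC L θ₁ θ₀) (γ γ' : ↥L →* ℂˣ) :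
    classInner (indFun (extSub hC L) (diffExt hC L h₁ h₀ γ))
      (indFun (extSub hC L) (diffExt hC L h₁ h₀ γ')) =
        classInner (diffExt hC L h₁ h₀ γ) (diffExt hC L h₁ h₀ γ') := by
  set K := extSub hC L
  rw [Char.classInner_indFun_left K _ (Char.isClassFunction_indFun K _)]
  have key : ∀ h : ↥K, diffExt hC L h₁ h₀ γ h * conj (indFun K (diffExt hC L h₁ h₀ γ') h) =
      (Nat.card K : ℂ)⁻¹ * ∑ g ∈ Finset.univ.filter (fun g : G => g • a = a),
        diffExt hC L h₁ h₀ γ h *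
          conj (extendByZero K (diffExt hC L h₁ h₀ γ') (g⁻¹ * h * g)) := by
    intro h
    by_cases h0 : diffExt hC L h₁ h₀ γ h = 0
    · rw [h0]; simp
    obtain ⟨ha, hh⟩ := diffExt_supp hC L h₁ h₀ γ h0
    rw [Char.indFun_apply, sum_fixed hC L _ (fun x => diffExt_supp hC L h₁ h₀ γ') ha hh]
    simp only [map_mul, map_inv₀, Complex.conj_natCast, map_sum, ← Finset.mul_sum]
    ring
  simp only [classInner, key, ← Finset.mul_sum]
  congr 1
  simp only [Finset.mul_sum]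
  rw [Finset.sum_comm, ← Finset.sum_filter_add_sum_filter_not _ (fun g : G => g ∈ K),
    Finset.sum_eq_zero (s := Finset.filter (fun g : G => g ∉ K) _), add_zero]
  · rw [Finset.sum_congr rfl (g := fun _ => ∑ h : ↥K, (Nat.card K : ℂ)⁻¹ * (diffExt hC L h₁ h₀ γ h *
      conj (diffExt hC L h₁ h₀ γ' h))) fun g hg => Finset.sum_congr rfl fun h _ => ?_]
    · rw [Finset.sum_const, nsmul_eq_mul, ← Finset.mul_sum]
      have hcard : ((Finset.univ.filter fun g : G => g • a = a).filter fun g => g ∈ K).card =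
          Nat.card K := by
        rw [Finset.filter_filter, Nat.card_eq_fintype_card, Fintype.card_subtype]
        refine congrArg _ (Finset.filter_congr fun g _ => and_iff_right_of_imp fun hg => ?_)
        obtain ⟨q, hq, l, -, rfl⟩ := hg
        rw [mul_smul, (mem_twoPt.1 l.2).1, smul_a_of_mem_Q hC.setup hq]
      rw [hcard, ← mul_assoc, mul_inv_cancel₀ (Nat.cast_ne_zero.2 Nat.card_pos.ne'), one_mul]
    have hgK := (Finset.mem_filter.1 hg).2
    have hcl : IsClassFunction ↥K (diffExt hC L h₁ h₀ γ') :=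
      Char.IsGen.isClassFunction (isGen_diffExt hC L h₁ h₀ γ')
    rw [show g⁻¹ * (h : G) * g = (((⟨g, hgK⟩ : ↥K)⁻¹ * h * ⟨g, hgK⟩ : ↥K) : G) from rfl,
      Char.extendByZero_coe]
    have := hcl h (⟨g, hgK⟩ : ↥K)⁻¹
    rw [inv_inv] at this
    rw [this]
  · intro g hg
    obtain ⟨hga, hgK⟩ := Finset.mem_filter.1 hg
    have hga' := (Finset.mem_filter.1 hga).2
    have e : ∀ h : ↥K, extendByZero K (diffExt hC L h₁ h₀ γ') (g⁻¹ * h * g) =
        extendByZero K (fun x => (extHom hC L h₁ γ' x : ℂ)) (g⁻¹ * h * g) -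
          extendByZero K (fun x => (extHom hC L h₀ γ' x : ℂ)) (g⁻¹ * h * g) := by
      intro h
      by_cases hm : g⁻¹ * (h : G) * g ∈ K
      · simp only [Char.extendByZero_of_mem _ _ hm]; rfl
      · simp only [Char.extendByZero_of_not_mem _ _ hm, sub_zero]
    simp only [e, map_sub, diffExt, sub_mul, mul_sub, Finset.sum_sub_distrib]
    simp only [K, ← Finset.mul_sum]
    rw [ext_orth hC L hs (i := true) (j := true) h₁ h₁ γ γ' hga' hgK,
      ext_orth hC L hs (i := true) (j := false) h₁ h₀ γ γ' hga' hgK,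
      ext_orth hC L hs (i := false) (j := true) h₀ h₁ γ γ' hga' hgK,
      ext_orth hC L hs (i := false) (j := false) h₀ h₀ γ γ' hga' hgK]
    simp

/-- The inner products of the differences. -/
theorem ext_gram (hne : θ₁ ≠ θ₀) (γ γ' : ↥L →* ℂˣ) :
    classInner (diffExt hC L h₁ h₀ γ) (diffExt hC L h₁ h₀ γ') = if γ = γ' then 2 else 0 := by
  have e : ∀ {i j : IrrCharacter ↥Q} (hi : LinInv hC L i) (hj : LinInv hC L j) (γ γ' : ↥L →* ℂˣ),
      classInner (fun x => (extHom hC L hi γ x : ℂ)) (fun x => (extHom hC L hj γ' x : ℂ)) =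
        if i = j ∧ γ = γ' then 1 else 0 := by
    intro i j hi hj γ γ'
    have h := Char.classInner_irrChar (G := ↥(extSub hC L))
      ⟨_, Char.isIrrCharacter_hom (extHom hC L hi γ)⟩ ⟨_, Char.isIrrCharacter_hom (extHom hC L hj γ')⟩
    rw [h]
    refine if_congr ?_ rfl rfl
    constructor
    · intro he
      have hf := congrFun (congrArg Subtype.val he)
      refine ⟨Subtype.ext (funext fun q => ?_), MonoidHom.ext fun l => Units.ext ?_⟩
      · have := hf ⟨q, Q_le_extSub hC L q.2⟩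
        simp only [extHom_Q] at this
        exact this
      · have := hf ⟨((l : ↥(twoPt G a t)) : G), ⟨1, one_mem _, l, l.2, (one_mul _).symm⟩⟩
        simp only [extHom_L] at this
        exact this
    · rintro ⟨rfl, rfl⟩; rfl
  have hd : ∀ γ, diffExt hC L h₁ h₀ γ = (fun x => (extHom hC L h₁ γ x : ℂ)) -
      (fun x => (extHom hC L h₀ γ x : ℂ)) := fun γ => rfl
  rw [hd, hd, Char.classInner_sub_left, Char.classInner_sub_right, Char.classInner_sub_right,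
    e h₁ h₁, e h₁ h₀, e h₀ h₁, e h₀ h₀]
  simp only [true_and, hne, Ne.symm hne, false_and, if_false]
  split_ifs <;> norm_num

/-- The induced difference on `Q`. -/
theorem ext_res (γ : ↥L →* ℂˣ) (x : ↥Q) :
    (Nat.card L : ℂ) * indFun (extSub hC L) (diffExt hC L h₁ h₀ γ) x =
      indFun Q (θ₁ : ↥Q → ℂ) x - indFun Q (θ₀ : ↥Q → ℂ) x := by
  by_cases hx : x = 1
  · subst hx
    simp only [Subgroup.coe_one, Char.indFun_apply_one, (cdeg_spec _).2, h₁.deg, h₀.deg,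
      diffExt_one]
    ring
  have hx1 : (x : G) ≠ 1 := fun e => hx (Subtype.ext e)
  rw [(frame hC).ind_apply θ₁ hx, (frame hC).ind_apply θ₀ hx, Char.indFun_apply,
    sum_fixed hC L _ (fun _ => diffExt_supp hC L h₁ h₀ γ) (smul_a_of_mem_Q hC.setup x.2)
      (fun c h => fixes_only hC.setup x.2 hx1 h)]
  have hsum : ∑ g ∈ Finset.univ.filter (fun g : G => g • a = a),
      extendByZero (extSub hC L) (diffExt hC L h₁ h₀ γ) (g⁻¹ * x * g) =
      ∑ p : ↥Q × ↥(twoPt G a t), ((θ₁ : ↥Q → ℂ) (cjHom (frame hC).norm p.2⁻¹ x) -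
        (θ₀ : ↥Q → ℂ) (cjHom (frame hC).norm p.2⁻¹ x)) := by
    symm
    refine Finset.sum_bij (fun p _ => (p.1 : G) * p.2) (fun p _ => Finset.mem_filter.2
      ⟨Finset.mem_univ _, by rw [mul_smul, (mem_twoPt.1 p.2.2).1, smul_a_of_mem_Q hC.setup p.1.2]⟩)
      (fun p _ r _ e => ?_) (fun g hg => ?_) (fun p _ => ?_)
    · obtain ⟨e1, e2⟩ := split_unique hC.setup p.1.2 r.1.2 p.2.2 r.2.2 e
      exact Prod.ext (Subtype.ext e1) (Subtype.ext e2)
    · obtain ⟨q, hq, d, hd, rfl⟩ := stabilizer_split hC.setup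
        (show g ∈ stabilizer G a from (Finset.mem_filter.1 hg).2)
      exact ⟨(⟨q, hq⟩, ⟨d, hd⟩), Finset.mem_univ _, rfl⟩
    · rw [show ((p.1 : G) * p.2)⁻¹ * x * ((p.1 : G) * p.2) =
        ((cjHom (frame hC).norm p.2⁻¹ (p.1⁻¹ * x * p.1) : ↥Q) : G) by
          rw [cjHom_coe]; push_cast; group,
        Char.extendByZero_of_mem _ _ (Q_le_extSub hC L (Subtype.coe_prop _)), diffExt_Q]
      have hcl : ∀ θ : IrrCharacter ↥Q, (θ : ↥Q → ℂ) (cjHom (frame hC).norm p.2⁻¹ (p.1⁻¹ * x * p.1)) =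
          (θ : ↥Q → ℂ) (cjHom (frame hC).norm p.2⁻¹ x) := fun θ => by
        have h := Char.isClassFunction_of_isIrr θ.2 (cjHom (frame hC).norm p.2⁻¹ x)
          (cjHom (frame hC).norm p.2⁻¹ p.1⁻¹)
        rw [← h]
        simp only [map_mul, map_inv, inv_inv]
      rw [hcl, hcl]
  rw [hsum, Fintype.sum_prod_type]
  simp only [Finset.sum_const, Finset.card_univ, nsmul_eq_mul, ← Nat.card_eq_fintype_card, card_extSub,
    Finset.sum_sub_distrib]
  push_cast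
  have hL : (Nat.card L : ℂ) ≠ 0 := Nat.cast_ne_zero.2 Nat.card_pos.ne'
  have hQ : (Nat.card Q : ℂ) ≠ 0 := Nat.cast_ne_zero.2 Nat.card_pos.ne'
  field_simp

end Cfsg.Agent.RankOneClass.Odd
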