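import Cfsg.Agent.RankOneClass.Odd.Frame
import Cfsg.Agent.RankOneClass.Odd.Coherent

/-!
# A conjugation-closed family of characters of `Q` permuted freely by `D`
-/

set_option autoImplicit false
set_option linter.unusedSimpArgs false
set_option linter.unusedSectionVars false

namespace Cfsg.Agent.RankOneClass.Odd

open Subgroup Cfsg.Agent.Zassenhaus
open scoped ComplexConjugate Classical

universe u

variable {G : Type u} [Group G] [Fintype G] {Q D : Subgroup G}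

/-- `T` is closed under `D` and conjugation, `D` is free on it and no member is sent to its conjugate. -/
structure Fam (F : Frame Q D) (T : Finset (IrrCharacter ↥Q)) : Prop where
  free : ∀ θ ∈ T, ∀ d : ↥D, actC F.norm d θ = θ → d = 1
  stable : ∀ θ ∈ T, ∀ d : ↥D, actC F.norm d θ ∈ T
  conj_mem : ∀ θ ∈ T, Char.conjIrr θ ∈ T
  nonreal : ∀ θ ∈ T, ∀ d : ↥D, actC F.norm d θ ≠ Char.conjIrr θ

/-- The distinct induced rows. -/
abbrev Idx (T : Finset (IrrCharacter ↥Q)) := {m : IrrCharacter G → ℤ // m ∈ T.image mv}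

/-- The row of a member. -/
noncomputable def idx {T : Finset (IrrCharacter ↥Q)} (θ : IrrCharacter ↥Q) (h : θ ∈ T) :
    Idx T := ⟨mv θ, Finset.mem_image_of_mem mv h⟩

/-- A representative of a row. -/
noncomputable def rep {T : Finset (IrrCharacter ↥Q)} (i : Idx T) : IrrCharacter ↥Q :=
  (Finset.mem_image.1 i.2).choose

theorem rep_mem {T : Finset (IrrCharacter ↥Q)} (i : Idx T) : rep i ∈ T :=
  (Finset.mem_image.1 i.2).choose_spec.1

theorem mv_rep {T : Finset (IrrCharacter ↥Q)} (i : Idx T) : mv (rep i) = i.1 :=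
  (Finset.mem_image.1 i.2).choose_spec.2

theorem idx_rep {T : Finset (IrrCharacter ↥Q)} (i : Idx T) : idx (rep i) (rep_mem i) = i :=
  Subtype.ext (mv_rep i)

variable {F : Frame Q D} {T : Finset (IrrCharacter ↥Q)}

theorem Fam.card_maps (hT : Fam F T) {θ θ' : IrrCharacter ↥Q} (hθ : θ ∈ T) :
    Nat.card {d : ↥D // actC F.norm d θ = θ'} = if ∃ d, actC F.norm d θ = θ' then 1 else 0 := by
  split_ifs with h
  · obtain ⟨d, hd⟩ := h
    rw [Nat.card_eq_one_iff_unique]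
    refine ⟨⟨fun c c' => Subtype.ext ?_⟩, ⟨⟨d, hd⟩⟩⟩
    have e : actC F.norm (c'.1⁻¹ * c.1) θ = θ := by
      rw [actC_mul, show actC F.norm c.1 θ = actC F.norm c'.1 θ from c.2.trans c'.2.symm,
        actC_inv_cancel]
    exact (inv_mul_eq_one.1 (hT.free θ hθ _ e)).symm
  · haveI : IsEmpty {d : ↥D // actC F.norm d θ = θ'} := ⟨fun d => h ⟨d.1, d.2⟩⟩
    exact Nat.card_of_isEmpty

theorem Fam.mv_eq_iff (hT : Fam F T) {θ θ' : IrrCharacter ↥Q} (hθ : θ ∈ T) (hθ' : θ' ∈ T) :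
    mv θ = mv θ' ↔ ∃ d, actC F.norm d θ = θ' := by
  refine ⟨fun e => ?_, fun ⟨d, hd⟩ => by rw [← hd, F.mv_actC]⟩
  by_contra hno
  have h1 := F.gram θ θ'
  rw [hT.card_maps hθ, if_neg hno, e] at h1
  have h2 := F.gram θ' θ'
  rw [hT.card_maps hθ', if_pos ⟨1, actC_one _ _⟩, h1] at h2
  have h3 := F.gram θ θ
  rw [hT.card_maps hθ, if_pos ⟨1, actC_one _ _⟩, e, h1] at h3
  have hD : (0 : ℤ) < Nat.card D := by exact_mod_cast Nat.card_pos
  have hf : (0 : ℤ) < cdeg θ := by exact_mod_cast (cdeg_spec θ).1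
  have hf' : (0 : ℤ) < cdeg θ' := by exact_mod_cast (cdeg_spec θ').1
  push_cast at h2 h3
  rcases le_total (cdeg θ : ℤ) (cdeg θ' : ℤ) with h | h <;> nlinarith

/-- Complex conjugation of the irreducible characters. -/
noncomputable def conjPerm : Equiv.Perm (IrrCharacter G) :=
  ⟨Char.conjIrr, Char.conjIrr, Char.conjIrr_conjIrr, Char.conjIrr_conjIrr⟩

theorem mv_conj' (θ : IrrCharacter ↥Q) : mv (Char.conjIrr θ) = mv θ ∘ conjPerm := funext fun χ => by
  have h := mv_conj θ (Char.conjIrr χ)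
  rw [Char.conjIrr_conjIrr] at h
  exact h

theorem ip_mv (θ θ' : IrrCharacter ↥Q) :
    ip (mv θ) (mv θ') = ∑ χ : IrrCharacter G, mv θ χ * mv θ' χ := rfl

/-- The rows of a family. -/
noncomputable def Fam.rows (hT : Fam F T) : Rows (IrrCharacter G) (Idx T) where
  m i := i.1
  f i := cdeg (rep i)
  deg χ := (cdeg χ : ℤ)
  σ := conjPerm
  bar :=
    { toFun := fun i => idx (Char.conjIrr (rep i)) (hT.conj_mem _ (rep_mem i))
      invFun := fun i => idx (Char.conjIrr (rep i)) (hT.conj_mem _ (rep_mem i))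
      left_inv := fun i => Subtype.ext (by
        show mv (Char.conjIrr _) = i.1
        rw [mv_conj', mv_rep]
        show mv (Char.conjIrr (rep i)) ∘ conjPerm = i.1
        rw [← mv_conj', Char.conjIrr_conjIrr, mv_rep])
      right_inv := fun i => Subtype.ext (by
        show mv (Char.conjIrr _) = i.1
        rw [mv_conj', mv_rep]
        show mv (Char.conjIrr (rep i)) ∘ conjPerm = i.1
        rw [← mv_conj', Char.conjIrr_conjIrr, mv_rep]) }
  k := Nat.card D
  K := Nat.card D * (Nat.card Q + 1)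
  σσ := Char.conjIrr_conjIrr
  barbar i := Subtype.ext (by
    show mv (Char.conjIrr (rep (idx (Char.conjIrr (rep i)) (hT.conj_mem _ (rep_mem i))))) = i.1
    rw [mv_conj', mv_rep]
    show mv (Char.conjIrr (rep i)) ∘ conjPerm = i.1
    rw [← mv_conj', Char.conjIrr_conjIrr, mv_rep])
  bar_ne i e := by
    have e' : mv (Char.conjIrr (rep i)) = mv (rep i) := by
      rw [mv_rep]; exact congrArg Subtype.val e
    obtain ⟨d, hd⟩ := (hT.mv_eq_iff (rep_mem i) (hT.conj_mem _ (rep_mem i))).1 e'.symm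
    exact hT.nonreal _ (rep_mem i) d hd
  f_pos i := (cdeg_spec _).1
  f_bar i := by
    obtain ⟨d, hd⟩ := (hT.mv_eq_iff (hT.conj_mem _ (rep_mem i)) (rep_mem (idx _ _))).1
      (mv_rep (idx (T := T) (Char.conjIrr (rep i)) (hT.conj_mem _ (rep_mem i)))).symm
    show cdeg (rep (idx (T := T) (Char.conjIrr (rep i)) (hT.conj_mem _ (rep_mem i)))) = cdeg (rep i)
    rw [← hd, cdeg_actC, cdeg_conjIrr]
  deg_pos χ := by exact_mod_cast (cdeg_spec χ).1
  gram i j := by
    have h := F.gram (rep i) (rep j)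
    rw [hT.card_maps (rep_mem i), ← ip_mv, mv_rep, mv_rep] at h
    rw [h]
    congr 1
    by_cases hij : i = j
    · rw [if_pos hij, if_pos ⟨1, by rw [actC_one, hij]⟩, Nat.cast_one]
    · rw [if_neg hij, if_neg fun hd => hij (Subtype.ext (by
        rw [← mv_rep i, ← mv_rep j, hT.mv_eq_iff (rep_mem i) (rep_mem j)]; exact hd)), Nat.cast_zero]
  degsum i := by
    have h := F.sum_deg (rep i)
    rw [mv_rep] at h
    rw [h]; ring
  m_bar i χ := by
    show mv (Char.conjIrr (rep i)) (Char.conjIrr χ) = i.1 χ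
    rw [mv_conj, mv_rep]

variable (hT : Fam F T)
include hT

theorem Fam.rows_f (i : Idx T) : hT.rows.f i = cdeg (rep i) := rfl

theorem Fam.f_idx {θ : IrrCharacter ↥Q} (hθ : θ ∈ T) : cdeg (rep (idx θ hθ)) = cdeg θ := by
  obtain ⟨d, hd⟩ := (hT.mv_eq_iff hθ (rep_mem (idx θ hθ))).1 (mv_rep (idx θ hθ)).symm
  rw [← hd, cdeg_actC]

theorem Fam.ip_rep (θ : IrrCharacter ↥Q) (hθ : θ ∉ T) (i : Idx T) :
    ip (mv θ) (hT.rows.m i) = hT.rows.k * cdeg θ * hT.rows.f i := by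
  show ip (mv θ) i.1 = (Nat.card D : ℤ) * cdeg θ * cdeg (rep i)
  rw [← mv_rep i, ip_comm, ip_mv, F.gram, hT.card_maps (rep_mem i),
    if_neg fun ⟨d, hd⟩ => hθ (hd ▸ hT.stable _ (rep_mem i) d), Nat.cast_zero, zero_add]
  ring

/-- The members are the translates of the representatives. -/
theorem Fam.sum_T {M : Type*} [AddCommMonoid M] (g : IrrCharacter ↥Q → M) :
    ∑ θ ∈ T, g θ = ∑ i : Idx T, ∑ d : ↥D, g (actC F.norm d (rep i)) := by
  rw [← Fintype.sum_prod_type' fun (i : Idx T) (d : ↥D) => g (actC F.norm d (rep i))]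
  symm
  refine Finset.sum_bij (fun p _ => actC F.norm p.2 (rep p.1))
    (fun p _ => hT.stable _ (rep_mem p.1) p.2) (fun p _ r _ e => ?_) (fun θ hθ => ?_) fun _ _ => rfl
  · obtain ⟨i, d⟩ := p
    obtain ⟨j, c⟩ := r
    have e' : actC F.norm (c⁻¹ * d) (rep i) = rep j := by
      rw [actC_mul, e, actC_inv_cancel]
    obtain rfl : i = j := Subtype.ext (by rw [← mv_rep i, ← mv_rep j, ← e', F.mv_actC])
    obtain rfl := (inv_mul_eq_one.1 (hT.free _ (rep_mem i) _ e')).symm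
    rfl
  · obtain ⟨d, hd⟩ := (hT.mv_eq_iff (rep_mem (idx θ hθ)) hθ).1 (mv_rep (idx θ hθ))
    exact ⟨(idx θ hθ, d), Finset.mem_univ _, hd⟩

variable (P : Part hT.rows Finset.univ)

/-- The weight of the family. -/
noncomputable abbrev Fam.W : ℤ := weight hT.rows Finset.univ

theorem Fam.W_eq : hT.W * (Nat.card D : ℤ) = ∑ θ ∈ T, (cdeg θ : ℤ) * cdeg θ := by
  rw [hT.sum_T]
  simp only [cdeg_actC, Finset.sum_const, Finset.card_univ, ← Nat.card_eq_fintype_card,
    Fam.W, weight, Finset.sum_mul, nsmul_eq_mul, hT.rows_f]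
  exact Finset.sum_congr rfl fun i _ => by ring

/-- The virtual character of the distinguished points. -/
noncomputable def Fam.Rf (g : G) : ℂ :=
  ∑ i : Idx T, (hT.rows.f i : ℂ) * (P.e i : G → ℂ) g

/-- Its coefficient at a character of `Q`. -/
noncomputable def Fam.coef (θ : IrrCharacter ↥Q) : ℤ :=
  ∑ i : Idx T, (hT.rows.f i : ℤ) * mv θ (P.e i)

theorem Fam.Rf_res (x : ↥Q) :
    hT.Rf P x = ∑ θ : IrrCharacter ↥Q, (hT.coef P θ : ℂ) * (θ : ↥Q → ℂ) x := by
  simp only [Fam.Rf, Fam.coef, res_expand, Finset.mul_sum, Int.cast_sum, Finset.sum_mul]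
  rw [Finset.sum_comm]
  refine Finset.sum_congr rfl fun θ _ => Finset.sum_congr rfl fun i _ => ?_
  push_cast; ring

theorem Fam.coef_of_prop {θ : IrrCharacter ↥Q} {γ : ℤ}
    (h : ∀ i : Idx T, mv θ (P.e i) = γ * hT.rows.f i) : hT.coef P θ = γ * hT.W := by
  simp only [Fam.coef, h, Fam.W, weight, Finset.mul_sum]
  exact Finset.sum_congr rfl fun i _ => by ring

theorem Fam.coef_mem {θ : IrrCharacter ↥Q} (hθ : θ ∈ T) :
    hT.coef P θ = P.x * cdeg θ * hT.W + P.ε * cdeg θ := by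
  have h : ∀ i : Idx T, mv θ (P.e i) = P.x * cdeg θ * hT.rows.f i +
      if idx θ hθ = i then P.ε else 0 := by
    intro i
    have h := P.row_at (Finset.mem_univ (idx θ hθ)) (Finset.mem_univ i)
    rw [hT.rows_f, hT.f_idx hθ] at h
    exact h
  simp only [Fam.coef, h, mul_add, Finset.sum_add_distrib, mul_ite, mul_zero, Finset.sum_ite_eq,
    Finset.mem_univ, if_true, Fam.W, weight, Finset.mul_sum]
  rw [hT.rows_f, hT.f_idx hθ]
  congr 1
  · exact Finset.sum_congr rfl fun i _ => by ring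
  · ring

theorem Fam.coef_own {θ : IrrCharacter ↥Q} (hθ : θ ∉ T)
    (hne : ∀ d, actC F.norm d θ ≠ Char.conjIrr θ) {i₀ : Idx T} (h0 : hT.rows.f i₀ = 1)
    (hW : (Nat.card {d : ↥D // actC F.norm d θ = θ} : ℤ) + 4 * cdeg θ < 2 * hT.W) :
    hT.coef P θ = P.x * cdeg θ * hT.W := by
  refine hT.coef_of_prop P fun i => ?_
  have h := P.own (mv θ) (cdeg θ) (Nat.card {d : ↥D // actC F.norm d θ = θ})
    (by exact_mod_cast (cdeg_spec θ).1) (Finset.mem_univ i₀) h0 (fun j _ => hT.ip_rep θ hθ j)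
    (by rw [ip_mv, F.gram]; simp only [Fam.rows]; ring)
    (by
      show ip (mv θ) (mv θ ∘ conjPerm) = _
      rw [← mv_conj', ip_mv, F.gram, cdeg_conjIrr]
      haveI : IsEmpty {d : ↥D // actC F.norm d θ = Char.conjIrr θ} := ⟨fun d => hne d.1 d.2⟩
      rw [Nat.card_of_isEmpty]
      simp only [Fam.rows]; push_cast; ring)
    (Int.natCast_nonneg _) hW (Finset.mem_univ i)
  rw [h]
  ring

theorem Fam.coef_foreign {θ θ₁ : IrrCharacter ↥Q} (hθ : θ ∉ T) (hθ₁ : θ₁ ∉ T) {η : ℕ}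
    (hdeg : cdeg θ = η * cdeg θ₁) (hne : ∀ d, actC F.norm d θ ≠ θ₁)
    (hc : ∀ d, actC F.norm d θ ≠ Char.conjIrr θ) (hc₁ : ∀ d, actC F.norm d θ₁ ≠ Char.conjIrr θ₁)
    (hc' : ∀ d, actC F.norm d θ ≠ Char.conjIrr θ₁)
    (hW : (Nat.card {d : ↥D // actC F.norm d θ = θ} : ℤ) +
      (η : ℤ) * η * Nat.card {d : ↥D // actC F.norm d θ₁ = θ₁} < 2 * hT.W) :
    hT.coef P θ = η * hT.coef P θ₁ := by
  have hz : ∀ ψ ψ' : IrrCharacter ↥Q, (∀ d, actC F.norm d ψ ≠ ψ') →
      ip (mv ψ) (mv ψ') = hT.rows.k * cdeg ψ * cdeg ψ' := by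
    intro ψ ψ' h
    haveI : IsEmpty {d : ↥D // actC F.norm d ψ = ψ'} := ⟨fun d => h d.1 d.2⟩
    rw [ip_mv, F.gram, Nat.card_of_isEmpty]
    simp only [Fam.rows]; push_cast; ring
  have hd : (cdeg θ : ℤ) = η * cdeg θ₁ := by exact_mod_cast hdeg
  have h := fun i => P.foreign (mv θ) (mv θ₁) η (cdeg θ₁)
    (Nat.card {d : ↥D // actC F.norm d θ = θ}) (Nat.card {d : ↥D // actC F.norm d θ₁ = θ₁})
    (fun j _ => by rw [hT.ip_rep θ hθ j, hd]) (fun j _ => hT.ip_rep θ₁ hθ₁ j)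
    (by rw [ip_mv, F.gram, hd]; simp only [Fam.rows]; ring)
    (by rw [ip_mv, F.gram]; simp only [Fam.rows]; ring)
    (by rw [hz θ θ₁ hne, hd])
    (by show ip (mv θ) (mv θ ∘ conjPerm) = _; rw [← mv_conj', hz _ _ hc, cdeg_conjIrr, hd])
    (by show ip (mv θ₁) (mv θ₁ ∘ conjPerm) = _; rw [← mv_conj', hz _ _ hc₁, cdeg_conjIrr])
    (by show ip (mv θ) (mv θ₁ ∘ conjPerm) = _; rw [← mv_conj', hz _ _ hc', cdeg_conjIrr, hd])
    hW (Finset.mem_univ i)
  simp only [Fam.coef, Finset.mul_sum]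
  exact Finset.sum_congr rfl fun i _ => by rw [h i]; ring

theorem Fam.norm_Rf :
    ∑ g : G, hT.Rf P g * conj (hT.Rf P g) = (Nat.card G : ℂ) * (hT.W : ℂ) := by
  have e : hT.Rf P = ∑ i : Idx T, (hT.rows.f i : ℂ) • (P.e i : G → ℂ) := funext fun g => by
    simp [Fam.Rf, Finset.sum_apply]
  have h : classInner (hT.Rf P) (hT.Rf P) = (hT.W : ℂ) := by
    rw [e, Char.classInner_sum_left]
    simp only [Char.classInner_smul_left, Char.classInner_sum_right, Char.classInner_smul_right,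
      Char.classInner_irrChar, Complex.conj_natCast, Finset.mul_sum, Fam.W, weight]
    push_cast
    refine Finset.sum_congr rfl fun i _ => ?_
    rw [Finset.sum_eq_single i (fun j _ hj => by
      rw [if_neg fun e' => hj (P.inj (Finset.mem_univ i) (Finset.mem_univ j) e').symm]; ring)
      (fun hh => absurd (Finset.mem_univ i) hh), if_pos rfl]
    ring
  rw [← h, classInner, ← mul_assoc, mul_inv_cancel₀ (Nat.cast_ne_zero.2 Nat.card_pos.ne'), one_mul]

theorem Fam.deg_e (i : Idx T) {i₀ : Idx T} (h0 : hT.rows.f i₀ = 1) :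
    (cdeg (P.e i) : ℤ) = hT.rows.f i * cdeg (P.e i₀) := by
  have key : ∀ j : Idx T, P.ε * hT.rows.deg (P.e j) =
      hT.rows.f j * (hT.rows.K - ∑ χ, P.c χ * hT.rows.deg χ) := by
    intro j
    have h := hT.rows.degsum j
    rw [P.row_eq (Finset.mem_univ j)] at h
    simp only [add_mul, Finset.sum_add_distrib, ite_mul, zero_mul, Finset.sum_ite_eq',
      Finset.mem_univ, if_true, mul_assoc, ← Finset.mul_sum] at h
    linarith
  have h0' := key i₀
  rw [h0, Nat.cast_one, one_mul] at h0'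
  have hi := key i
  rw [← h0'] at hi
  show hT.rows.deg (P.e i) = hT.rows.f i * hT.rows.deg (P.e i₀)
  linear_combination P.ε * hi + ((hT.rows.f i : ℤ) * hT.rows.deg (P.e i₀) -
    hT.rows.deg (P.e i)) * P.εε

theorem Fam.weight_deg {i₀ : Idx T} (h0 : hT.rows.f i₀ = 1) :
    hT.W * (cdeg (P.e i₀) : ℤ) * cdeg (P.e i₀) ≤ Nat.card G := by
  have h1 : ∑ i : Idx T, cdeg (P.e i) * cdeg (P.e i) ≤ Nat.card G := by
    rw [← sum_cdeg_sq (H := G), ← Finset.sum_image (f := fun χ => cdeg χ * cdeg χ) P.inj]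
    exact Finset.sum_le_sum_of_subset (Finset.subset_univ _)
  have h2 : (∑ i : Idx T, (cdeg (P.e i) : ℤ) * cdeg (P.e i)) ≤ Nat.card G := by exact_mod_cast h1
  refine le_trans (le_of_eq ?_) h2
  simp only [Fam.W, weight, Finset.sum_mul]
  exact Finset.sum_congr rfl fun i _ => by rw [hT.deg_e P i h0]; ring

/-- Differences of induced characters are differences of distinguished characters. -/
theorem Fam.diff (i i₀ : Idx T) (h0 : hT.rows.f i₀ = 1) (h : IrrCharacter G → ℂ) :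
    ∑ χ, ((mv (rep i) χ : ℂ) - (hT.rows.f i : ℂ) * mv (rep i₀) χ) * h χ =
      (P.ε : ℂ) * (h (P.e i) - (hT.rows.f i : ℂ) * h (P.e i₀)) := by
  have e : ∀ χ, (mv (rep i) χ : ℂ) - (hT.rows.f i : ℂ) * mv (rep i₀) χ =
      (P.ε : ℂ) * ((if χ = P.e i then 1 else 0) -
        (hT.rows.f i : ℂ) * if χ = P.e i₀ then 1 else 0) := by
    intro χ
    have h1 := P.row i (Finset.mem_univ i) χ
    have h2 := P.row i₀ (Finset.mem_univ i₀) χ
    rw [h0, Nat.cast_one, one_mul] at h2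
    rw [mv_rep, mv_rep, show i.1 χ = hT.rows.m i χ from rfl, show i₀.1 χ = hT.rows.m i₀ χ from rfl,
      h1, h2]
    split_ifs <;> push_cast <;> ring
  rw [Finset.sum_congr rfl fun χ _ => show _ = (if χ = P.e i then (P.ε : ℂ) * h χ else 0) -
    (if χ = P.e i₀ then (P.ε : ℂ) * ((hT.rows.f i : ℂ) * h χ) else 0) by
      rw [e χ]; split_ifs <;> ring]
  rw [Finset.sum_sub_distrib, Finset.sum_ite_eq', Finset.sum_ite_eq', if_pos (Finset.mem_univ _),
    if_pos (Finset.mem_univ _)]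
  ring

theorem Fam.sum_apply {x : ↥Q} (hx : x ≠ 1) :
    ∑ θ ∈ T, (cdeg θ : ℂ) * (θ : ↥Q → ℂ) x =
      ∑ i : Idx T, (hT.rows.f i : ℂ) * indFun Q (rep i : ↥Q → ℂ) x := by
  rw [hT.sum_T]
  refine Finset.sum_congr rfl fun i _ => ?_
  rw [F.ind_apply _ hx, Finset.mul_sum]
  exact Finset.sum_congr rfl fun d _ => by rw [cdeg_actC, hT.rows_f]; rfl

end Cfsg.Agent.RankOneClass.Odd
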