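import Cfsg.Agent.RankOneClass.Odd.ActChar
import Cfsg.Agent.Char.ClassAlg
import Cfsg.Agent.Char.Induced

/-!
# Characters induced from a regular normal subgroup of a point stabiliser

`Q` is normalised by `D`, is a trivial intersection set with respect to `Q D`, and
`|G| = |Q| |D| (|Q| + 1)`.
-/

set_option autoImplicit false
set_option linter.unusedSimpArgs false
set_option linter.unusedSectionVars false

namespace Cfsg.Agent.RankOneClass.Odd

open Subgroup Cfsg.Agent.Zassenhaus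
open scoped ComplexConjugate Classical

universe u

variable {G : Type u} [Group G] [Fintype G] {Q D : Subgroup G}

/-- The regular normal subgroup `Q` and the complement `D`. -/
structure Frame (Q D : Subgroup G) : Prop where
  norm : NormBy D Q
  disj : ∀ x ∈ Q, x ∈ D → x = 1
  ti : ∀ x ∈ Q, x ≠ 1 → ∀ g : G, g⁻¹ * x * g ∈ Q → ∃ d ∈ D, ∃ q ∈ Q, g = d * q
  card : Nat.card G = Nat.card Q * Nat.card D * (Nat.card Q + 1)

variable (F : Frame Q D)
include F

theorem Frame.index_Q : Q.index = Nat.card D * (Nat.card Q + 1) := by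
  have h := Subgroup.card_mul_index Q
  rw [F.card, mul_assoc] at h
  exact Nat.eq_of_mul_eq_mul_left Nat.card_pos h

theorem Frame.ind_one (θ : IrrCharacter ↥Q) :
    indFun Q (θ : ↥Q → ℂ) 1 = ((Nat.card D * (Nat.card Q + 1) * cdeg θ : ℕ) : ℂ) := by
  rw [Char.indFun_apply_one, F.index_Q, (cdeg_spec θ).2]
  push_cast
  ring

/-- Induced values on `Q \ {1}` are sums over `D`. -/
theorem Frame.ind_apply (θ : IrrCharacter ↥Q) {x : ↥Q} (hx : x ≠ 1) :
    indFun Q (θ : ↥Q → ℂ) x = ∑ d : ↥D, (θ : ↥Q → ℂ) (cjHom F.norm d⁻¹ x) := by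
  rw [Char.indFun_apply]
  have hinj : Function.Injective fun p : ↥D × ↥Q => (p.1 : G) * (p.2 : G) := by
    rintro ⟨d, q⟩ ⟨d', q'⟩ (e : (d : G) * q = (d' : G) * q')
    have e1 : (d' : G)⁻¹ * d = (q' : G) * (q : G)⁻¹ := by
      rw [eq_mul_inv_iff_mul_eq, mul_assoc, e, inv_mul_cancel_left]
    have h1 := F.disj _ (mul_mem q'.2 (inv_mem q.2)) (e1 ▸ mul_mem (inv_mem d'.2) d.2)
    rw [h1, inv_mul_eq_one] at e1
    rw [mul_inv_eq_one] at h1
    exact Prod.ext (Subtype.ext e1.symm) (Subtype.ext h1.symm)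
  have hsum : ∑ g : G, extendByZero Q (θ : ↥Q → ℂ) (g⁻¹ * x * g) =
      ∑ p : ↥D × ↥Q, extendByZero Q (θ : ↥Q → ℂ)
        (((p.1 : G) * p.2)⁻¹ * x * ((p.1 : G) * p.2)) := by
    symm
    refine Finset.sum_bij_ne_zero (fun p _ _ => (p.1 : G) * p.2) (fun _ _ _ => Finset.mem_univ _)
      (fun p _ _ p' _ _ e => hinj e) (fun g _ hg => ?_) (fun _ _ _ => rfl)
    by_cases hgm : g⁻¹ * (x : G) * g ∈ Q
    · obtain ⟨d, hd, q, hq, rfl⟩ := F.ti x x.2 (fun e => hx (Subtype.ext e)) g hgm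
      exact ⟨(⟨d, hd⟩, ⟨q, hq⟩), Finset.mem_univ _, hg, rfl⟩
    · exact absurd (Char.extendByZero_of_not_mem Q _ hgm) hg
  have hval : ∀ p : ↥D × ↥Q, extendByZero Q (θ : ↥Q → ℂ)
      (((p.1 : G) * p.2)⁻¹ * x * ((p.1 : G) * p.2)) = (θ : ↥Q → ℂ) (cjHom F.norm p.1⁻¹ x) := by
    rintro ⟨d, q⟩
    have e : ((d : G) * q)⁻¹ * x * ((d : G) * q) =
        ((q⁻¹ * cjHom F.norm d⁻¹ x * q : ↥Q) : G) := by simp [mul_assoc, -map_inv]
    rw [e, Char.extendByZero_coe]
    have h := Char.isClassFunction_of_isIrr θ.2 (cjHom F.norm d⁻¹ x) q⁻¹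
    rwa [inv_inv] at h
  rw [hsum, Fintype.sum_congr _ _ hval, Fintype.sum_prod_type]
  simp only [Finset.sum_const, Finset.card_univ, nsmul_eq_mul, ← Nat.card_eq_fintype_card]
  rw [← Finset.mul_sum, ← mul_assoc, inv_mul_cancel₀ (Nat.cast_ne_zero.2 Nat.card_pos.ne'), one_mul]

/-- The restriction of an induced character. -/
theorem Frame.res_ind (θ : IrrCharacter ↥Q) :
    (fun x : ↥Q => indFun Q (θ : ↥Q → ℂ) x) = ∑ d : ↥D, (actC F.norm d θ : ↥Q → ℂ) +
      fun x => if x = 1 then (Nat.card Q * Nat.card D * cdeg θ : ℂ) else 0 := by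
  funext x
  rw [Pi.add_apply, Finset.sum_apply]
  by_cases hx : x = 1
  · subst hx
    simp only [Subgroup.coe_one, F.ind_one, if_pos rfl, actC_apply, map_one, (cdeg_spec θ).2,
      Finset.sum_const, Finset.card_univ, nsmul_eq_mul, ← Nat.card_eq_fintype_card]
    push_cast
    ring
  · rw [if_neg hx, add_zero, F.ind_apply θ hx]
    rfl

/-- The Gram matrix of the induced characters. -/
theorem Frame.classInner_ind (θ θ' : IrrCharacter ↥Q) :
    classInner (indFun Q (θ : ↥Q → ℂ)) (indFun Q (θ' : ↥Q → ℂ)) =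
      ((Nat.card {d : ↥D // actC F.norm d θ = θ'} + Nat.card D * (cdeg θ * cdeg θ') : ℕ) : ℂ) := by
  rw [Char.classInner_indFun_right Q _ (Char.isClassFunction_indFun Q _), F.res_ind,
    Char.classInner_add_left, Char.classInner_sum_left]
  have h1 : ∑ d : ↥D, classInner (actC F.norm d θ : ↥Q → ℂ) (θ' : ↥Q → ℂ) =
      (Nat.card {d : ↥D // actC F.norm d θ = θ'} : ℂ) := by
    rw [Finset.sum_congr rfl fun d _ => Char.classInner_irrChar _ _, Finset.sum_boole,
      Nat.card_eq_fintype_card, Fintype.card_subtype]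
  have h2 : classInner (fun x : ↥Q => if x = 1 then (Nat.card Q * Nat.card D * cdeg θ : ℂ) else 0)
      (θ' : ↥Q → ℂ) = ((Nat.card D * (cdeg θ * cdeg θ') : ℕ) : ℂ) := by
    simp only [classInner, ite_mul, zero_mul, Finset.sum_ite_eq', Finset.mem_univ, if_true,
      (cdeg_spec θ').2, Complex.conj_natCast]
    push_cast
    field_simp
  rw [h1, h2, Nat.cast_add]

omit F

/-- Multiplicities in an induced character. -/
noncomputable def mv (θ : IrrCharacter ↥Q) : IrrCharacter G → ℤ :=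
  fun χ => ((Char.IsChar.exists_mult (Char.isCharacter_indFun Q (Char.IsIrr.isCharacter θ.2))).choose χ : ℤ)

theorem mv_spec (θ : IrrCharacter ↥Q) (χ : IrrCharacter G) :
    classInner (indFun Q (θ : ↥Q → ℂ)) (χ : G → ℂ) = (mv θ χ : ℂ) := by
  rw [(Char.IsChar.exists_mult (Char.isCharacter_indFun Q
    (Char.IsIrr.isCharacter θ.2))).choose_spec.1 χ]
  simp [mv]

theorem ind_eq_sum (θ : IrrCharacter ↥Q) :
    indFun Q (θ : ↥Q → ℂ) = ∑ χ : IrrCharacter G, (mv θ χ : ℂ) • (χ : G → ℂ) := by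
  conv_lhs => rw [Char.classFun_expansion (Char.isClassFunction_indFun Q _)]
  simp only [mv_spec]

theorem ind_apply_sum (θ : IrrCharacter ↥Q) (g : G) :
    indFun Q (θ : ↥Q → ℂ) g = ∑ χ : IrrCharacter G, (mv θ χ : ℂ) * (χ : G → ℂ) g := by
  rw [ind_eq_sum, Finset.sum_apply]
  rfl

theorem res_expand (χ : IrrCharacter G) (x : ↥Q) :
    (χ : G → ℂ) x = ∑ θ : IrrCharacter ↥Q, (mv θ χ : ℂ) * (θ : ↥Q → ℂ) x := by
  have hcl : IsClassFunction ↥Q (fun x : ↥Q => (χ : G → ℂ) x) :=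
    fun g k => Char.isClassFunction_of_isIrr χ.2 g k
  have h := congrFun (Char.classFun_expansion hcl) x
  rw [Finset.sum_apply] at h
  rw [h]
  refine Finset.sum_congr rfl fun θ _ => ?_
  rw [Pi.smul_apply, smul_eq_mul, ← Char.classInner_conj_symm, ←
    Char.classInner_indFun_left Q _ (Char.isClassFunction_of_isIrr χ.2), mv_spec, map_intCast]

theorem mv_conj (θ : IrrCharacter ↥Q) (χ : IrrCharacter G) :
    mv (Char.conjIrr θ) (Char.conjIrr χ) = mv θ χ := by
  have h : classInner (indFun Q (Char.conjIrr θ : ↥Q → ℂ)) (Char.conjIrr χ : G → ℂ) =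
      conj (classInner (indFun Q (θ : ↥Q → ℂ)) (χ : G → ℂ)) := by
    rw [Char.classInner_indFun_left Q _ (Char.isClassFunction_of_isIrr (Char.conjIrr χ).2),
      Char.classInner_indFun_left Q _ (Char.isClassFunction_of_isIrr χ.2)]
    simp [classInner]
  rw [mv_spec, mv_spec, map_intCast] at h
  exact_mod_cast h

include F

theorem Frame.gram (θ θ' : IrrCharacter ↥Q) :
    ∑ χ : IrrCharacter G, mv θ χ * mv θ' χ =
      (Nat.card {d : ↥D // actC F.norm d θ = θ'} : ℤ) + Nat.card D * (cdeg θ * cdeg θ') := by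
  have h := F.classInner_ind θ θ'
  rw [Char.classInner_eq_sum (Char.isClassFunction_indFun Q _)] at h
  have h1 : ∀ χ : IrrCharacter G, classInner (χ : G → ℂ) (indFun Q (θ' : ↥Q → ℂ)) = (mv θ' χ : ℂ) :=
    fun χ => by rw [← Char.classInner_conj_symm, mv_spec, map_intCast]
  simp only [mv_spec, h1] at h
  rw [← Nat.cast_mul, ← Nat.cast_mul, ← Nat.cast_add]
  exact_mod_cast h

theorem Frame.sum_deg (θ : IrrCharacter ↥Q) :
    ∑ χ : IrrCharacter G, mv θ χ * (cdeg χ : ℤ) = Nat.card D * (Nat.card Q + 1) * cdeg θ := by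
  have h := F.ind_one θ
  rw [ind_apply_sum] at h
  simp only [(cdeg_spec _).2] at h
  exact_mod_cast h

theorem Frame.mv_actC (d : ↥D) (θ : IrrCharacter ↥Q) : mv (actC F.norm d θ) = mv θ := by
  funext χ
  have h : classInner (indFun Q (actC F.norm d θ : ↥Q → ℂ)) (χ : G → ℂ) =
      classInner (indFun Q (θ : ↥Q → ℂ)) (χ : G → ℂ) := by
    rw [Char.classInner_indFun_left Q _ (Char.isClassFunction_of_isIrr χ.2),
      Char.classInner_indFun_left Q _ (Char.isClassFunction_of_isIrr χ.2)]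
    simp only [classInner, actC_apply]
    congr 1
    refine Fintype.sum_equiv (cjHom F.norm d⁻¹).toEquiv _ _ fun x => ?_
    congr 2
    have := Char.isClassFunction_of_isIrr χ.2 (x : G) (d : G)⁻¹
    simpa [mul_assoc, -map_inv] using this.symm
  rw [mv_spec, mv_spec] at h
  exact_mod_cast h

theorem Frame.sum_mv_apply (θ : IrrCharacter ↥Q) {x : ↥Q} (hx : x ≠ 1) :
    ∑ χ : IrrCharacter G, (mv θ χ : ℂ) * (χ : G → ℂ) x =
      ∑ d : ↥D, (θ : ↥Q → ℂ) (cjHom F.norm d⁻¹ x) := by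
  rw [← ind_apply_sum, F.ind_apply θ hx]

omit F

/-- Sums over pairs of involutions. -/
theorem pair_gen (H : Subgroup G) (ψ : ↥H → ℂ) (m : IrrCharacter G → ℂ)
    (hm : indFun H ψ = ∑ χ : IrrCharacter G, m χ • (χ : G → ℂ)) (Inv : Finset G) {s : G}
    (hclass : ∀ g, g ∈ Inv ↔ IsConj s g) (hsq : ∀ u ∈ Inv, u * u = 1) :
    ∑ χ : IrrCharacter G, m χ * ((Inv.card : ℂ) ^ 2 * (χ : G → ℂ) s ^ 2 / (χ : G → ℂ) 1) =
      (H.index : ℂ) * ∑ x : ↥H, ψ x * ((Inv.filter fun u : G => u * x ∈ Inv).card : ℂ) := by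
  set A : G → ℂ := fun g => ((Inv.filter fun u : G => u * g ∈ Inv).card : ℂ) with hA
  have hAcl : IsClassFunction G A := by
    intro g k
    simp only [hA]
    congr 1
    refine Finset.card_bij (fun u _ => k⁻¹ * u * k) ?_ ?_ ?_
    · intro u hu
      simp only [Finset.mem_filter, hclass] at hu ⊢
      refine ⟨hu.1.trans (isConj_iff.2 ⟨k⁻¹, by simp [mul_assoc]⟩),
        hu.2.trans (isConj_iff.2 ⟨k⁻¹, by simp [mul_assoc]⟩)⟩
    · intro u _ w _ e
      simpa using e
    · intro w hw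
      simp only [Finset.mem_filter, hclass] at hw
      refine ⟨k * w * k⁻¹, ?_, by simp [mul_assoc]⟩
      simp only [Finset.mem_filter, hclass]
      exact ⟨hw.1.trans (isConj_iff.2 ⟨k, rfl⟩),
        hw.2.trans (isConj_iff.2 ⟨k, by simp [mul_assoc]⟩)⟩
  have hpair : ∀ χ : IrrCharacter G, ∑ u ∈ Inv, ∑ w ∈ Inv, (χ : G → ℂ) (u * w) =
      (Inv.card : ℂ) ^ 2 * (χ : G → ℂ) s ^ 2 / (χ : G → ℂ) 1 := by
    intro χ
    rw [eq_div_iff (Char.IsIrr.one_ne_zero χ.2), mul_comm _ ((χ : G → ℂ) 1)]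
    have hInv : Inv = Finset.univ.filter (IsConj s) := by ext g; simp [hclass]
    have hN : (Inv.card : ℂ) = ((Subgroup.centralizer ({s} : Set G)).index : ℂ) := by
      rw [hInv, ← Fintype.card_subtype, ← Nat.card_eq_fintype_card, Char.card_isConj_eq_index]
    rw [hN, hInv]
    have h := Char.sum_classes_mul χ.2 s s
    convert h using 1
    · congr! 3
      ext; simp
    · ring
  have h1 : ∑ u ∈ Inv, ∑ w ∈ Inv, indFun H ψ (u * w) = ∑ g : G, indFun H ψ g * A g := by
    simp only [hA, Finset.card_filter, Nat.cast_sum, Finset.mul_sum]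
    rw [Finset.sum_comm (s := (Finset.univ : Finset G))]
    refine Finset.sum_congr rfl fun u hu => ?_
    rw [← Fintype.sum_extend_by_zero]
    refine Fintype.sum_equiv (Equiv.mulLeft u) _ _ fun w => ?_
    have e : u * (u * w) = w := by rw [← mul_assoc, hsq u hu, one_mul]
    simp only [Equiv.coe_mulLeft, e, Nat.cast_ite, Nat.cast_one, Nat.cast_zero, mul_ite, mul_one,
      mul_zero]
  have h2 : ∑ g : G, indFun H ψ g * A g =
      (H.index : ℂ) * ∑ x : ↥H, ψ x * A x := by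
    have h := Char.classInner_indFun_left H ψ hAcl
    simp only [classInner] at h
    have hc : ∀ g, conj (A g) = A g := fun g => by simp [hA]
    simp only [hc] at h
    have hG : (Nat.card G : ℂ) = (Nat.card H : ℂ) * (H.index : ℂ) := by
      rw [← Nat.cast_mul, Subgroup.card_mul_index]
    rw [inv_mul_eq_iff_eq_mul₀ (Nat.cast_ne_zero.2 Nat.card_pos.ne'), hG] at h
    rw [h]
    field_simp
  rw [← h2, ← h1, hm]
  simp only [Finset.sum_apply, Pi.smul_apply, smul_eq_mul]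
  rw [← Finset.sum_congr rfl fun χ _ => congrArg _ (hpair χ)]
  simp only [Finset.mul_sum]
  rw [Finset.sum_comm]
  refine Finset.sum_congr rfl fun u _ => ?_
  rw [Finset.sum_comm]

end Cfsg.Agent.RankOneClass.Odd
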