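import Mathlib

/-!
# The inequalities used for the residual estimate
-/

set_option autoImplicit false

namespace Cfsg.Agent.RankOneClass.Odd

theorem pow_bound {o : ℕ} (h : 3 ≤ o) : o * o + 4 * o + 8 < 4 * 2 ^ o ∧ 3 * o + 4 ≤ 2 * 2 ^ o ∧
    o * o + 4 < 2 * 2 ^ o ∧ 9 * o ≤ 4 * 2 ^ o ∧ 8 ≤ 2 ^ o := by
  induction o, h using Nat.le_induction with
  | base => norm_num
  | succ o ho ih =>
    have h2 : 2 ^ (o + 1) = 2 * 2 ^ o := by ring
    rw [h2]
    refine ⟨?_, ?_, ?_, ?_, ?_⟩ <;> nlinarith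

/-- `o` is one or `q = 2 ^ o` with `o` at least three. -/
def StabVal (q o : ℕ) : Prop := o = 1 ∨ (3 ≤ o ∧ q = 2 ^ o)

theorem StabVal.pos {q o : ℕ} (h : StabVal q o) : 0 < o := by
  rcases h with rfl | ⟨h, -⟩ <;> omega

theorem StabVal.mul_le {q o o' : ℕ} (hq : 4 ≤ q) (h : StabVal q o) (h' : StabVal q o') :
    o * o' + 4 * o + 8 < 4 * q ∧ o * o' + 4 < 2 * q := by
  rcases h with rfl | ⟨ho, hqo⟩ <;> rcases h' with rfl | ⟨ho', hqo'⟩
  · omega
  · have := pow_bound ho'
    rw [← hqo'] at this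
    constructor <;> nlinarith
  · have := pow_bound ho
    rw [← hqo] at this
    constructor <;> nlinarith
  · obtain rfl : o = o' := Nat.pow_right_injective le_rfl (hqo.symm.trans hqo')
    have := pow_bound ho
    rw [← hqo] at this
    constructor <;> nlinarith

theorem own_bound {q o η M R : ℕ} (hq : 4 ≤ q) (h : StabVal q o) (hη : η * η ≤ M)
    (h1 : 1 ≤ η) (hR : (q - 2) * M ≤ R) : o * (o + 4 * η) < 4 * R := by
  have hb := (h.mul_le hq h).1
  have hηM : η ≤ M := le_trans (Nat.le_mul_self η) hη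
  have hM : 1 ≤ M := h1.trans hηM
  obtain ⟨q', rfl⟩ : ∃ q', q = q' + 2 := ⟨q - 2, by omega⟩
  rw [Nat.add_sub_cancel] at hR
  have e1 : o * (o + 4 * η) ≤ (o * o + 4 * o) * M := by
    nlinarith [Nat.mul_le_mul_left (4 * o) hηM, Nat.mul_le_mul_left (o * o) hM]
  have e2 : (o * o + 4 * o) * M < 4 * q' * M := Nat.mul_lt_mul_of_pos_right (by omega) (by omega)
  nlinarith

theorem foreign_bound {q o o' η M R : ℕ} (hq : 4 ≤ q) (h : StabVal q o) (h' : StabVal q o')
    (hη : η * η ≤ M) (h1 : 1 ≤ M) (hR : (q - 2) * M ≤ R) : o * (o' + η * η * o') < 4 * R := by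
  have hb := (h.mul_le hq h').2
  obtain ⟨q', rfl⟩ : ∃ q', q = q' + 2 := ⟨q - 2, by omega⟩
  rw [Nat.add_sub_cancel] at hR
  have e1 : o * (o' + η * η * o') ≤ 2 * (o * o') * M := by
    nlinarith [Nat.mul_le_mul_left (o * o') hη, Nat.mul_le_mul_left (o * o') h1]
  have e2 : 2 * (o * o') * M < 4 * q' * M := Nat.mul_lt_mul_of_pos_right (by omega) (by omega)
  nlinarith

/-- At least three linear rows. -/
theorem three_rows {q o M C R N : ℕ} (hq : 4 ≤ q) (h : StabVal q o) (hM : M = 1 ∨ q ≤ M)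
    (hC : C * C ≤ M) (ho : o = 1 → C = 0) (hR : M ≤ R + C) (hR1 : M = 1 → q - 2 ≤ R)
    (hN : o * N = 2 * R) : 3 ≤ N := by
  have key : 3 * o ≤ 2 * R := by
    rcases hM with rfl | hqM
    · have := hR1 rfl
      rcases h with rfl | ⟨ho3, rfl⟩
      · omega
      · have := (pow_bound ho3).2.1; omega
    · rcases h with rfl | ⟨ho3, rfl⟩
      · have := ho rfl; omega
      · have := pow_bound ho3
        have h8 : (2 : ℕ) ^ 3 ≤ 2 ^ o := Nat.pow_le_pow_right two_pos ho3
        by_cases hC3 : C ≤ 2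
        · omega
        · have := Nat.mul_le_mul_right C (show 3 ≤ C by omega)
          omega
  by_contra hlt
  have := Nat.mul_le_mul_left o (show N ≤ 2 by omega)
  have := h.pos
  omega

/-- A nonlinear degree is small against the linear rows. -/
theorem grow_bound {q o M C R N f : ℕ} (hq : 4 ≤ q) (h : StabVal q o) (hodd : Odd o)
    (hMq : M = q ∨ q * q ≤ M) (hf2 : ∃ e, f = 2 ^ e) (hf : 1 < f) (hfM : f * f ≤ M)
    (hC : C * C ≤ M) (ho : o = 1 → C = 0) (hR : M ≤ R + C) (hN : o * N = 2 * R) :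
    2 * f + 2 ≤ N ∨ (2 * f = N ∧ q = 8 ∧ o = 3) := by
  rcases h with rfl | ⟨ho3, hqo⟩
  · have := ho rfl
    left
    nlinarith
  obtain ⟨i, rfl⟩ := hf2
  have hpb := pow_bound ho3
  rw [← hqo] at hpb
  by_cases hsmall : o = 3 ∧ M = q
  · obtain ⟨rfl, rfl⟩ := hsmall
    norm_num at hqo
    subst hqo
    have hi : i = 1 := by
      have h1 : 2 * i ≤ 3 := by
        rw [← pow_add, ← two_mul, show (8 : ℕ) = 2 ^ 3 from rfl] at hfM
        exact (Nat.pow_le_pow_iff_right one_lt_two).1 hfM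
      rcases Nat.eq_zero_or_pos i with rfl | hi
      · simp at hf
      · omega
    subst hi
    have hC2 : C ≤ 2 := by
      by_contra hc
      have := Nat.mul_le_mul (show 3 ≤ C by omega) (show 3 ≤ C by omega)
      omega
    norm_num at *
    rcases Nat.lt_or_ge N 6 with h6 | h6
    · right; omega
    · left; omega
  left
  have key : o * (2 ^ i + 1) + C ≤ M := by
    by_cases h5 : o = 5 ∧ M = q
    · obtain ⟨rfl, rfl⟩ := h5
      norm_num at hqo
      subst hqo
      have hi : 2 * i ≤ 5 := by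
        rw [← pow_add, ← two_mul, show (32 : ℕ) = 2 ^ 5 from rfl] at hfM
        exact (Nat.pow_le_pow_iff_right one_lt_two).1 hfM
      have hi4 : 2 ^ i ≤ 4 := by
        calc 2 ^ i ≤ 2 ^ 2 := Nat.pow_le_pow_right two_pos (by omega)
          _ = 4 := rfl
      have hC5 : C ≤ 5 := by
        by_contra hc
        have := Nat.mul_le_mul (show 6 ≤ C by omega) (show 6 ≤ C by omega)
        omega
      omega
    have hbig : 2 * (o * o + o + 1) ≤ M := by
      rcases hMq with rfl | hMq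
      · have h7 : ∀ o, 7 ≤ o → 2 * (o * o + o + 1) ≤ 2 ^ o := fun o ho7 => by
          induction o, ho7 using Nat.le_induction with
          | base => norm_num
          | succ o ho ih => rw [pow_succ]; nlinarith
        rw [hqo]
        refine h7 o ?_
        obtain ⟨k, rfl⟩ := hodd
        by_contra hlt
        simp only [and_true] at hsmall h5
        omega
      · nlinarith
    zify at hfM hC hbig ⊢
    nlinarith [sq_nonneg ((o : ℤ) * 2 - (2 : ℤ) ^ i), sq_nonneg ((C : ℤ) - 2)]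
  have h1 : o * (2 * 2 ^ i + 2) ≤ o * N := by rw [hN]; nlinarith
  exact Nat.le_of_mul_le_mul_left h1 (by omega)

end Cfsg.Agent.RankOneClass.Odd
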