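import Cfsg.Agent.RankOneClass.Odd.Frame
import Cfsg.Agent.RankOneClass.BaseCard

/-!
# Counting in a rank-one set-up
-/

set_option autoImplicit false
set_option linter.unusedSectionVars false
set_option linter.unusedSimpArgs false

namespace Cfsg.Agent.RankOneClass.Odd

open Subgroup MulAction Cfsg.Agent.RankOne
open scoped _root_.Classical

universe u v

variable {G : Type u} {Ω : Type v} [Group G] [Fintype G] [MulAction G Ω] {a : Ω} {t : G}
  {Q : Subgroup G} (hC : Ctx G Ω a t Q)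
include hC

theorem frame : Frame Q (twoPt G a t) where
  norm d hd x hx := conj_mem_Q hC.setup (twoPt_le hd) hx
  disj x hx hd := eq_one_of_mem_twoPt hC.setup hx hd
  ti x hx hx1 g hg := by
    have hga : g • a = a := by
      refine fixes_only hC.setup hx hx1 ?_
      have h : (g⁻¹ * x * g) • a = a := smul_a_of_mem_Q hC.setup hg
      rw [mul_smul, mul_smul, inv_smul_eq_iff] at h
      exact h
    obtain ⟨q, hq, d, hd, e⟩ := stabilizer_split hC.setup
      (show g⁻¹ ∈ stabilizer G a from inv_mem (show g ∈ stabilizer G a from hga))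
    exact ⟨d⁻¹, inv_mem hd, q⁻¹, inv_mem hq, by rw [← mul_inv_rev, ← e, inv_inv]⟩
  card := card_group hC.setup

theorem card_D : Nat.card (twoPt G a t) = (qq G a - 1) * Nat.card (vGrp G a t) := by
  rw [hC.card_twoPt, ← hC.card_kGrp, Nat.add_sub_cancel]

omit hC

/-- The involutions of a finite group. -/
noncomputable def invols (G : Type u) [Group G] [Fintype G] : Finset G :=
  Finset.univ.filter fun u : G => u ≠ 1 ∧ u * u = 1

/-- The involutions of `Z`. -/
noncomputable def zSharp (G : Type u) [Group G] [Fintype G] {Ω : Type v} [MulAction G Ω] (a : Ω) :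
    Finset G :=
  Finset.univ.filter fun z : G => z ∈ zGrp G a ∧ z ≠ 1

theorem mem_zSharp {z : G} : z ∈ zSharp G a ↔ z ∈ zGrp G a ∧ z ≠ 1 := by simp [zSharp]

theorem mem_invols {z : G} : z ∈ invols G ↔ z ≠ 1 ∧ z * z = 1 := by simp [invols]

include hC

theorem card_zSharp : (zSharp G a).card = qq G a - 1 := by
  have h : Finset.univ.filter (fun z : G => z ∈ zGrp G a) = insert 1 (zSharp G a) := by
    ext z
    simp only [Finset.mem_filter, Finset.mem_univ, true_and, Finset.mem_insert, mem_zSharp]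
    by_cases hz : z = 1 <;> simp [hz]
  have h1 : (1 : G) ∉ zSharp G a := fun h => (mem_zSharp.1 h).2 rfl
  have h2 := congrArg Finset.card h
  rw [Finset.card_insert_of_notMem h1, ← Fintype.card_subtype, ← Nat.card_eq_fintype_card] at h2
  change qq G a = _ at h2
  omega

theorem invols_class {s : G} (hs : s ∈ zSharp G a) (g : G) : g ∈ invols G ↔ IsConj s g := by
  obtain ⟨hsZ, hs1⟩ := mem_zSharp.1 hs
  have hs2 := hC.zGrp_sq hsZ
  rw [mem_invols]
  refine ⟨fun ⟨h1, h2⟩ => ?_, fun h => ?_⟩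
  · obtain ⟨c, hc⟩ := invol_conj_t hC.setup hs1 hs2 h1 h2
    exact isConj_iff.2 ⟨c, hc⟩
  · obtain ⟨c, rfl⟩ := isConj_iff.1 h
    exact ⟨fun e => hs1 (conj_eq_one_iff.1 e), by rw [conj_mul, hs2, mul_one, mul_inv_cancel]⟩

theorem zSharp_sub {z : G} (hz : z ∈ zSharp G a) : z ∈ invols G :=
  mem_invols.2 ⟨(mem_zSharp.1 hz).2, hC.zGrp_sq (mem_zSharp.1 hz).1⟩

/-- Elements with the only fixed point `a` have disjoint conjugates. -/
theorem sum_conjugates_le {U : Finset G} (hU : ∀ x ∈ U, x • a = a ∧ ∀ c : Ω, x • c = c → c = a)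
    (h : G → ℝ) (h0 : ∀ g, 0 ≤ h g) (hcl : ∀ g x : G, h (g * x * g⁻¹) = h x) :
    ((Nat.card Q : ℝ) + 1) * ∑ x ∈ U, h x ≤ ∑ g : G, h g := by
  haveI := finite_points hC.setup
  letI := Fintype.ofFinite Ω
  choose g hg using fun c : Ω => exists_smul hC.setup a c
  let φ : Ω × G → G := fun p => g p.1 * p.2 * (g p.1)⁻¹
  have hinj : Set.InjOn φ ↑((Finset.univ : Finset Ω) ×ˢ U) := by
    rintro ⟨c, x⟩ hx ⟨c', x'⟩ hx' (e : g c * x * (g c)⁻¹ = g c' * x' * (g c')⁻¹)
    simp only [Finset.coe_product, Set.mem_prod, Finset.coe_univ, Set.mem_univ, true_and,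
      Finset.mem_coe] at hx hx'
    have h1 : (g c * x * (g c)⁻¹) • c = c := by
      rw [mul_smul, mul_smul, inv_smul_eq_iff.2 (hg c).symm, (hU x hx).1, hg c]
    rw [e, mul_smul, mul_smul, smul_eq_iff_eq_inv_smul] at h1
    have h2 := (hU x' hx').2 _ h1
    rw [inv_smul_eq_iff, hg] at h2
    subst h2
    exact Prod.ext rfl (mul_left_cancel (mul_right_cancel e))
  have hsum := Finset.sum_le_sum_of_subset_of_nonneg (Finset.subset_univ (((Finset.univ : Finset Ω) ×ˢ U).image φ))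
    (f := h) (fun x _ _ => h0 x)
  rw [Finset.sum_image hinj, Finset.sum_product] at hsum
  simp only [φ, hcl, Finset.sum_const, Finset.card_univ, nsmul_eq_mul,
    ← Nat.card_eq_fintype_card, card_points hC.setup] at hsum
  push_cast at hsum
  exact hsum

theorem zSharp_fix {z : G} (hz : z ∈ zSharp G a) : z • a = a ∧ ∀ c : Ω, z • c = c → c = a :=
  have hQ := hC.zGrp_le (mem_zSharp.1 hz).1
  ⟨smul_a_of_mem_Q hC.setup hQ, fun _ h => fixes_only hC.setup hQ (mem_zSharp.1 hz).2 h⟩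

theorem card_invols : (invols G).card = (Nat.card Q + 1) * (qq G a - 1) := by
  haveI := finite_points hC.setup
  letI := Fintype.ofFinite Ω
  choose g hg using fun c : Ω => exists_smul hC.setup a c
  rw [← card_zSharp hC, ← card_points hC.setup, Nat.card_eq_fintype_card, ← Finset.card_univ,
    ← Finset.card_product]
  symm
  refine Finset.card_bij (fun p _ => g p.1 * p.2 * (g p.1)⁻¹) (fun p hp => ?_) ?_ (fun u hu => ?_)
  · obtain ⟨h1, h2⟩ := mem_invols.1 (zSharp_sub hC (Finset.mem_product.1 hp).2)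
    exact mem_invols.2 ⟨fun e => h1 (conj_eq_one_iff.1 e),
      by rw [conj_mul, h2, mul_one, mul_inv_cancel]⟩
  · rintro ⟨c, x⟩ hx ⟨c', x'⟩ hx' e
    obtain ⟨-, hx⟩ := Finset.mem_product.1 hx
    obtain ⟨-, hx'⟩ := Finset.mem_product.1 hx'
    have h1 : (g c * x * (g c)⁻¹) • c = c := by
      rw [mul_smul, mul_smul, inv_smul_eq_iff.2 (hg c).symm, (zSharp_fix hC hx).1, hg c]
    rw [show g c * x * (g c)⁻¹ = g c' * x' * (g c')⁻¹ from e, mul_smul, mul_smul,
      smul_eq_iff_eq_inv_smul] at h1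
    have h2 := (zSharp_fix hC hx').2 _ h1
    rw [inv_smul_eq_iff, hg] at h2
    subst h2
    exact Prod.ext rfl (mul_left_cancel (mul_right_cancel e))
  · obtain ⟨hu1, hu2⟩ := mem_invols.1 hu
    obtain ⟨c, hc⟩ := exists_fixed_point hC.setup hu2
    refine ⟨(c, (g c)⁻¹ * u * g c), Finset.mem_product.2 ⟨Finset.mem_univ _, mem_zSharp.2 ⟨?_, ?_⟩⟩,
      by group⟩
    · refine hC.mem_zGrp.2 ⟨?_, ?_⟩
      · show ((g c)⁻¹ * u * g c) • a = a
        rw [mul_smul, mul_smul, hg, hc, inv_smul_eq_iff, hg]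
      · rw [show (g c)⁻¹ * u * g c * ((g c)⁻¹ * u * g c) = (g c)⁻¹ * (u * u) * g c by group, hu2]
        simp
    · intro e
      exact hu1 (by simpa [mul_assoc] using congrArg (fun y => g c * y * (g c)⁻¹) e)

/-- The pairs of involutions with a given product. -/
theorem count_pair {x : G} (hx1 : x ≠ 1) (hxa : x • a = a) (hx : ∀ c : Ω, x • c = c → c = a) :
    ((invols G).filter fun u : G => u * x ∈ invols G).card =
      if x * x = 1 then qq G a - 2 else 0 := by
  have key : ∀ u ∈ (invols G).filter (fun u : G => u * x ∈ invols G),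
      u ∈ zSharp G a ∧ x ∈ zGrp G a ∧ u ≠ x := by
    intro u hu
    simp only [Finset.mem_filter, mem_invols] at hu
    obtain ⟨⟨hu1, hu2⟩, hux1, hux2⟩ := hu
    have hua : u • a = a := by
      refine hx _ ?_
      have hxu : (u * x) • (u * x) • a = a := by rw [smul_smul, hux2, one_smul]
      rw [mul_smul u x a, hxa, mul_smul] at hxu
      rw [smul_eq_iff_eq_inv_smul, inv_eq_of_mul_eq_one_right hu2] at hxu
      exact hxu
    have huZ : u ∈ zGrp G a := hC.mem_zGrp.2 ⟨hua, hu2⟩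
    have huxZ : u * x ∈ zGrp G a := hC.mem_zGrp.2 ⟨mul_mem (show u ∈ stabilizer G a from hua) hxa, hux2⟩
    refine ⟨mem_zSharp.2 ⟨huZ, hu1⟩, by simpa using mul_mem (inv_mem huZ) huxZ, ?_⟩
    rintro rfl
    exact hux1 hu2
  by_cases hx2 : x * x = 1
  · rw [if_pos hx2]
    have hxZ : x ∈ zGrp G a := hC.mem_zGrp.2 ⟨hxa, hx2⟩
    have hxs : x ∈ zSharp G a := mem_zSharp.2 ⟨hxZ, hx1⟩
    rw [show (invols G).filter (fun u : G => u * x ∈ invols G) = (zSharp G a).erase x from ?_,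
      Finset.card_erase_of_mem hxs, card_zSharp hC]
    · omega
    ext u
    rw [Finset.mem_erase]
    refine ⟨fun hu => ⟨(key u hu).2.2, (key u hu).1⟩, fun ⟨hne, hu⟩ => ?_⟩
    rw [Finset.mem_filter]
    refine ⟨zSharp_sub hC hu, mem_invols.2 ⟨fun e => hne ?_, hC.zGrp_sq (mul_mem (mem_zSharp.1 hu).1 hxZ)⟩⟩
    exact (eq_inv_of_mul_eq_one_left e).trans (hC.zGrp_inv hxZ)
  · rw [if_neg hx2, Finset.card_eq_zero, Finset.eq_empty_iff_forall_notMem]
    exact fun u hu => hx2 (hC.zGrp_sq (key u hu).2.1)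

theorem count_one : ((invols G).filter fun u : G => u * 1 ∈ invols G).card = (invols G).card := by
  rw [Finset.filter_true_of_mem fun u hu => by rwa [mul_one]]

/-- A sum over pairs on a subgroup whose relevant elements have the only fixed point `a`. -/
theorem sum_count {H : Subgroup G} (ψ : ↥H → ℂ)
    (hψ : ∀ x : ↥H, ψ x ≠ 0 → (x : G) ≠ 1 → (x : G) • a = a ∧ ∀ c : Ω, (x : G) • c = c → c = a)
    (hZ : zGrp G a ≤ H) :
    ∑ x : ↥H, ψ x * (((invols G).filter fun u : G => u * x ∈ invols G).card : ℂ) =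
      ψ 1 * ((Nat.card Q + 1) * (qq G a - 1) : ℕ) +
        ((qq G a - 2 : ℕ) : ℂ) * ∑ z ∈ zSharp G a, extendByZero H ψ z := by
  have hpt : ∀ x : ↥H, ψ x * (((invols G).filter fun u : G => u * x ∈ invols G).card : ℂ) =
      (if x = 1 then ψ 1 * ((Nat.card Q + 1) * (qq G a - 1) : ℕ) else 0) +
        if (x : G) ∈ zSharp G a then ((qq G a - 2 : ℕ) : ℂ) * ψ x else 0 := by
    intro x
    by_cases hx : x = 1
    · subst hx
      rw [if_pos rfl, Subgroup.coe_one, if_neg (fun h : (1 : G) ∈ zSharp G a => (mem_zSharp.1 h).2 rfl),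
        add_zero, count_one hC, card_invols hC]
    have hx' : (x : G) ≠ 1 := fun e => hx (Subtype.ext e)
    rw [if_neg hx, zero_add]
    by_cases h0 : ψ x = 0
    · rw [h0]; simp
    obtain ⟨hxa, hxf⟩ := hψ x h0 hx'
    rw [count_pair hC hx' hxa hxf]
    by_cases h2 : (x : G) * x = 1
    · rw [if_pos h2, if_pos (mem_zSharp.2 ⟨hC.mem_zGrp.2 ⟨hxa, h2⟩, hx'⟩)]; ring
    · rw [if_neg h2, if_neg fun h => h2 (hC.zGrp_sq (mem_zSharp.1 h).1)]; simp
  rw [Finset.sum_congr rfl fun x _ => hpt x, Finset.sum_add_distrib, Finset.sum_ite_eq',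
    if_pos (Finset.mem_univ _), Finset.mul_sum]
  congr 1
  rw [← Finset.sum_filter]
  refine Finset.sum_bij (fun x _ => (x : G)) (fun x hx => (Finset.mem_filter.1 hx).2)
    (fun _ _ _ _ e => Subtype.ext e) (fun z hz => ⟨⟨z, hZ (mem_zSharp.1 hz).1⟩,
      Finset.mem_filter.2 ⟨Finset.mem_univ _, hz⟩, rfl⟩)
    (fun x _ => by rw [Char.extendByZero_coe])

/-- `D` moves an involution of `Z` equally often to each of them. -/
theorem sum_D_invol (g : G → ℂ) {z : G} (hz : z ∈ zSharp G a) :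
    ∑ d : ↥(twoPt G a t), g ((d : G)⁻¹ * z * d) =
      (Nat.card (vGrp G a t) : ℂ) * ∑ x ∈ zSharp G a, g x := by
  obtain ⟨s, r, hsr⟩ := hC.exists_link
  have hs : s ∈ zGrp G a := subset_closure hsr.1
  obtain ⟨k₀, hk₀, e₀⟩ := hC.exists_kGrp_conj hs hsr.1.2.1 (mem_zSharp.1 hz).1 (mem_zSharp.1 hz).2
  have hbij : Function.Bijective fun p : ↥(kGrp G a t) × ↥(vGrp G a t) =>
      (⟨k₀ * ((p.1 : G) * p.2)⁻¹, mul_mem (Ctx.kGrp_le G a t hk₀) (inv_mem (mul_mem
        (Ctx.kGrp_le G a t p.1.2) (Ctx.vGrp_le G a t p.2.2)))⟩ : ↥(twoPt G a t)) := by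
    refine (Nat.bijective_iff_injective_and_card _).2 ⟨fun p p' e => ?_, ?_⟩
    · have e' : (p.1 : G) * p.2 = (p'.1 : G) * p'.2 :=
        inv_injective (mul_left_cancel (congrArg Subtype.val e))
      have e1 : (p'.1 : G)⁻¹ * p.1 = (p'.2 : G) * (p.2 : G)⁻¹ := by
        rw [eq_mul_inv_iff_mul_eq, mul_assoc, e', inv_mul_cancel_left]
      have h1 := hC.kv_disjoint (mul_mem (inv_mem p'.1.2) p.1.2)
        (e1 ▸ mul_mem p'.2.2 (inv_mem p.2.2))
      have h2 : p.1 = p'.1 := Subtype.ext (inv_mul_eq_one.1 h1).symm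
      rw [h2] at e'
      exact Prod.ext h2 (Subtype.ext (mul_left_cancel e'))
    · rw [Nat.card_prod, hC.card_twoPt]
  have hKZ : Function.Bijective fun k : ↥(kGrp G a t) =>
      (⟨k * s * (k : G)⁻¹, mem_zSharp.2 ⟨hC.conj_mem_zGrp (twoPt_le (Ctx.kGrp_le G a t k.2)) hs,
        fun e => hsr.1.2.1 (conj_eq_one_iff.1 e)⟩⟩ : ↥(zSharp G a)) :=
    ⟨fun k k' e => Subtype.ext (hC.kGrp_conj_inj k.2 k'.2 hs hsr.1.2.1 (congrArg Subtype.val e)),
      fun x => by
        obtain ⟨k, hk, e⟩ := hC.exists_kGrp_conj hs hsr.1.2.1 (mem_zSharp.1 x.2).1 (mem_zSharp.1 x.2).2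
        exact ⟨⟨k, hk⟩, Subtype.ext e⟩⟩
  rw [← (Equiv.ofBijective _ hbij).sum_comp, Fintype.sum_prod_type,
    ← Finset.sum_coe_sort (zSharp G a), ← (Equiv.ofBijective _ hKZ).sum_comp, Finset.mul_sum]
  refine Finset.sum_congr rfl fun k _ => ?_
  simp only [Equiv.ofBijective_apply]
  rw [Nat.card_eq_fintype_card, ← Finset.card_univ, ← nsmul_eq_mul, ← Finset.sum_const]
  refine Finset.sum_congr rfl fun c _ => congrArg g ?_
  have hcs : (c : G) * s * (c : G)⁻¹ = s := by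
    rw [(hC.link_vGrp hsr c.2).1.eq, mul_inv_cancel_right]
  rw [← e₀]
  calc (k₀ * ((k : G) * c)⁻¹)⁻¹ * (k₀ * s * k₀⁻¹) * (k₀ * ((k : G) * c)⁻¹)
      = k * ((c : G) * s * (c : G)⁻¹) * (k : G)⁻¹ := by group
    _ = k * s * (k : G)⁻¹ := by rw [hcs]

end Cfsg.Agent.RankOneClass.Odd
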