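import Cfsg.Agent.RankOneClass.Odd.Weights
import Cfsg.Agent.RankOneClass.Odd.Family
import Cfsg.Agent.RankOneClass.Odd.Setting
import Cfsg.Agent.RankOneClass.Odd.Numeric

/-!
# The family over the orbit of a linear character of the odd part and its conjugate
-/

set_option autoImplicit false
set_option linter.unusedSectionVars false

namespace Cfsg.Agent.RankOneClass.Odd

open Subgroup MulAction Cfsg.Agent.RankOne Cfsg.Agent.Zassenhaus
open scoped ComplexConjugate _root_.Classical

universe u v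

variable {G : Type u} {Ω : Type v} [Group G] [Fintype G] [MulAction G Ω]

/-- The standing hypotheses on the decomposition of `Q`. -/
structure Cfg (a : Ω) (t : G) (Q S O : Subgroup G) : Prop where
  ctx : Ctx G Ω a t Q
  ind : Smaller G Ω
  dec : Dec Q S O (twoPt G a t)
  zle : zGrp G a ≤ S

variable {a : Ω} {t : G} {Q S O : Subgroup G} (hc : Cfg a t Q S O)
include hc

theorem Cfg.pair : CentPair S (zGrp G a) := centPair hc.ctx hc.dec hc.zle

theorem Cfg.lone {μ : IrrCharacter ↥O} (hμ : (μ : ↥O → ℂ) ≠ fun _ => 1) :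
    ∀ d ∈ stabC hc.dec.normO μ, d ≠ 1 → Lone G a (d : G) := fun _ hd hd1 =>
  lone_of_fixed hc.ctx hc.ind hc.dec.O_le hc.dec.odd hc.dec.normO hμ hd hd1

theorem Cfg.stab_facts {μ : IrrCharacter ↥O} (hμ : (μ : ↥O → ℂ) ≠ fun _ => 1) :
    StabVal (qq G a) (Nat.card (stabC hc.dec.normO μ)) ∧ Odd (Nat.card (stabC hc.dec.normO μ)) ∧
      Nat.card (stabC hc.dec.normO μ) ≤ Nat.card (vGrp G a t) ∧
      (Nat.card (stabC hc.dec.normO μ) = 1 ∨ (Nat.card (stabC hc.dec.normO μ)).Prime) := by
  obtain ⟨hle, hcs⟩ := card_stab hc.ctx _ (hc.lone hμ)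
  have hodd : Odd (Nat.card (stabC hc.dec.normO μ)) :=
    hc.ctx.setup.odd_card.of_dvd_nat (card_subgroup_dvd_card _)
  refine ⟨?_, hodd, hle, hcs.imp_right And.left⟩
  rcases hcs with h | ⟨hp, hq⟩
  · exact Or.inl h
  · refine Or.inr ⟨?_, hq⟩
    have := hp.two_le
    rcases hodd with ⟨k, hk⟩
    omega

theorem Cfg.conj_ne {μ : IrrCharacter ↥O} (hμ : (μ : ↥O → ℂ) ≠ fun _ => 1)
    (d : ↥(twoPt G a t)) : actC hc.dec.normO d μ ≠ Char.conjIrr μ := by
  intro e
  have e2 : actC hc.dec.normO (d * d) μ = μ := by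
    rw [actC_mul, e, actC_conjIrr, e, Char.conjIrr_conjIrr]
  have hd : d ∈ stabC hc.dec.normO μ := by
    obtain ⟨k, hk⟩ := hc.ctx.setup.odd_card.of_dvd_nat
      (orderOf_dvd_natCard (G := ↥(twoPt G a t)) d)
    have e3 : d = (d * d) ^ (k + 1) := by
      rw [← pow_two, ← pow_mul, show 2 * (k + 1) = orderOf d + 1 by omega, pow_succ,
        pow_orderOf_eq_one, one_mul]
    rw [e3]
    exact pow_mem (show d * d ∈ stabC hc.dec.normO μ from e2) _
  rw [(mem_stabC _).1 hd] at e
  refine hμ (Char.real_irr_eq_one hc.dec.odd μ.2 fun g => ?_)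
  have := congrFun (congrArg Subtype.val e) g
  rw [Char.conjIrr_apply] at this
  exact Complex.conj_eq_iff_im.1 this.symm

/-- `λ` or its conjugate. -/
noncomputable def selC {H : Type u} [Group H] [Finite H] (lam : IrrCharacter H) (b : Bool) :
    IrrCharacter H :=
  bif b then Char.conjIrr lam else lam

/-- The generators of the family. -/
noncomputable def genMem (lam : IrrCharacter ↥O)
    (p : IrrCharacter ↥S × ↥(twoPt G a t) × Bool) : IrrCharacter ↥Q :=
  actC (frame hc.ctx).norm p.2.1 (hc.dec.chr p.1 (selC lam p.2.2))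

/-- The family. -/
noncomputable def members (lam : IrrCharacter ↥O) : Finset (IrrCharacter ↥Q) :=
  ((regSet hc.dec (stabC hc.dec.normO lam)) ×ˢ (Finset.univ : Finset (↥(twoPt G a t) × Bool))).image
    (genMem hc lam)

variable {lam : IrrCharacter ↥O} (hlam : cdeg lam = 1) (hne : (lam : ↥O → ℂ) ≠ fun _ => 1)
include hlam hne

omit hlam in
theorem Cfg.sel_ne (b : Bool) : (selC lam b : ↥O → ℂ) ≠ fun _ => 1 := by
  cases b
  · exact hne
  · intro e
    exact hne (funext fun y => by
      have := congrFun e y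
      simpa [selC] using congrArg (starRingEnd ℂ) this)

omit hlam in
theorem Cfg.sel_stab (b : Bool) :
    stabC hc.dec.normO (selC lam b) = stabC hc.dec.normO lam := by
  cases b
  · rfl
  · ext d
    show actC hc.dec.normO d (Char.conjIrr lam) = Char.conjIrr lam ↔ actC hc.dec.normO d lam = lam
    rw [actC_conjIrr]
    exact ⟨fun e => Function.LeftInverse.injective (g := Char.conjIrr) Char.conjIrr_conjIrr e,
      congrArg _⟩

omit hne in
theorem Cfg.cdeg_gen (p : IrrCharacter ↥S × ↥(twoPt G a t) × Bool) :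
    cdeg (genMem hc lam p) = cdeg p.1 := by
  rw [genMem, cdeg_actC, hc.dec.cdeg_chr]
  rcases p with ⟨η, d, _ | _⟩ <;> simp [selC, cdeg_conjIrr, hlam]

omit hlam in
theorem Cfg.mem_members {θ : IrrCharacter ↥Q} :
    θ ∈ members hc lam ↔ ∃ η ∈ regSet hc.dec (stabC hc.dec.normO lam), ∃ d b,
      genMem hc lam (η, d, b) = θ := by
  simp only [members, Finset.mem_image, Finset.mem_product, Finset.mem_univ, and_true, Prod.exists]
  exact ⟨fun ⟨η, d, b, h1, h2⟩ => ⟨η, h1, d, b, h2⟩, fun ⟨η, h1, d, b, h2⟩ => ⟨η, d, b, h1, h2⟩⟩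

omit hlam in
theorem Cfg.gen_eq {η η' : IrrCharacter ↥S} {d d' : ↥(twoPt G a t)} {b b' : Bool}
    (e : genMem hc lam (η, d, b) = genMem hc lam (η', d', b')) :
    b = b' ∧ d'⁻¹ * d ∈ stabC hc.dec.normO lam ∧ actC hc.dec.normS (d'⁻¹ * d) η = η' := by
  have e' := congrArg (actC (frame hc.ctx).norm d'⁻¹) e
  simp only [genMem, actC_inv_cancel] at e'
  rw [← actC_mul, hc.dec.actC_chr, hc.dec.chr_inj] at e'
  obtain ⟨e1, e2⟩ := e'
  have hb : b = b' := by
    by_contra hbb
    have hh : selC lam b' = Char.conjIrr (selC lam b) := by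
      cases b <;> cases b' <;> simp_all [selC, Char.conjIrr_conjIrr]
    rw [hh] at e2
    exact hc.conj_ne (hc.sel_ne hne b) _ e2
  subst hb
  exact ⟨rfl, hc.sel_stab hne b ▸ (mem_stabC hc.dec.normO).2 e2, e1⟩

omit hlam in
theorem Cfg.fam : Fam (frame hc.ctx) (members hc lam) where
  free θ hθ d hd := by
    obtain ⟨η, hη, c, b, rfl⟩ := (hc.mem_members hne).1 hθ
    rw [genMem, ← actC_mul] at hd
    obtain ⟨-, h1, h2⟩ := hc.gen_eq hne (η := η) (η' := η) (d := d * c) (d' := c) (b := b) (b' := b) hd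
    have := (mem_regSet hc.dec).1 hη _ h1 h2
    exact (conj_eq_one_iff (a := c⁻¹)).1 (by rw [inv_inv, mul_assoc]; exact this)
  stable θ hθ d := by
    obtain ⟨η, hη, c, b, rfl⟩ := (hc.mem_members hne).1 hθ
    exact (hc.mem_members hne).2 ⟨η, hη, d * c, b, actC_mul _ d c _⟩
  conj_mem θ hθ := by
    obtain ⟨η, hη, c, b, rfl⟩ := (hc.mem_members hne).1 hθ
    refine (hc.mem_members hne).2 ⟨Char.conjIrr η, conj_mem_regSet hc.dec hη, c, !b, ?_⟩
    rw [genMem, genMem, ← actC_conjIrr, hc.dec.conjIrr_chr]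
    cases b <;> simp [selC, Char.conjIrr_conjIrr]
  nonreal θ hθ d := by
    obtain ⟨η, hη, c, b, rfl⟩ := (hc.mem_members hne).1 hθ
    intro e
    simp only [genMem] at e
    rw [← actC_conjIrr, ← actC_mul] at e
    have e' := congrArg (actC (frame hc.ctx).norm c⁻¹) e
    rw [← actC_mul, actC_inv_cancel, hc.dec.conjIrr_chr, hc.dec.actC_chr, hc.dec.chr_inj] at e'
    exact hc.conj_ne (hc.sel_ne hne b) _ e'.2

omit hlam in
/-- A member lies over the orbit of `λ` or of its conjugate. -/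
theorem Cfg.orbit_of_mem {η : IrrCharacter ↥S} {μ : IrrCharacter ↥O}
    (h : hc.dec.chr η μ ∈ members hc lam) : ∃ d b, actC hc.dec.normO d (selC lam b) = μ := by
  obtain ⟨η', -, d, b, e⟩ := (hc.mem_members hne).1 h
  simp only [genMem] at e
  rw [hc.dec.actC_chr, hc.dec.chr_inj] at e
  exact ⟨d, b, e.2⟩

/-- Each row comes from `2 / o` times as many characters of `S`. -/
theorem Cfg.sum_rows (g : ℕ → ℕ) :
    Nat.card (stabC hc.dec.normO lam) * ∑ i : Idx (members hc lam), g ((hc.fam hne).rows.f i) =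
      2 * ∑ η ∈ regSet hc.dec (stabC hc.dec.normO lam), g (cdeg η) := by
  set L := stabC hc.dec.normO lam
  have hD : 0 < Nat.card (twoPt G a t) := Nat.card_pos
  refine Nat.eq_of_mul_eq_mul_left hD ?_
  have h1 : Nat.card (twoPt G a t) * ∑ i : Idx (members hc lam), g ((hc.fam hne).rows.f i) =
      ∑ θ ∈ members hc lam, g (cdeg θ) := by
    rw [(hc.fam hne).sum_T (fun θ => g (cdeg θ))]
    simp only [cdeg_actC, Finset.sum_const, Finset.card_univ, ← Nat.card_eq_fintype_card,
      smul_eq_mul, Finset.mul_sum]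
    rfl
  have h2 : ∑ p ∈ regSet hc.dec L ×ˢ (Finset.univ : Finset (↥(twoPt G a t) × Bool)),
      g (cdeg (genMem hc lam p)) = Nat.card L * ∑ θ ∈ members hc lam, g (cdeg θ) := by
    rw [← Finset.sum_fiberwise_of_maps_to (t := members hc lam) (g := genMem hc lam)
      fun p hp => Finset.mem_image_of_mem _ hp, Finset.mul_sum]
    refine Finset.sum_congr rfl fun θ hθ => ?_
    rw [Finset.sum_congr rfl fun p hp => by rw [(Finset.mem_filter.1 hp).2], Finset.sum_const,
      smul_eq_mul]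
    congr 1
    obtain ⟨η, hη, d, b, rfl⟩ := (hc.mem_members hne).1 hθ
    rw [Nat.card_eq_fintype_card, ← Finset.card_univ]
    symm
    refine Finset.card_bij (fun (c : ↥L) _ => (actC hc.dec.normS c.1 η, d * c.1⁻¹, b)) ?_ ?_ ?_
    · intro c _
      refine Finset.mem_filter.2 ⟨Finset.mem_product.2 ⟨actC_mem_regSet hc.dec hη c.2,
        Finset.mem_univ _⟩, ?_⟩
      have hsel : actC hc.dec.normO c.1 (selC lam b) = selC lam b := by
        rw [← mem_stabC hc.dec.normO, hc.sel_stab hne]; exact c.2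
      calc genMem hc lam (actC hc.dec.normS c.1 η, d * c.1⁻¹, b)
          = actC (frame hc.ctx).norm (d * c.1⁻¹) (hc.dec.chr (actC hc.dec.normS c.1 η)
              (actC hc.dec.normO c.1 (selC lam b))) := by rw [hsel]; rfl
        _ = _ := by rw [← hc.dec.actC_chr (frame hc.ctx).norm, ← actC_mul, inv_mul_cancel_right]; rfl
    · intro c _ c' _ e
      exact Subtype.ext (inv_injective (mul_left_cancel (congrArg (fun p => p.2.1) e)))
    · rintro ⟨η', d', b'⟩ hp
      obtain ⟨-, e⟩ := Finset.mem_filter.1 hp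
      obtain ⟨hb, hmem, hη'⟩ := hc.gen_eq hne e.symm
      refine ⟨⟨d'⁻¹ * d, hmem⟩, Finset.mem_univ _, ?_⟩
      simp only [hη', mul_inv_rev, inv_inv, mul_inv_cancel_left, hb]
  rw [Finset.sum_product] at h2
  simp only [hc.cdeg_gen hlam, Finset.sum_const, Finset.card_univ, Fintype.card_prod,
    Fintype.card_bool, smul_eq_mul, ← Nat.card_eq_fintype_card] at h2
  rw [← h1] at h2
  calc Nat.card (twoPt G a t) * (Nat.card L * ∑ i : Idx (members hc lam), g ((hc.fam hne).rows.f i))
      = Nat.card L * (Nat.card (twoPt G a t) *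
          ∑ i : Idx (members hc lam), g ((hc.fam hne).rows.f i)) := by ring
    _ = _ := h2.symm
    _ = _ := by
      rw [Finset.mul_sum, Finset.mul_sum, Nat.card_prod, Nat.card_eq_fintype_card (α := Bool),
        Fintype.card_bool]
      exact Finset.sum_congr rfl fun η _ => by ring

end Cfsg.Agent.RankOneClass.Odd
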