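import Cfsg.Agent.FTCons.RankOne
import Cfsg.Agent.RankOne.Centralized
import Cfsg.Agent.S0205
import Mathlib.FieldTheory.Fixed

/-!
# Elements of the two-point stabiliser centralising an odd element of `Q`

They centralise exactly one involution fixing the point (by induction on the group order), and so
the stabiliser of a character of the odd part is trivial or of prime order `k` with `q = 2 ^ k`.
-/

set_option autoImplicit false
set_option linter.unusedSimpArgs false

namespace Cfsg.Agent.RankOneClass.Odd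

open Subgroup MulAction Cfsg.Agent.RankOne

universe u v

/-- The induction hypothesis. -/
def Smaller (G : Type u) [Group G] (Ω : Type v) : Prop :=
  ∀ (G' : Type u) (Ω' : Type v) [Group G'] [Finite G'] [MulAction G' Ω'] [FaithfulSMul G' Ω']
    (a' : Ω') (t' : G') (Q' : Subgroup G'), Nat.card G' < Nat.card G →
    Cfsg.IsRankOneSetup G' Ω' a' t' Q' →
    (∃ x y : G', x ≠ 1 ∧ y ≠ 1 ∧ x ≠ y ∧ x * x = 1 ∧ y * y = 1 ∧ x * y = y * x) → IsPGroup 2 Q'

variable {G : Type u} {Ω : Type v} [Group G] [Finite G] [MulAction G Ω] [FaithfulSMul G Ω]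
  {a : Ω} {t : G} {Q : Subgroup G}

omit [Finite G] [FaithfulSMul G Ω] in
theorem exists_third_of_cent (hS : Cfsg.IsRankOneSetup G Ω a t Q) {d y : G}
    (hd : d ∈ twoPt G a t) (hy : y ∈ Q) (hy1 : y ≠ 1) (hc : Commute d y) :
    ∃ c : Ω, c ≠ a ∧ c ≠ t • a ∧ ∀ x ∈ ({d} : Set G), x • c = c := by
  refine ⟨y • (t • a), Q_smul_ne hS hy (t_smul_ne hS), fun h => hy1 (eq_one_of_mem hS hy h), ?_⟩
  rintro x rfl
  rw [← mul_smul, hc.eq, mul_smul, (mem_twoPt.mp hd).2]

omit [FaithfulSMul G Ω] in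
theorem exists_cent_invol (hS : Cfsg.IsRankOneSetup G Ω a t Q) {d y : G}
    (hd : d ∈ twoPt G a t) (hy : y ∈ Q) (hy1 : y ≠ 1) (hc : Commute d y) :
    ∃ s ∈ Cfsg.involutionsIn (stabilizer G a : Set G), Commute d s := by
  obtain ⟨s, hs, hsI⟩ := exists_invol_cent hS (X := {d}) (by rintro x rfl; exact hd)
    (exists_third_of_cent hS hd hy hy1 hc)
  exact ⟨s, hsI, mem_centralizer_singleton_iff.mp hs |>.symm⟩

set_option maxHeartbeats 800000 in
/-- The centraliser of `d` on its fixed points is a smaller set-up. -/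
theorem cent_invol_unique (hS : Cfsg.IsRankOneSetup G Ω a t Q)
    (h2G : ∃ x y : G, x ≠ 1 ∧ y ≠ 1 ∧ x ≠ y ∧ x * x = 1 ∧ y * y = 1 ∧ x * y = y * x)
    (hind : Smaller G Ω) {d y : G}
    (hd : d ∈ twoPt G a t) (hd1 : d ≠ 1) (hy : y ∈ Q) (hy1 : y ≠ 1) (hodd : Odd (orderOf y))
    (hc : Commute d y) {s s' : G} (hs : s ∈ Cfsg.involutionsIn (stabilizer G a : Set G))
    (hs' : s' ∈ Cfsg.involutionsIn (stabilizer G a : Set G)) (hds : Commute d s)
    (hds' : Commute d s') : s = s' := by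
  classical
  by_contra hne
  set X : Set G := {d} with hX
  have hXt : ∀ x ∈ X, x ∈ twoPt G a t := fun x hx => by rw [Set.mem_singleton_iff.mp hx]; exact hd
  have h3 := exists_third_of_cent hS hd hy hy1 hc
  set C := centralizer X with hC
  have hmemC : ∀ {g : G}, Commute d g → g ∈ C := fun h => mem_centralizer_singleton_iff.mpr h.eq.symm
  have hstable : ∀ g : ↥C, ∀ c : Ω, d • c = c → d • ((g : G) • c) = (g : G) • c := fun g c h =>
    mem_fixed_smul g.2 (fun x hx => by rw [Set.mem_singleton_iff.mp hx]; exact h) d rfl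
  letI : MulAction ↥C {c : Ω // d • c = c} :=
    { smul := fun g c => ⟨(g : G) • c.1, hstable g c.1 c.2⟩
      one_smul := fun c => Subtype.ext (one_smul G c.1)
      mul_smul := fun g h c => Subtype.ext (mul_smul (g : G) (h : G) c.1) }
  have hval : ∀ (g : ↥C) (c : {c : Ω // d • c = c}), ((g • c : {c : Ω // d • c = c}) : Ω) = (g : G) • c.1 :=
    fun _ _ => rfl
  set φ := MulAction.toPermHom ↥C {c : Ω // d • c = c} with hφ
  set N := φ.ker with hN
  have hNmem : ∀ {g : ↥C}, g ∈ N ↔ ∀ c : {c : Ω // d • c = c}, g • c = c := fun {g} => by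
    rw [hN, MonoidHom.mem_ker]; exact Equiv.ext_iff
  letI : MulAction (↥C ⧸ N) {c : Ω // d • c = c} :=
    MulAction.compHom _ (QuotientGroup.kerLift φ)
  have hq : ∀ (g : ↥C) (c : {c : Ω // d • c = c}), (QuotientGroup.mk g : ↥C ⧸ N) • c = g • c :=
    fun _ _ => rfl
  haveI : FaithfulSMul (↥C ⧸ N) {c : Ω // d • c = c} := ⟨fun {g h} hgh =>
    QuotientGroup.kerLift_injective φ (Equiv.ext hgh)⟩
  obtain ⟨hda, hdb⟩ := mem_twoPt.mp hd
  set a' : {c : Ω // d • c = c} := ⟨a, hda⟩ with ha'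
  obtain ⟨u, huC, hu2, hu1, hua⟩ := exists_swap_invol hS hXt h3
  set t' : ↥C ⧸ N := QuotientGroup.mk ⟨u, huC⟩ with ht'
  have hb' : t' • a' = (⟨t • a, hdb⟩ : {c : Ω // d • c = c}) := by
    rw [ht', hq]; exact Subtype.ext hua
  set Q' : Subgroup (↥C ⧸ N) := (Q.subgroupOf C).map (QuotientGroup.mk' N) with hQ'
  have hQmem : ∀ {g : ↥C}, (g : G) ∈ Q → (QuotientGroup.mk g : ↥C ⧸ N) ∈ Q' := fun {g} h =>
    mem_map.mpr ⟨g, mem_subgroupOf.mpr h, rfl⟩
  have hfaith : ∀ {g : ↥C}, (g : G) ∈ Q → g ∈ N → g = 1 := fun {g} h hg =>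
    Subtype.ext (eq_one_of_mem hS h (congrArg Subtype.val (hNmem.mp hg ⟨t • a, hdb⟩)))
  have hstab : ∀ {g : ↥C}, (QuotientGroup.mk g : ↥C ⧸ N) • a' = a' ↔ (g : G) ∈ stabilizer G a :=
    fun {g} => by rw [hq, Subtype.ext_iff, hval]; rfl
  have hsQ := mem_I_Q hS hs
  have hsQ' := mem_I_Q hS hs'
  have hne_mk : ∀ {g : ↥C}, (g : G) ∈ Q → g ≠ 1 → (QuotientGroup.mk g : ↥C ⧸ N) ≠ 1 :=
    fun {g} h h1 e => h1 (hfaith h ((QuotientGroup.eq_one_iff g).mp e))
  have hodd' : Odd (Nat.card ↥(stabilizer (↥C ⧸ N) a' ⊓ stabilizer (↥C ⧸ N) (t' • a'))) := by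
    have hle : stabilizer (↥C ⧸ N) a' ⊓ stabilizer (↥C ⧸ N) (t' • a') ≤
        ((twoPt G a t).subgroupOf C).map (QuotientGroup.mk' N) := by
      intro g hg
      obtain ⟨g, rfl⟩ := QuotientGroup.mk_surjective g
      obtain ⟨h1, h2⟩ := mem_inf.mp hg
      refine mem_map.mpr ⟨g, mem_subgroupOf.mpr (mem_inf.mpr ⟨hstab.mp h1, ?_⟩), rfl⟩
      rw [mem_stabilizer_iff, hb', hq] at h2
      exact congrArg Subtype.val h2
    refine hS.odd_card.of_dvd_nat ((card_dvd_of_le hle).trans ((card_map_dvd _ _).trans ?_))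
    exact Subgroup.card_comap_dvd_of_injective _ C.subtype C.subtype_injective
  have hsetup : Cfsg.IsRankOneSetup (↥C ⧸ N) {c : Ω // d • c = c} a' t' Q' := by
    refine ⟨is_two_pretransitive_iff.mpr ?_, ?_, ?_, ?_, ?_, ?_, ?_, ?_, ?_, hodd'⟩
    · intro b₁ b₂ c₁ c₂ hb hc'
      have hf : ∀ c : {c : Ω // d • c = c}, ∀ x ∈ X, x • (c : Ω) = c := fun c x hx => by
        rw [Set.mem_singleton_iff.mp hx]; exact c.2
      obtain ⟨g, hg, hga, hgb⟩ := cent_pairs hS hXt h3 (hf b₁) (hf b₂) (fun e => hb (Subtype.ext e))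
      obtain ⟨g', hg', hga', hgb'⟩ :=
        cent_pairs hS hXt h3 (hf c₁) (hf c₂) (fun e => hc' (Subtype.ext e))
      refine ⟨QuotientGroup.mk ⟨g' * g⁻¹, mul_mem hg' (inv_mem hg)⟩, ?_, ?_⟩
      · rw [hq]; refine Subtype.ext ?_
        rw [hval]; show (g' * g⁻¹) • (b₁ : Ω) = c₁
        rw [mul_smul, ← hga, inv_smul_smul, hga']
      · rw [hq]; refine Subtype.ext ?_
        rw [hval]; show (g' * g⁻¹) • (b₂ : Ω) = c₂
        rw [mul_smul, ← hgb, inv_smul_smul, hgb']
    · rw [ht', ← QuotientGroup.mk_mul,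
        show (⟨u, huC⟩ * ⟨u, huC⟩ : ↥C) = 1 from Subtype.ext hu2, QuotientGroup.mk_one]
    · intro e
      rw [e, one_smul] at hb'
      exact t_smul_ne hS (congrArg Subtype.val hb').symm
    · intro e
      rw [mem_stabilizer_iff, hb'] at e
      exact t_smul_ne hS (congrArg Subtype.val e)
    · rintro g hg
      obtain ⟨g, hg', rfl⟩ := mem_map.mp hg
      exact hstab.mpr (hS.le (mem_subgroupOf.mp hg'))
    · intro h hh x hx
      obtain ⟨h, rfl⟩ := QuotientGroup.mk_surjective h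
      obtain ⟨x, hx', rfl⟩ := mem_map.mp hx
      refine mem_map.mpr ⟨h * x * h⁻¹, mem_subgroupOf.mpr ?_, by simp⟩
      exact hS.conj_mem _ (hstab.mp hh) _ (mem_subgroupOf.mp hx')
    · refine (Subgroup.eq_bot_iff_forall _).mpr fun g hg => ?_
      obtain ⟨h1, h2⟩ := mem_inf.mp hg
      obtain ⟨g, hg', rfl⟩ := mem_map.mp h1
      rw [mem_stabilizer_iff, hb', QuotientGroup.mk'_apply, hq] at h2
      rw [show g = 1 from Subtype.ext (eq_one_of_mem hS (mem_subgroupOf.mp hg')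
        (congrArg Subtype.val h2)), map_one]
    · refine le_antisymm (sup_le ?_ inf_le_left) fun g hg => ?_
      · intro g hg
        obtain ⟨g, hg', rfl⟩ := mem_map.mp hg
        exact hstab.mpr (hS.le (mem_subgroupOf.mp hg'))
      obtain ⟨g, rfl⟩ := QuotientGroup.mk_surjective g
      have hga : (g : G) • a = a := hstab.mp hg
      obtain ⟨q, hq', hqb⟩ := cent_Q_trans hS hXt (c := (g : G) • (t • a))
        (fun x hx => by rw [Set.mem_singleton_iff.mp hx]; exact hstable g _ hdb)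
        (fun e => t_smul_ne hS (smul_left_cancel (g : G) (e.trans hga.symm)))
      set q' : ↥C := ⟨q, hq'.1⟩
      rw [show g = q' * (q'⁻¹ * g) by rw [mul_inv_cancel_left], QuotientGroup.mk_mul]
      refine mul_mem_sup (hQmem hq'.2) (mem_inf.mpr ⟨?_, ?_⟩)
      · exact hstab.mpr (mul_mem (inv_mem (hS.le hq'.2)) hga)
      · rw [mem_stabilizer_iff, hb', hq]
        refine Subtype.ext ?_
        rw [hval]; show (q⁻¹ * (g : G)) • (t • a) = t • a
        rw [mul_smul, ← hqb, inv_smul_smul]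
    · refine even_iff_two_dvd.mpr ?_
      have h := Subgroup.orderOf_dvd_natCard Q' (hQmem (g := ⟨s, hmemC hds⟩) hsQ)
      rwa [orderOf_eq_prime (p := 2) (by
        rw [pow_two, ← QuotientGroup.mk_mul]
        exact congrArg QuotientGroup.mk (Subtype.ext hs.2.2 : (⟨s, hmemC hds⟩ : ↥C) * _ = 1))
        (hne_mk hsQ fun e => hs.2.1 (congrArg Subtype.val e))] at h
  have hlt : Nat.card (↥C ⧸ N) < Nat.card G := by
    have hd' : (⟨d, hmemC (Commute.refl d)⟩ : ↥C) ∈ N := hNmem.mpr fun c => Subtype.ext c.2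
    have hN1 : N ≠ ⊥ := by
      intro e
      rw [e, mem_bot] at hd'
      exact hd1 (congrArg Subtype.val hd')
    calc Nat.card (↥C ⧸ N) = N.index := rfl
      _ < Nat.card ↥C := by
        rw [← N.index_mul_card]
        exact lt_mul_of_one_lt_right (Nat.pos_of_ne_zero N.index_ne_zero_of_finite)
          ((one_lt_card_iff_ne_bot N).mpr hN1)
      _ ≤ Nat.card G := card_le_card_group C
  have h2 : ∃ x y : ↥C ⧸ N, x ≠ 1 ∧ y ≠ 1 ∧ x ≠ y ∧ x * x = 1 ∧ y * y = 1 ∧ x * y = y * x := by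
    set g : ↥C := ⟨s, hmemC hds⟩
    set g' : ↥C := ⟨s', hmemC hds'⟩
    refine ⟨QuotientGroup.mk g, QuotientGroup.mk g', hne_mk hsQ fun e => hs.2.1 (congrArg Subtype.val e),
      hne_mk hsQ' fun e => hs'.2.1 (congrArg Subtype.val e), fun e => hne ?_, ?_, ?_, ?_⟩
    · have hg : g⁻¹ * g' ∈ N := QuotientGroup.eq.mp e
      have := hfaith (g := g⁻¹ * g') (mul_mem (inv_mem hsQ) hsQ') hg
      exact congrArg Subtype.val (inv_mul_eq_one.mp this)
    · rw [← QuotientGroup.mk_mul, show g * g = 1 from Subtype.ext hs.2.2, QuotientGroup.mk_one]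
    · rw [← QuotientGroup.mk_mul, show g' * g' = 1 from Subtype.ext hs'.2.2, QuotientGroup.mk_one]
    · rw [← QuotientGroup.mk_mul, ← QuotientGroup.mk_mul]
      exact congrArg QuotientGroup.mk (Subtype.ext (invol_central hS h2G hs hsQ') : g * g' = g' * g)
  have hp := hind (↥C ⧸ N) {c : Ω // d • c = c} a' t' Q' hlt hsetup h2
  set g : ↥C := ⟨y, hmemC hc⟩
  obtain ⟨k, hk⟩ := hp ⟨_, hQmem (g := g) hy⟩
  have hk' : (QuotientGroup.mk g : ↥C ⧸ N) ^ 2 ^ k = 1 := congrArg Subtype.val hk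
  have hdiv : orderOf (QuotientGroup.mk g : ↥C ⧸ N) ∣ orderOf y := by
    have h := orderOf_map_dvd (QuotientGroup.mk' N) g
    rwa [← Subgroup.orderOf_coe g] at h
  have h1 : orderOf (QuotientGroup.mk g : ↥C ⧸ N) = 1 :=
    Nat.eq_one_of_dvd_coprimes (Nat.Coprime.pow_right k (Nat.coprime_two_right.mpr hodd))
      hdiv (orderOf_dvd_of_pow_eq_one hk')
  exact hne_mk (g := g) hy (fun e => hy1 (congrArg Subtype.val e)) (orderOf_eq_one_iff.mp h1)

/-- A group acting on a finite field with fixed sets `{0, 1}`. -/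
theorem card_acting_field {R : Type*} [Field R] [Finite R] {L : Type*} [Group L] [Finite L]
    (θ : L →* (R ≃+* R)) (hfix : ∀ d : L, d ≠ 1 → ∀ r : R, θ d r = r → r = 0 ∨ r = 1)
    (h3 : 3 ≤ Nat.card R) :
    Nat.card L = 1 ∨ ((Nat.card L).Prime ∧ Nat.card R = 2 ^ Nat.card L) := by
  classical
  have hinj : Function.Injective θ := by
    refine (injective_iff_map_eq_one θ).mpr fun d hd => by_contra fun hd1 => ?_
    have hall : ∀ r : R, r = 0 ∨ r = 1 := fun r => hfix d hd1 r (by rw [hd]; rfl)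
    have : Nat.card R ≤ 2 := by
      have := Fintype.ofFinite R
      rw [Nat.card_eq_fintype_card]
      calc Fintype.card R = (Finset.univ : Finset R).card := rfl
        _ ≤ ({0, 1} : Finset R).card := Finset.card_le_card fun r _ => by simpa using hall r
        _ ≤ 2 := Finset.card_le_two
    omega
  by_cases hL : Nat.card L = 1
  · exact Or.inl hL
  right
  haveI : Finite (R ≃+* R) :=
    Finite.of_injective (fun σ : R ≃+* R => (σ : R → R)) DFunLike.coe_injective
  haveI : IsCyclic (R ≃+* R) := FTCons.isCyclic_ringAut R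
  haveI : IsCyclic L := isCyclic_of_injective θ hinj
  have hkey : ∀ d : L, d ≠ 1 → Nat.card R = 2 ^ orderOf d := by
    intro d hd
    set σ := θ d with hσ
    let Γ : Subgroup (R ≃+* R) := zpowers σ
    have := Fintype.ofFinite ↥Γ
    have hE : ∀ r : R, r ∈ FixedPoints.subfield ↥Γ R ↔ (r = 0 ∨ r = 1) := by
      intro r
      constructor
      · exact fun h => hfix d hd r (h ⟨σ, mem_zpowers σ⟩)
      · rintro (rfl | rfl) g
        · exact map_zero (g : R ≃+* R)
        · exact map_one (g : R ≃+* R)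
    have hcard : Nat.card ↥(FixedPoints.subfield ↥Γ R) = 2 := by
      rw [Nat.card_congr (Equiv.subtypeEquivRight hE), ← Finset.card_pair (zero_ne_one (α := R)),
        ← Nat.card_eq_finsetCard]
      exact Nat.card_congr (Equiv.subtypeEquivRight fun r => by simp)
    have h := Module.natCard_eq_pow_finrank (K := ↥(FixedPoints.subfield ↥Γ R)) (V := R)
    rw [hcard, FixedPoints.finrank_eq_card, ← Nat.card_eq_fintype_card] at h
    rw [h, Nat.card_zpowers, hσ, orderOf_injective θ hinj]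
  obtain ⟨g, hg⟩ := IsCyclic.exists_ofOrder_eq_natCard (α := L)
  have hg1 : g ≠ 1 := fun e => hL (by rw [← hg, e, orderOf_one])
  refine ⟨?_, hg ▸ hkey g hg1⟩
  obtain ⟨p, hp, hdvd⟩ := Nat.exists_prime_and_dvd hL
  haveI := Fact.mk hp
  obtain ⟨x, hx⟩ := exists_prime_orderOf_dvd_card' p hdvd
  have h1 := hkey x (fun e => hp.ne_one (by rw [← hx, e, orderOf_one]))
  rw [hkey g hg1, hg, hx] at h1
  rw [Nat.pow_right_injective le_rfl h1]
  exact hp

end Cfsg.Agent.RankOneClass.Odd
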