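import Cfsg.Agent.RankOneClass.Odd.Residual

/-!
# Values at the involutions
-/

set_option autoImplicit false
set_option linter.unusedSectionVars false

namespace Cfsg.Agent.RankOneClass.Odd

open Subgroup MulAction Cfsg.Agent.RankOne Cfsg.Agent.Zassenhaus
open scoped ComplexConjugate _root_.Classical

universe u v

theorem exists_int_invol {G : Type u} [Group G] [Finite G] (χ : IrrCharacter G) {s : G}
    (hs : s * s = 1) : ∃ e : ℤ, (χ : G → ℂ) s = e := by
  obtain ⟨d, ρ, -, he⟩ := χ.2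
  obtain ⟨μ, b, -, hμ, hval⟩ := Char.exists_eigenbasis ρ s
  have : ∀ i, ∃ e : ℤ, μ i = e := fun i => by
    have h2 : μ i ^ 2 = 1 := by
      obtain ⟨j, hj⟩ := orderOf_dvd_of_pow_eq_one (show s ^ 2 = 1 by rw [pow_two, hs])
      rw [hj, pow_mul, hμ i, one_pow]
    rcases sq_eq_one_iff.1 h2 with h | h
    · exact ⟨1, by simp [h]⟩
    · exact ⟨-1, by simp [h]⟩
  choose e he' using this
  exact ⟨∑ i, e i, by rw [← he, hval]; push_cast; exact Finset.sum_congr rfl fun i _ => he' i⟩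

/-- The value at an involution. -/
noncomputable def iVal {G : Type u} [Group G] [Finite G] (χ : IrrCharacter G) {s : G}
    (hs : s * s = 1) : ℤ :=
  (exists_int_invol χ hs).choose

theorem iVal_spec {G : Type u} [Group G] [Finite G] (χ : IrrCharacter G) {s : G} (hs : s * s = 1) :
    (χ : G → ℂ) s = iVal χ hs :=
  (exists_int_invol χ hs).choose_spec

variable {G : Type u} {Ω : Type v} [Group G] [Fintype G] [MulAction G Ω] {a : Ω} {t : G}
  {Q S O : Subgroup G}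

/-- The indicator of a trivial central character. -/
noncomputable def omInd (hp : CentPair S (zGrp G a)) (η : IrrCharacter ↥S) : ℤ :=
  if (om hp η : ↥(zGrp G a) → ℂ) = fun _ => 1 then 1 else 0

theorem omInd_cases (hp : CentPair S (zGrp G a)) (η : IrrCharacter ↥S) :
    omInd hp η = 0 ∨ omInd hp η = 1 := by
  unfold omInd
  split_ifs <;> simp

variable (hc : Cfg a t Q S O) {lam : IrrCharacter ↥O} (hlam : cdeg lam = 1)
  (hne : (lam : ↥O → ℂ) ≠ fun _ => 1)
include hc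

theorem Cfg.zsum_chr (η : IrrCharacter ↥S) {μ : IrrCharacter ↥O} (hμ : cdeg μ = 1) :
    ∑ z ∈ zSharp G a, extendByZero Q (hc.dec.chr η μ : ↥Q → ℂ) z =
      ((cdeg η : ℤ) * ((qq G a : ℤ) * omInd hc.pair η - 1) : ℤ) := by
  have hval : ∀ z : ↥(zGrp G a), extendByZero Q (hc.dec.chr η μ : ↥Q → ℂ) z =
      (cdeg η : ℂ) * (om hc.pair η : ↥(zGrp G a) → ℂ) z := by
    intro z
    rw [show (z : G) = ((⟨z, hc.ctx.zGrp_le z.2⟩ : ↥Q) : G) from rfl, Char.extendByZero_coe,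
      Dec.chr_apply]
    have e : hc.dec.equiv ⟨z, hc.ctx.zGrp_le z.2⟩ = (⟨z, hc.zle z.2⟩, 1) := by
      rw [← hc.dec.equiv_mul ⟨z, hc.zle z.2⟩ 1]
      exact congrArg _ (Subtype.ext (mul_one _).symm)
    rw [e, apply_om hc.pair η z, (cdeg_spec μ).2, hμ, Nat.cast_one, mul_one]
  have hins : Finset.univ.filter (fun z : G => z ∈ zGrp G a) = insert 1 (zSharp G a) := by
    ext z
    simp only [Finset.mem_filter, Finset.mem_univ, true_and, Finset.mem_insert, mem_zSharp]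
    by_cases hz : z = 1 <;> simp [hz]
  have h1 : (1 : G) ∉ zSharp G a := fun h => (mem_zSharp.1 h).2 rfl
  have htot : ∑ z ∈ Finset.univ.filter (fun z : G => z ∈ zGrp G a),
      extendByZero Q (hc.dec.chr η μ : ↥Q → ℂ) z =
        (cdeg η : ℂ) * ((qq G a : ℂ) * (omInd hc.pair η : ℂ)) := by
    rw [Finset.sum_subtype (Finset.univ.filter fun z : G => z ∈ zGrp G a)
      (p := fun z => z ∈ zGrp G a) (fun z => by simp), Finset.sum_congr rfl fun z _ => hval z,
      ← Finset.mul_sum]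
    congr 1
    have h := Char.classInner_irrChar (G := ↥(zGrp G a)) (om hc.pair η) (oneChr ↥(zGrp G a))
    rw [classInner, inv_mul_eq_iff_eq_mul₀ (Nat.cast_ne_zero.2 Nat.card_pos.ne')] at h
    simp only [oneChr, map_one, mul_one, Subtype.ext_iff] at h
    rw [h]
    unfold qq omInd
    split_ifs <;> simp
  rw [hins, Finset.sum_insert h1] at htot
  rw [show extendByZero Q (hc.dec.chr η μ : ↥Q → ℂ) 1 = (cdeg η : ℂ) by
    rw [show (1 : G) = ((1 : ↥Q) : G) from rfl, Char.extendByZero_coe, (cdeg_spec _).2,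
      hc.dec.cdeg_chr, hμ, mul_one]] at htot
  push_cast
  linear_combination htot

theorem Cfg.ind_at_invol (θ : IrrCharacter ↥Q) {z : G} (hz : z ∈ zSharp G a) :
    indFun Q (θ : ↥Q → ℂ) z =
      (Nat.card (vGrp G a t) : ℂ) * ∑ x ∈ zSharp G a, extendByZero Q (θ : ↥Q → ℂ) x := by
  rw [← sum_D_invol hc.ctx (extendByZero Q (θ : ↥Q → ℂ)) hz]
  have hzQ := hc.ctx.zGrp_le (mem_zSharp.1 hz).1
  have hne : (⟨z, hzQ⟩ : ↥Q) ≠ 1 := fun e => (mem_zSharp.1 hz).2 (congrArg Subtype.val e)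
  rw [show z = ((⟨z, hzQ⟩ : ↥Q) : G) from rfl, (frame hc.ctx).ind_apply θ hne]
  refine Finset.sum_congr rfl fun d _ => ?_
  rw [show (d : G)⁻¹ * z * d = ((cjHom (frame hc.ctx).norm d⁻¹ ⟨z, hzQ⟩ : ↥Q) : G) by
    rw [cjHom_coe]; simp, Char.extendByZero_coe]

/-- The sum over pairs of involutions for an induced row. -/
theorem Cfg.pair_row (θ : IrrCharacter ↥Q) {s : G} (hs : s ∈ zSharp G a) :
    ∑ χ : IrrCharacter G, (mv θ χ : ℂ) *
      (((invols G).card : ℂ) ^ 2 * (χ : G → ℂ) s ^ 2 / (χ : G → ℂ) 1) =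
      (Nat.card (twoPt G a t) : ℂ) * ((Nat.card Q : ℂ) + 1) *
        ((cdeg θ : ℂ) * ((Nat.card Q + 1) * (qq G a - 1) : ℕ) +
          ((qq G a - 2 : ℕ) : ℂ) * ∑ z ∈ zSharp G a, extendByZero Q (θ : ↥Q → ℂ) z) := by
  rw [pair_gen Q (θ : ↥Q → ℂ) (fun χ => (mv θ χ : ℂ)) (ind_eq_sum θ) (invols G)
    (invols_class hc.ctx hs) (fun u hu => (mem_invols.1 hu).2),
    sum_count hc.ctx (θ : ↥Q → ℂ) (fun x _ hx => ⟨smul_a_of_mem_Q hc.ctx.setup x.2,
      fun c h => fixes_only hc.ctx.setup x.2 hx h⟩) hc.ctx.zGrp_le, (cdeg_spec θ).2,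
    (frame hc.ctx).index_Q]
  push_cast
  ring

include hlam hne

omit hlam in
theorem Cfg.ind_mv_eq {θ θ' : IrrCharacter ↥Q} (e : mv θ = mv θ') :
    indFun Q (θ : ↥Q → ℂ) = indFun Q (θ' : ↥Q → ℂ) := by
  rw [ind_eq_sum, ind_eq_sum, e]

theorem Cfg.cdeg_sel (b : Bool) : cdeg (selC lam b) = 1 := by
  cases b <;> simp [selC, cdeg_conjIrr, hlam]

/-- Each row has a generator. -/
theorem Cfg.exists_gen (i : Idx (members hc lam)) :
    ∃ η ∈ regSet hc.dec (stabC hc.dec.normO lam), ∃ b,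
      mv (hc.dec.chr η (selC lam b)) = i.1 ∧ cdeg η = (hc.fam hne).rows.f i := by
  obtain ⟨η, hη, d, b, e⟩ := (hc.mem_members hne).1 (rep_mem i)
  refine ⟨η, hη, b, ?_, ?_⟩
  · rw [← mv_rep i, ← e, genMem, (frame hc.ctx).mv_actC]
  · rw [(hc.fam hne).rows_f, ← e, hc.cdeg_gen hlam]

variable {M : ℕ} (hM : Nat.card S = M * qq G a) (P : Part (hc.fam hne).rows Finset.univ)
include hM

/-- The consequences of coherence for one linear row with indicator `δ₀`. -/
theorem Cfg.row_facts {s : G} (hs : s ∈ zSharp G a) (hs2 : s * s = 1) {η₀ : IrrCharacter ↥S}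
    (hη₀ : η₀ ∈ regSet hc.dec (stabC hc.dec.normO lam)) (h1 : cdeg η₀ = 1) :
    ∃ i₀ : Idx (members hc lam), (hc.fam hne).rows.f i₀ = 1 ∧
      mv (hc.dec.chr η₀ lam) = i₀.1 ∧
      (∀ η ∈ regSet hc.dec (stabC hc.dec.normO lam), ∀ b, ∀ i : Idx (members hc lam),
        mv (hc.dec.chr η (selC lam b)) = i.1 →
          (hc.fam hne).rows.f i = cdeg η ∧
          P.ε * (iVal (P.e i) hs2 - (cdeg η : ℤ) * iVal (P.e i₀) hs2) =
            (Nat.card (vGrp G a t) : ℤ) * cdeg η * qq G a * (omInd hc.pair η - omInd hc.pair η₀)) ∧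
      (hc.fam hne).W * (P.ε * iVal (P.e i₀) hs2 -
          (Nat.card (vGrp G a t) : ℤ) * ((qq G a : ℤ) * omInd hc.pair η₀ - 1)) ^ 2 ≤
        (M * qq G a : ℕ) * (Nat.card (vGrp G a t) : ℤ) := by
  have hm₀ : genMem hc lam (η₀, 1, false) ∈ members hc lam :=
    (hc.mem_members hne).2 ⟨η₀, hη₀, 1, false, rfl⟩
  set i₀ : Idx (members hc lam) := idx _ hm₀
  have hgen : genMem hc lam (η₀, 1, false) = hc.dec.chr η₀ lam := actC_one _ _
  have hf0 : (hc.fam hne).rows.f i₀ = 1 := by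
    rw [(hc.fam hne).rows_f, (hc.fam hne).f_idx hm₀, hc.cdeg_gen hlam]; exact h1
  have hi₀ : mv (hc.dec.chr η₀ lam) = i₀.1 := by rw [← hgen]; rfl
  have hval : ∀ η : IrrCharacter ↥S, ∀ b, ∀ i : Idx (members hc lam),
      mv (hc.dec.chr η (selC lam b)) = i.1 →
      indFun Q (rep i : ↥Q → ℂ) s =
        ((Nat.card (vGrp G a t) : ℤ) * ((cdeg η : ℤ) * ((qq G a : ℤ) * omInd hc.pair η - 1)) : ℤ) := by
    intro η b i he
    rw [hc.ind_mv_eq hne (θ' := hc.dec.chr η (selC lam b)) (by rw [mv_rep, he]), hc.ind_at_invol _ hs,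
      hc.zsum_chr η (hc.cdeg_sel hlam hne b)]
    push_cast; ring
  have hrow : ∀ η ∈ regSet hc.dec (stabC hc.dec.normO lam), ∀ b, ∀ i : Idx (members hc lam),
      mv (hc.dec.chr η (selC lam b)) = i.1 →
      (hc.fam hne).rows.f i = cdeg η ∧
        P.ε * (iVal (P.e i) hs2 - (cdeg η : ℤ) * iVal (P.e i₀) hs2) =
          (Nat.card (vGrp G a t) : ℤ) * cdeg η * qq G a * (omInd hc.pair η - omInd hc.pair η₀) := by
    intro η hη b i he
    have hm : genMem hc lam (η, 1, b) ∈ members hc lam :=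
      (hc.mem_members hne).2 ⟨η, hη, 1, b, rfl⟩
    have hfi : (hc.fam hne).rows.f i = cdeg η := by
      obtain rfl : idx (genMem hc lam (η, 1, b)) hm = i := Subtype.ext (by
        show mv (actC (frame hc.ctx).norm 1 (hc.dec.chr η (selC lam b))) = i.1
        rw [actC_one, he])
      rw [(hc.fam hne).rows_f, (hc.fam hne).f_idx hm, hc.cdeg_gen hlam]
    refine ⟨hfi, ?_⟩
    have h := (hc.fam hne).diff P i i₀ hf0 (fun χ => (χ : G → ℂ) s)
    simp only [sub_mul, Finset.sum_sub_distrib, mul_assoc, ← Finset.mul_sum] at h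
    rw [← ind_apply_sum, ← ind_apply_sum, hval η b i he, hval η₀ false i₀ hi₀, hfi, h1,
      iVal_spec (P.e i) hs2, iVal_spec (P.e i₀) hs2] at h
    have h' : ((P.ε * (iVal (P.e i) hs2 - (cdeg η : ℤ) * iVal (P.e i₀) hs2) : ℤ) : ℂ) =
        (((Nat.card (vGrp G a t) : ℤ) * cdeg η * qq G a *
          (omInd hc.pair η - omInd hc.pair η₀) : ℤ) : ℂ) := by
      push_cast at h ⊢
      linear_combination -h
    exact_mod_cast h'
  refine ⟨i₀, hf0, hi₀, hrow, ?_⟩
  set δ := P.ε * iVal (P.e i₀) hs2 -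
    (Nat.card (vGrp G a t) : ℤ) * ((qq G a : ℤ) * omInd hc.pair η₀ - 1)
  have hres : hc.resid hne P s ⟨s, hc.ctx.zGrp_le (mem_zSharp.1 hs).1⟩ =
      (((P.ε * ((hc.fam hne).W * δ) : ℤ)) : ℂ) := by
    have hx : (⟨s, hc.ctx.zGrp_le (mem_zSharp.1 hs).1⟩ : ↥Q) ≠ 1 :=
      fun e => (mem_zSharp.1 hs).2 (congrArg Subtype.val e)
    rw [Cfg.resid, (hc.fam hne).sum_apply hx]
    simp only [Fam.Rf, Fam.W, weight, Finset.sum_mul, Finset.mul_sum, Int.cast_sum,
      ← Finset.sum_sub_distrib]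
    refine Finset.sum_congr rfl fun i _ => ?_
    obtain ⟨η, hη, b, he, hdeg⟩ := hc.exists_gen hlam hne i
    rw [hval η b i he, iVal_spec (P.e i) hs2]
    have h2 := (hrow η hη b i he).2
    have hz : ((hc.fam hne).rows.f i : ℤ) * iVal (P.e i) hs2 - P.ε * ((hc.fam hne).rows.f i *
        ((Nat.card (vGrp G a t) : ℤ) * ((cdeg η : ℤ) * ((qq G a : ℤ) * omInd hc.pair η - 1)))) =
        P.ε * (((hc.fam hne).rows.f i : ℤ) * (hc.fam hne).rows.f i * δ) := by
      rw [← hdeg]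
      simp only [δ]
      linear_combination ((cdeg η : ℤ) * P.ε) * h2 - ((cdeg η : ℤ) * iVal (P.e i) hs2) * P.εε
    have hz' := congrArg (Int.cast : ℤ → ℂ) hz
    push_cast at hz' ⊢
    linear_combination hz'
  have hb := hc.resid_bound hlam hne hM P hs
  rw [hres, ← Complex.ofReal_intCast, Complex.normSq_ofReal, hM, ← pow_two] at hb
  have hb' : (P.ε * ((hc.fam hne).W * δ)) ^ 2 ≤
      ((M * qq G a : ℕ) : ℤ) * Nat.card (vGrp G a t) * (hc.fam hne).W := by
    exact_mod_cast hb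
  have hWpos : 0 < (hc.fam hne).W :=
    Finset.sum_pos (fun i _ => mul_pos (by exact_mod_cast (hc.fam hne).rows.f_pos i)
      (by exact_mod_cast (hc.fam hne).rows.f_pos i)) ⟨i₀, Finset.mem_univ _⟩
  rw [mul_pow, pow_two P.ε, P.εε, one_mul] at hb'
  refine le_of_mul_le_mul_left ?_ hWpos
  linarith [show (hc.fam hne).W * ((hc.fam hne).W * δ ^ 2) = ((hc.fam hne).W * δ) ^ 2 by ring]

end Cfsg.Agent.RankOneClass.Odd
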