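import Cfsg.Agent.RankOneClass.Odd.Decomp
import Cfsg.Agent.RankOneClass.Odd.Central
import Cfsg.Agent.RankOneClass.Odd.Stab

/-!
# The characters of the 2-part moved by a small subgroup of `D`
-/

set_option autoImplicit false
set_option linter.unusedSectionVars false

namespace Cfsg.Agent.RankOneClass.Odd

open Subgroup MulAction Cfsg.Agent.RankOne Cfsg.Agent.Zassenhaus
open scoped ComplexConjugate _root_.Classical

universe u v

variable {G : Type u} {Ω : Type v} [Group G] [Finite G] [MulAction G Ω] {a : Ω} {t : G}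
  {Q S O : Subgroup G}

/-- The 2-part of `Q` has centre containing `Z` and commutators in `Z`. -/
theorem centPair (hC : Ctx G Ω a t Q) (h : Dec Q S O (twoPt G a t)) (hZ : zGrp G a ≤ S) :
    CentPair S (zGrp G a) := by
  refine ⟨hZ, fun z hz x hx => (hC.zGrp_central hz (h.S_le hx)).eq, ?_⟩
  haveI := hC.faithful
  haveI : Fact (Nat.Prime 2) := ⟨Nat.prime_two⟩
  obtain ⟨P, hP⟩ := (h.two.of_equiv (subgroupOfEquivOfLe h.S_le).symm).exists_le_sylow
  have hmem : ∀ x : ↥Q, x ∈ (P : Subgroup ↥Q) → (x : G) ∈ S := by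
    intro x hx
    obtain ⟨y, hy, z, hz, e⟩ := h.split x x.2
    have hz' : (⟨z, h.O_le hz⟩ : ↥Q) ∈ (P : Subgroup ↥Q) := by
      have e' : (⟨z, h.O_le hz⟩ : ↥Q) = (⟨y, h.S_le hy⟩ : ↥Q)⁻¹ * x :=
        Subtype.ext (by simp [← e])
      rw [e']
      exact mul_mem (inv_mem (hP (mem_subgroupOf.2 hy))) hx
    obtain ⟨k, hk⟩ := P.2 ⟨_, hz'⟩
    have hk' : z ^ 2 ^ k = 1 := congrArg (fun w : ↥(P : Subgroup ↥Q) => ((w : ↥Q) : G)) hk
    have hodd : Odd (orderOf z) := h.odd.of_dvd_nat (Subgroup.orderOf_dvd_natCard O hz)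
    have h1 : orderOf z = 1 := Nat.eq_one_of_dvd_coprimes
      (Nat.Coprime.pow_right k (Nat.coprime_two_right.2 hodd)) dvd_rfl (orderOf_dvd_of_pow_eq_one hk')
    rw [← e, orderOf_eq_one_iff.1 h1, mul_one]
    exact hy
  intro x hx y hy
  set x' : ↥(P : Subgroup ↥Q) := ⟨⟨x, h.S_le hx⟩, hP (mem_subgroupOf.2 hx)⟩
  set y' : ↥(P : Subgroup ↥Q) := ⟨⟨y, h.S_le hy⟩, hP (mem_subgroupOf.2 hy)⟩
  rcases S1132.result hC.setup hC.two P with hab | hsz
  · have e : x * y = y * x :=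
      congrArg (fun w : ↥(P : Subgroup ↥Q) => ((w : ↥Q) : G)) (hab.is_comm.comm x' y')
    rw [show x⁻¹ * y⁻¹ * x * y = x⁻¹ * y⁻¹ * (x * y) by group, e]
    simp
  · obtain ⟨-, h1, -, -⟩ := S1138.result hsz
    obtain ⟨-, hc2⟩ := isSuzuki_center hsz
    exact hC.mem_zGrp_of_sq (mul_mem (mul_mem (mul_mem (inv_mem (h.S_le hx)) (inv_mem (h.S_le hy)))
      (h.S_le hx)) (h.S_le hy))
      (congrArg (fun w : ↥(P : Subgroup ↥Q) => ((w : ↥Q) : G)) (hc2 _ (h1 x' y')))

variable (hC : Ctx G Ω a t Q) (h : Dec Q S O (twoPt G a t)) (hp : CentPair S (zGrp G a))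
  {L : Subgroup ↥(twoPt G a t)}

/-- The characters moved by every non-trivial element of `L`. -/
noncomputable def regSet (h : Dec Q S O (twoPt G a t)) (L : Subgroup ↥(twoPt G a t)) :
    Finset (IrrCharacter ↥S) :=
  Finset.univ.filter fun η => ∀ d ∈ L, actC h.normS d η = η → d = 1

theorem mem_regSet {η : IrrCharacter ↥S} :
    η ∈ regSet h L ↔ ∀ d ∈ L, actC h.normS d η = η → d = 1 := by simp [regSet]

theorem conj_mem_regSet {η : IrrCharacter ↥S} (hη : η ∈ regSet h L) :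
    Char.conjIrr η ∈ regSet h L := (mem_regSet h).2 fun d hd e => (mem_regSet h).1 hη d hd (by
  rw [actC_conjIrr] at e
  exact Function.LeftInverse.injective (g := Char.conjIrr) Char.conjIrr_conjIrr e)

theorem actC_mem_regSet {η : IrrCharacter ↥S} (hη : η ∈ regSet h L) {c : ↥(twoPt G a t)}
    (hc : c ∈ L) : actC h.normS c η ∈ regSet h L := (mem_regSet h).2 fun d hd e => by
  have e' : actC h.normS (c⁻¹ * d * c) η = η := by rw [actC_mul, actC_mul, e, actC_inv_cancel]
  have h1 := (mem_regSet h).1 hη _ (mul_mem (mul_mem (inv_mem hc) hd) hc) e'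
  simpa [mul_assoc] using congrArg (fun y => c * y * c⁻¹) h1

include hC

theorem normZ : NormBy (twoPt G a t) (zGrp G a) := fun _ hd _ hx =>
  hC.conj_mem_zGrp (twoPt_le hd) hx

include h hp

theorem exists_mult : ∃ j : ℕ, Nat.card S = qq G a ^ j * qq G a := by
  obtain ⟨j, hj⟩ := hC.card_eq_pow h.S_le h.two
    fun k hk x hx => h.normS k (Ctx.kGrp_le G a t hk) x hx
  have hd : qq G a ∣ qq G a ^ j := hj ▸ card_dvd_of_le hp.le
  rcases j with _ | i
  · have := Nat.le_of_dvd one_pos hd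
    have := hC.four_le_qq
    omega
  · exact ⟨i, by rw [hj, pow_succ]⟩

variable {M : ℕ} (hM : Nat.card S = M * qq G a)
include hM

theorem fibre_weight (w : IrrCharacter ↥(zGrp G a)) :
    ∑ η ∈ Finset.univ.filter (fun η : IrrCharacter ↥S => om hp η = w), cdeg η * cdeg η = M :=
  Nat.eq_of_mul_eq_mul_right (Nat.card_pos (α := ↥(zGrp G a)))
    ((weight_om hp w).trans hM)

theorem sq_cdeg_le (η : IrrCharacter ↥S) : cdeg η * cdeg η ≤ M := by
  rw [← fibre_weight hC h hp hM (om hp η)]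
  exact Finset.single_le_sum (f := fun η : IrrCharacter ↥S => cdeg η * cdeg η)
    (fun _ _ => Nat.zero_le _) (Finset.mem_filter.2 ⟨Finset.mem_univ η, rfl⟩)

/-- The linear characters trivial on `Z`. -/
noncomputable def linTriv (hp : CentPair S (zGrp G a)) : Finset (IrrCharacter ↥S) :=
  Finset.univ.filter fun η => (om hp η : ↥(zGrp G a) → ℂ) = fun _ => 1

omit hC h hM in
theorem mem_linTriv {η : IrrCharacter ↥S} :
    η ∈ linTriv hp ↔ (om hp η : ↥(zGrp G a) → ℂ) = fun _ => 1 := by simp [linTriv]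

theorem card_linTriv : (linTriv hp).card = M := by
  rw [← fibre_weight hC h hp hM ⟨fun _ => 1, Char.isIrrCharacter_one⟩]
  have e : ∀ η : IrrCharacter ↥S, ((om hp η : ↥(zGrp G a) → ℂ) = fun _ => 1) ↔
      om hp η = ⟨fun _ => 1, Char.isIrrCharacter_one⟩ := fun η =>
    ⟨fun e => Subtype.ext e, fun e => congrArg Subtype.val e⟩
  rw [linTriv, Finset.card_eq_sum_ones]
  refine Finset.sum_congr (Finset.filter_congr fun η _ => e η) fun η hη => ?_
  rw [cdeg_eq_one_of_om hp ((e η).2 (Finset.mem_filter.1 hη).2)]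

theorem weight_univ : ∑ η : IrrCharacter ↥S, cdeg η * cdeg η = M * qq G a := by
  rw [sum_cdeg_sq, hM]

variable (hL : ∀ d ∈ L, d ≠ 1 → Lone G a (d : G)) (hLp : Nat.card L = 1 ∨ (Nat.card L).Prime)
include hL hLp

omit hC hM hL in
theorem fixed_of_not_reg {η : IrrCharacter ↥S} (hη : η ∉ regSet h L) {d₀ : ↥(twoPt G a t)}
    (hd₀ : d₀ ∈ L) : actC h.normS d₀ η = η := by
  rw [mem_regSet] at hη
  push Not at hη
  obtain ⟨d, hd, he, hd1⟩ := hη
  have hz : zpowers d = L := by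
    refine eq_of_le_of_card_ge ((zpowers_le).2 hd) ?_
    rcases hLp with h1 | hprime
    · exact absurd (Subgroup.eq_bot_of_card_eq _ h1 ▸ hd) (by simpa using hd1)
    · rcases (Nat.dvd_prime hprime).1 (card_dvd_of_le ((zpowers_le).2 hd)) with h1 | h1
      · exact absurd (Subgroup.eq_bot_of_card_eq _ h1 ▸ mem_zpowers d) (by simpa using hd1)
      · exact h1.ge
  exact (zpowers_le).2 (show d ∈ stabC h.normS η from he) (hz.symm ▸ hd₀)

omit hC h hM hLp in
theorem card_fixed_om (hC : Ctx G Ω a t Q) {d₀ : ↥(twoPt G a t)} (hd₀ : d₀ ∈ L) (hd1 : d₀ ≠ 1) :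
    (Finset.univ.filter fun w : IrrCharacter ↥(zGrp G a) => actC (normZ hC) d₀ w = w).card = 2 := by
  rw [← Fintype.card_subtype, ← Nat.card_eq_fintype_card,
    card_fixed_chars (normZ hC) d₀ (fun x y => Subtype.ext (hC.zGrp_comm x.2 y.2).eq),
    (hL d₀ hd₀ hd1).card_fixed hC (normZ hC)]

theorem reg_weight : (qq G a - 2) * M ≤ ∑ η ∈ regSet h L, cdeg η * cdeg η := by
  by_cases hL1 : L = ⊥
  · rw [show regSet h L = Finset.univ from Finset.eq_univ_of_forall fun η => (mem_regSet h).2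
      fun d hd _ => by rw [hL1] at hd; exact mem_bot.1 hd, weight_univ hC h hp hM]
    rw [mul_comm M]
    exact Nat.mul_le_mul_right _ (Nat.sub_le _ _)
  obtain ⟨d₀, hd₀, hd1⟩ := (bot_or_exists_ne_one L).resolve_left hL1
  have hbad : ∑ η ∈ (regSet h L)ᶜ, cdeg η * cdeg η ≤ 2 * M := by
    calc ∑ η ∈ (regSet h L)ᶜ, cdeg η * cdeg η
        ≤ ∑ η ∈ Finset.univ.filter (fun η : IrrCharacter ↥S => actC (normZ hC) d₀ (om hp η) = om hp η),
            cdeg η * cdeg η := Finset.sum_le_sum_of_subset fun η hη => Finset.mem_filter.2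
          ⟨Finset.mem_univ _, by
            rw [← om_actC hp h.normS, fixed_of_not_reg h hp hLp (Finset.mem_compl.1 hη) hd₀]⟩
      _ = ∑ w ∈ Finset.univ.filter (fun w : IrrCharacter ↥(zGrp G a) => actC (normZ hC) d₀ w = w),
            ∑ η ∈ Finset.univ.filter (fun η : IrrCharacter ↥S => om hp η = w), cdeg η * cdeg η := by
          rw [Finset.sum_fiberwise_eq_sum_filter]
          exact Finset.sum_congr (Finset.filter_congr fun η _ => by simp) fun _ _ => rfl
      _ = 2 * M := by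
          rw [Finset.sum_congr rfl fun w _ => fibre_weight hC h hp hM w, Finset.sum_const,
            card_fixed_om hp hL hC hd₀ hd1, smul_eq_mul]
  have htot := weight_univ hC h hp hM
  rw [← Finset.sum_add_sum_compl (regSet h L)] at htot
  rw [Nat.sub_mul]
  have : M * qq G a = qq G a * M := mul_comm _ _
  omega

omit hp hM in
theorem comm_K {d : ↥(twoPt G a t)} (hd : d ∈ L) (hd1 : d ≠ 1) {κ : G} (hκ : κ ∈ kGrp G a t)
    (hκ1 : κ ≠ 1) : κ * (d : G) * κ⁻¹ * (d : G)⁻¹ ∈ kGrp G a t ∧ κ * (d : G) * κ⁻¹ * (d : G)⁻¹ ≠ 1 := by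
  refine ⟨?_, fun e => hκ1 ((hL d hd hd1).eq_one_of_commute hC hκ ?_)⟩
  · rw [show κ * (d : G) * κ⁻¹ * (d : G)⁻¹ = κ * ((d : G) * κ⁻¹ * (d : G)⁻¹) by group]
    exact mul_mem hκ (hC.conj_mem_kGrp d.2 (inv_mem hκ))
  · rw [mul_inv_eq_one, mul_inv_eq_iff_eq_mul] at e
    exact e.symm

omit hp hM hL hLp in
/-- `K` fixes no non-principal character of `S`. -/
theorem kGrp_moves {d : ↥(twoPt G a t)} (hd : (d : G) ∈ kGrp G a t) (hd1 : d ≠ 1)
    {η : IrrCharacter ↥S} (he : actC h.normS d η = η) : (η : ↥S → ℂ) = fun _ => 1 := by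
  by_contra hne
  obtain ⟨x, hx1, hx⟩ := exists_cent_of_fixed h.normS he hne
  exact hx1 (Subtype.ext (hC.kGrp_fpf hd (fun e => hd1 (Subtype.ext e)) (h.S_le x.2)
    (mul_inv_eq_iff_eq_mul.1 (congrArg Subtype.val hx))))

theorem sq_fixed_le {d₀ : ↥(twoPt G a t)} (hd₀ : d₀ ∈ L) (hd1 : d₀ ≠ 1) :
    ((linTriv hp).filter fun η => actC h.normS d₀ η = η).card *
      ((linTriv hp).filter fun η => actC h.normS d₀ η = η).card ≤ M := by
  have h2 : 2 ≤ Nat.card (kGrp G a t) := by have := hC.card_kGrp; have := hC.four_le_qq; omega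
  obtain ⟨κ, hκ, hκ1⟩ := (bot_or_exists_ne_one (kGrp G a t)).resolve_left fun e => by
    rw [e, Subgroup.card_bot] at h2; omega
  set c : ↥(twoPt G a t) := ⟨κ, Ctx.kGrp_le G a t hκ⟩
  obtain ⟨hkK, hk1⟩ := comm_K hC h hL hLp hd₀ hd1 hκ hκ1
  set A := (linTriv hp).filter fun η => actC h.normS d₀ η = η with hA
  have hlin : ∀ η ∈ A, cdeg η = 1 ∧ (om hp η : ↥(zGrp G a) → ℂ) = fun _ => 1 := fun η hη =>
    have e := (Finset.mem_filter.1 (Finset.mem_filter.1 hη).1).2
    ⟨cdeg_eq_one_of_om hp e, e⟩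
  have hlin' : ∀ η ∈ A, cdeg (actC h.normS c η) = 1 := fun η hη => by
    rw [cdeg_actC]; exact (hlin η hη).1
  rw [← Finset.card_product]
  refine (Finset.card_le_card_of_injOn (t := linTriv hp)
    (fun p => mulLin p.1 (actC h.normS c p.2)) ?_ ?_).trans (card_linTriv hC h hp hM).le
  · intro p hp'
    obtain ⟨h1, h2⟩ := Finset.mem_product.1 hp'
    simp only [linTriv, Finset.coe_filter, Finset.mem_univ, true_and, Set.mem_ofPred_eq]
    funext z
    have hdeg : cdeg (mulLin p.1 (actC h.normS c p.2)) = 1 := cdeg_eq (by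
      rw [mulLin_apply (hlin _ h1).1 (hlin' _ h2), (cdeg_spec _).2, (cdeg_spec _).2, (hlin _ h1).1,
        hlin' _ h2]; simp)
    have e := apply_om hp (mulLin p.1 (actC h.normS c p.2)) z
    rw [hdeg, mulLin_apply (hlin _ h1).1 (hlin' _ h2), apply_om hp, apply_om hp,
      om_actC hp h.normS (normZ hC), (hlin _ h1).1, hlin' _ h2] at e
    rw [show (actC (normZ hC) c (om hp p.2) : ↥(zGrp G a) → ℂ) z = 1 by
      rw [actC_apply, (hlin _ h2).2], (hlin _ h1).2] at e
    simpa using e.symm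
  · rintro ⟨α, β⟩ hp1 ⟨α', β'⟩ hp2 e
    obtain ⟨hα, hβ⟩ := Finset.mem_product.1 hp1
    obtain ⟨hα', hβ'⟩ := Finset.mem_product.1 hp2
    have hcA : cdeg (Char.conjIrr α') = 1 := by rw [cdeg_conjIrr, (hlin _ hα').1]
    have hcB : cdeg (Char.conjIrr β) = 1 := by rw [cdeg_conjIrr, (hlin _ hβ).1]
    set γ := mulLin α (Char.conjIrr α')
    set δ := mulLin β' (Char.conjIrr β)
    have hγ : γ = actC h.normS c δ := Subtype.ext (funext fun x => by
      have e' := congrFun (congrArg Subtype.val e) x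
      simp only [mulLin_apply (hlin _ hα).1 (hlin' _ hβ),
        mulLin_apply (hlin _ hα').1 (hlin' _ hβ'), actC_apply] at e'
      simp only [γ, δ, actC_apply, mulLin_apply (hlin _ hα).1 hcA,
        mulLin_apply (hlin _ hβ').1 hcB, Char.conjIrr_apply]
      set y := cjHom h.normS c⁻¹ x
      calc (α : ↥S → ℂ) x * conj ((α' : ↥S → ℂ) x)
          = (α : ↥S → ℂ) x * (β : ↥S → ℂ) y * conj ((β : ↥S → ℂ) y) * conj ((α' : ↥S → ℂ) x) := by
            rw [mul_assoc ((α : ↥S → ℂ) x), lin_mul_conj (hlin _ hβ).1, mul_one]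
        _ = (α' : ↥S → ℂ) x * conj ((α' : ↥S → ℂ) x) *
              ((β' : ↥S → ℂ) y * conj ((β : ↥S → ℂ) y)) := by rw [e']; ring
        _ = _ := by rw [lin_mul_conj (hlin _ hα').1, one_mul])
    have hfix : ∀ {η η' : IrrCharacter ↥S}, η ∈ A → η' ∈ A →
        actC h.normS d₀ (mulLin η (Char.conjIrr η')) = mulLin η (Char.conjIrr η') := by
      intro η η' hη hη'
      have hc : cdeg (Char.conjIrr η') = 1 := by rw [cdeg_conjIrr, (hlin _ hη').1]
      refine Subtype.ext (funext fun x => ?_)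
      rw [actC_apply, mulLin_apply (hlin _ hη).1 hc, mulLin_apply (hlin _ hη).1 hc,
        Char.conjIrr_apply, Char.conjIrr_apply, ← actC_apply, ← actC_apply,
        (Finset.mem_filter.1 hη).2, (Finset.mem_filter.1 hη').2]
    have hδ : actC h.normS (c * d₀ * c⁻¹) γ = γ := by
      rw [actC_mul, hγ, actC_inv_cancel, actC_mul, hfix hβ' hβ]
    have hkey : actC h.normS (c * d₀ * c⁻¹ * d₀⁻¹) γ = γ := by
      have hinv : actC h.normS d₀⁻¹ γ = γ :=
        (congrArg (actC h.normS d₀⁻¹) (hfix hα hα')).symm.trans (actC_inv_cancel _ _ _)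
      rw [actC_mul, hinv]
      exact hδ
    have hγ1 : (γ : ↥S → ℂ) = fun _ => 1 := kGrp_moves hC h (d := c * d₀ * c⁻¹ * d₀⁻¹)
      hkK (fun e => hk1 (congrArg Subtype.val e)) hkey
    have hδ1 : (δ : ↥S → ℂ) = fun _ => 1 := funext fun x => by
      have := congrFun (congrArg Subtype.val hγ) (cjHom h.normS c x)
      rw [hγ1, actC_apply, cjHom_cancel] at this
      exact this.symm
    have heq : ∀ {η η' : IrrCharacter ↥S}, η ∈ A → η' ∈ A →
        (mulLin η (Char.conjIrr η') : ↥S → ℂ) = (fun _ => 1) → η = η' := by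
      intro η η' hη hη' h1
      refine Subtype.ext (funext fun x => ?_)
      have := congrFun h1 x
      rw [mulLin_apply (hlin _ hη).1 (by rw [cdeg_conjIrr, (hlin _ hη').1]), Char.conjIrr_apply] at this
      calc (η : ↥S → ℂ) x = (η : ↥S → ℂ) x * ((η' : ↥S → ℂ) x * conj ((η' : ↥S → ℂ) x)) := by
            rw [lin_mul_conj (hlin _ hη').1, mul_one]
        _ = (η' : ↥S → ℂ) x * ((η : ↥S → ℂ) x * conj ((η' : ↥S → ℂ) x)) := by ring
        _ = _ := by rw [this, mul_one]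
    exact Prod.ext (heq hα hα' hγ1) (heq hβ' hβ hδ1).symm

theorem exists_lin_bound : ∃ C : ℕ, C * C ≤ M ∧ (L = ⊥ → C = 0) ∧
    ∃ A : Finset (IrrCharacter ↥S),
      (∀ η ∈ A, η ∈ regSet h L ∧ (om hp η : ↥(zGrp G a) → ℂ) = fun _ => 1) ∧ M ≤ A.card + C := by
  by_cases hL1 : L = ⊥
  · refine ⟨0, Nat.zero_le _, fun _ => rfl, linTriv hp, fun η hη => ⟨(mem_regSet h).2
      fun d hd _ => by rw [hL1] at hd; exact mem_bot.1 hd, (Finset.mem_filter.1 hη).2⟩, ?_⟩
    rw [card_linTriv hC h hp hM, add_zero]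
  obtain ⟨d₀, hd₀, hd1⟩ := (bot_or_exists_ne_one L).resolve_left hL1
  refine ⟨_, sq_fixed_le hC h hp hM hL hLp hd₀ hd1, fun e => absurd e hL1,
    (linTriv hp).filter fun η => η ∈ regSet h L, fun η hη => ⟨(Finset.mem_filter.1 hη).2,
      (Finset.mem_filter.1 (Finset.mem_filter.1 hη).1).2⟩, ?_⟩
  calc M = (linTriv hp).card := (card_linTriv hC h hp hM).symm
    _ ≤ _ := by
      refine (Finset.card_le_card fun η hη => ?_).trans (Finset.card_union_le _ _)
      by_cases hr : η ∈ regSet h L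
      · exact Finset.mem_union_left _ (Finset.mem_filter.2 ⟨hη, hr⟩)
      · exact Finset.mem_union_right _
          (Finset.mem_filter.2 ⟨hη, fixed_of_not_reg h hp hLp hr hd₀⟩)

theorem class_bound {η : IrrCharacter ↥S} (hη : 1 < cdeg η) :
    qq G a - 2 ≤ ((regSet h L).filter fun η' => cdeg η' = cdeg η).card := by
  letI := Fintype.ofFinite ↥(kGrp G a t)
  let φ : ↥(kGrp G a t) → IrrCharacter ↥S := fun k =>
    actC h.normS ⟨k, Ctx.kGrp_le G a t k.2⟩ η
  have hom : (om hp η : ↥(zGrp G a) → ℂ) ≠ fun _ => 1 := fun e => by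
    rw [cdeg_eq_one_of_om hp e] at hη; omega
  have hdvd : ∀ k k' : ↥(kGrp G a t), actC (normZ hC) ⟨k, Ctx.kGrp_le G a t k.2⟩ (om hp η) =
      actC (normZ hC) ⟨k', Ctx.kGrp_le G a t k'.2⟩ (om hp η) → k = k' := by
    intro k k' e
    by_contra hne
    have e' : actC (normZ hC) ((⟨k', Ctx.kGrp_le G a t k'.2⟩ : ↥(twoPt G a t))⁻¹ *
        ⟨k, Ctx.kGrp_le G a t k.2⟩) (om hp η) = om hp η := by
      rw [actC_mul, e, actC_inv_cancel]
    obtain ⟨x, hx1, hx⟩ := exists_cent_of_fixed (normZ hC) e' hom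
    refine hx1 (Subtype.ext (hC.kGrp_fpf (k := (k' : G)⁻¹ * k) (mul_mem (inv_mem k'.2) k.2)
      (fun e => hne (Subtype.ext (inv_mul_eq_one.1 e).symm)) (hC.zGrp_le x.2)
      (mul_inv_eq_iff_eq_mul.1 ?_)))
    exact congrArg Subtype.val hx
  have hinj : Function.Injective φ := fun k k' e => hdvd k k' (by
    rw [← om_actC hp h.normS, ← om_actC hp h.normS]; exact congrArg (om hp) e)
  have hone : ((Finset.univ : Finset ↥(kGrp G a t)).filter fun k => φ k ∉ regSet h L).card ≤ 1 := by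
    refine Finset.card_le_one.2 fun k hk k' hk' => ?_
    have hLne : L ≠ ⊥ := fun e => (Finset.mem_filter.1 hk).2 ((mem_regSet h).2
      fun d hd _ => by rw [e] at hd; exact mem_bot.1 hd)
    obtain ⟨d₀, hd₀, hd1⟩ := (bot_or_exists_ne_one L).resolve_left hLne
    have hf : ∀ j : ↥(kGrp G a t), φ j ∉ regSet h L →
        actC (normZ hC) ⟨j, Ctx.kGrp_le G a t j.2⟩ (om hp η) ∈
          (Finset.univ.filter fun w : IrrCharacter ↥(zGrp G a) => actC (normZ hC) d₀ w = w).erase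
            ⟨fun _ => 1, Char.isIrrCharacter_one⟩ := by
      intro j hj
      rw [← om_actC hp h.normS (normZ hC), Finset.mem_erase, Finset.mem_filter]
      refine ⟨fun e => ?_, Finset.mem_univ _, by
        rw [← om_actC hp h.normS, fixed_of_not_reg h hp hLp hj hd₀]⟩
      have := cdeg_eq_one_of_om hp (η := φ j) (congrArg Subtype.val e)
      simp only [φ, cdeg_actC] at this
      omega
    have hc1 : ((Finset.univ.filter fun w : IrrCharacter ↥(zGrp G a) => actC (normZ hC) d₀ w = w).erase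
        ⟨fun _ => 1, Char.isIrrCharacter_one⟩).card ≤ 1 := by
      rw [Finset.card_erase_of_mem, card_fixed_om hp hL hC hd₀ hd1]
      exact Finset.mem_filter.2 ⟨Finset.mem_univ _, Subtype.ext rfl⟩
    exact hdvd k k' (Finset.card_le_one.1 hc1 _ (hf k (Finset.mem_filter.1 hk).2) _
      (hf k' (Finset.mem_filter.1 hk').2))
  have htot := Finset.card_filter_add_card_filter_not (s := (Finset.univ : Finset ↥(kGrp G a t)))
    (fun k => φ k ∈ regSet h L)
  rw [Finset.card_univ, ← Nat.card_eq_fintype_card] at htot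
  have hle : ((Finset.univ : Finset ↥(kGrp G a t)).filter fun k => φ k ∈ regSet h L).card ≤
      ((regSet h L).filter fun η' => cdeg η' = cdeg η).card :=
    Finset.card_le_card_of_injOn φ (fun k hk => Finset.mem_filter.2
      ⟨(Finset.mem_filter.1 hk).2, cdeg_actC _ _ _⟩) hinj.injOn
  have hcard := hC.card_kGrp
  omega

end Cfsg.Agent.RankOneClass.Odd
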